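import Mathlib

/-!
# Cofiltered limits of schemes with affine transition maps (EGA IV 8) — helper7 library

* `pbDiagram`, `pbCone`, `isLimitPbCone`: base change of the limit cone along `g : T ⟶ D.obj i`.
* `range_π_app`: the image of `lim D ⟶ D i` is the intersection of the images of `D j ⟶ D i`.
-/

set_option autoImplicit false
universe u
open CategoryTheory CategoryTheory.Limits AlgebraicGeometry

namespace Groth.Agent.Lib.helper7.Lim8

variable {I : Type u} [SmallCategory I] (D : I ⥤ Scheme.{u}) (c : Cone D)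

section Pullback

variable (i : I) {T : Scheme.{u}} (g : T ⟶ D.obj i)

/-- The transition map `D j ×_{D i} T ⟶ D k ×_{D i} T`. -/
noncomputable def pbMap {j k : Over i} (f : j ⟶ k) :
    pullback (D.map j.hom) g ⟶ pullback (D.map k.hom) g :=
  pullback.lift (pullback.fst (D.map j.hom) g ≫ D.map f.left) (pullback.snd (D.map j.hom) g)
    (by rw [Category.assoc, ← D.map_comp, Over.w f, pullback.condition])

@[reassoc (attr := simp)] lemma pbMap_fst {j k : Over i} (f : j ⟶ k) :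
    pbMap D i g f ≫ pullback.fst (D.map k.hom) g =
      pullback.fst (D.map j.hom) g ≫ D.map f.left :=
  pullback.lift_fst _ _ _

@[reassoc (attr := simp)] lemma pbMap_snd {j k : Over i} (f : j ⟶ k) :
    pbMap D i g f ≫ pullback.snd (D.map k.hom) g = pullback.snd (D.map j.hom) g :=
  pullback.lift_snd _ _ _

/-- The diagram `j ↦ D j ×_{D i} T` indexed by `Over i`. -/
noncomputable def pbDiagram : Over i ⥤ Scheme.{u} where
  obj j := pullback (D.map j.hom) g
  map {j k} f := pbMap D i g f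
  map_id j := by
    apply pullback.hom_ext
    · rw [pbMap_fst, Category.id_comp]; simp
    · rw [pbMap_snd, Category.id_comp]
  map_comp f h := by
    apply pullback.hom_ext
    · rw [Category.assoc, pbMap_fst, pbMap_fst, pbMap_fst_assoc]; simp
    · rw [Category.assoc, pbMap_snd, pbMap_snd, pbMap_snd]

@[simp] lemma pbDiagram_obj (j : Over i) : (pbDiagram D i g).obj j = pullback (D.map j.hom) g := rfl

@[simp] lemma pbDiagram_map {j k : Over i} (f : j ⟶ k) : (pbDiagram D i g).map f = pbMap D i g f :=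
  rfl

/-- The projection `D j ×_{D i} T ⟶ D j`. -/
noncomputable def pbDiagramι : pbDiagram D i g ⟶ Over.forget i ⋙ D where
  app j := pullback.fst (D.map j.hom) g
  naturality j k f := by
    change pbMap D i g f ≫ pullback.fst (D.map k.hom) g = pullback.fst (D.map j.hom) g ≫ D.map f.left
    exact pbMap_fst D i g f

@[simp] lemma pbDiagramι_app (j : Over i) :
    (pbDiagramι D i g).app j = pullback.fst (D.map j.hom) g := rfl

/-- The component `lim D ×_{D i} T ⟶ D j ×_{D i} T` of the base-changed cone. -/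
noncomputable def pbConeApp (j : Over i) : pullback (c.π.app i) g ⟶ pullback (D.map j.hom) g :=
  pullback.lift (pullback.fst (c.π.app i) g ≫ c.π.app j.left) (pullback.snd (c.π.app i) g)
    (by rw [Category.assoc, c.w, pullback.condition])

@[reassoc (attr := simp)] lemma pbConeApp_fst (j : Over i) :
    pbConeApp D c i g j ≫ pullback.fst (D.map j.hom) g =
      pullback.fst (c.π.app i) g ≫ c.π.app j.left :=
  pullback.lift_fst _ _ _

@[reassoc (attr := simp)] lemma pbConeApp_snd (j : Over i) :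
    pbConeApp D c i g j ≫ pullback.snd (D.map j.hom) g = pullback.snd (c.π.app i) g :=
  pullback.lift_snd _ _ _

lemma pbConeApp_naturality {j k : Over i} (f : j ⟶ k) :
    pbConeApp D c i g j ≫ pbMap D i g f = pbConeApp D c i g k := by
  apply pullback.hom_ext
  · rw [Category.assoc, pbMap_fst, pbConeApp_fst_assoc, pbConeApp_fst, c.w]
  · rw [Category.assoc, pbMap_snd, pbConeApp_snd, pbConeApp_snd]

/-- The cone with point `lim D ×_{D i} T` over `pbDiagram`. -/
noncomputable def pbCone : Cone (pbDiagram D i g) where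
  pt := pullback (c.π.app i) g
  π :=
  { app j := pbConeApp D c i g j
    naturality j k f := by
      change 𝟙 _ ≫ pbConeApp D c i g k = pbConeApp D c i g j ≫ pbMap D i g f
      rw [Category.id_comp, pbConeApp_naturality] }

@[simp] lemma pbCone_pt : (pbCone D c i g).pt = pullback (c.π.app i) g := rfl

@[simp] lemma pbCone_π_app (j : Over i) : (pbCone D c i g).π.app j = pbConeApp D c i g j := rfl

attribute [local instance] CategoryTheory.isConnected_of_hasTerminal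

/-- `lim D ×_{D i} T` is the limit of the `D j ×_{D i} T`. -/
noncomputable def isLimitPbCone [IsCofiltered I] (hc : IsLimit c) : IsLimit (pbCone D c i g) :=
  isLimitOfIsPullbackOfIsConnected (pbDiagramι D i g) _ (c.whisker (Over.forget i))
    { hom := pullback.fst (c.π.app i) g
      w := fun j => by
        change pullback.fst (c.π.app i) g ≫ c.π.app j.left =
          pbConeApp D c i g j ≫ pullback.fst (D.map j.hom) g
        rw [pbConeApp_fst] }
    (fun j => by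
      change IsPullback (pbConeApp D c i g j) (pullback.fst (c.π.app i) g)
        (pullback.fst (D.map j.hom) g) (c.π.app j.left)
      have hbig : IsPullback (pbConeApp D c i g j ≫ pullback.snd (D.map j.hom) g)
          (pullback.fst (c.π.app i) g) g (c.π.app j.left ≫ D.map j.hom) := by
        rw [pbConeApp_snd, c.w]
        exact (IsPullback.of_hasPullback (c.π.app i) g).flip
      exact IsPullback.of_right hbig (pbConeApp_fst D c i g j)
        (IsPullback.of_hasPullback (D.map j.hom) g).flip)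
    ((Functor.Initial.isLimitWhiskerEquiv (Over.forget i) c).symm hc)

instance [∀ {i j : I} (f : i ⟶ j), IsAffineHom (D.map f)] [IsAffine T] (j : Over i) :
    IsAffine ((pbDiagram D i g).obj j) := by
  dsimp
  exact isAffine_of_isAffineHom (pullback.snd (D.map j.hom) g)

instance [∀ {i j : I} (f : i ⟶ j), IsAffineHom (D.map f)] [IsAffine T] {j k : Over i}
    (f : j ⟶ k) : IsAffineHom ((pbDiagram D i g).map f) :=
  have : IsAffine ((pbDiagram D i g).obj j) := inferInstance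
  have : IsAffine ((pbDiagram D i g).obj k) := inferInstance
  isAffineHom_of_isAffine _

end Pullback

/-- **EGA IV 8.3.8 (i)**: the image of `lim D ⟶ D i` is the intersection of the images of the
transition maps `D j ⟶ D i`. -/
theorem range_π_app [IsCofiltered I] (hc : IsLimit c)
    [∀ {i j : I} (f : i ⟶ j), IsAffineHom (D.map f)] (i : I) :
    Set.range ⇑(c.π.app i) = ⋂ (j : I) (φ : j ⟶ i), Set.range ⇑(D.map φ) := by
  apply Set.Subset.antisymm
  · rintro _ ⟨s, rfl⟩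
    refine Set.mem_iInter₂.mpr fun j φ => ⟨c.π.app j s, ?_⟩
    rw [← Scheme.Hom.comp_apply, c.w]
  · intro x hx
    rw [Set.mem_iInter₂] at hx
    let g := (D.obj i).fromSpecResidueField x
    have hne : ∀ j : Over i, Nonempty ((pbDiagram D i g).obj j) := by
      intro j
      obtain ⟨y, hy⟩ := hx j.left j.hom
      obtain ⟨t, ht⟩ : x ∈ Set.range ⇑g := by
        rw [Scheme.range_fromSpecResidueField]; rfl
      obtain ⟨z, -⟩ := Scheme.Pullback.exists_preimage_pullback (f := D.map j.hom) (g := g) y t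
        (hy.trans ht.symm)
      exact ⟨z⟩
    have hcp : ∀ j : Over i, CompactSpace ((pbDiagram D i g).obj j) := fun j => inferInstance
    obtain ⟨z⟩ := Scheme.nonempty_of_isLimit (pbDiagram D i g) (pbCone D c i g)
      (isLimitPbCone D c i g hc)
    refine ⟨pullback.fst (c.π.app i) g z, ?_⟩
    have h1 : c.π.app i (pullback.fst (c.π.app i) g z) = g (pullback.snd (c.π.app i) g z) := by
      rw [← Scheme.Hom.comp_apply, ← Scheme.Hom.comp_apply, pullback.condition]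
    rw [h1]
    have : g (pullback.snd (c.π.app i) g z) ∈ Set.range ⇑g := ⟨_, rfl⟩
    rw [Scheme.range_fromSpecResidueField] at this
    exact this

/-- A point of the limit over a nonempty-at-every-stage affine open. -/
theorem exists_π_app_mem_of_isAffineOpen [IsCofiltered I] (hc : IsLimit c)
    [∀ {i j : I} (f : i ⟶ j), IsAffineHom (D.map f)] (i : I) (V : (D.obj i).Opens)
    (hV : IsAffineOpen V) (hne : ∀ (j : I) (φ : j ⟶ i), ∃ y : D.obj j, D.map φ y ∈ V) :
    ∃ s : c.pt, c.π.app i s ∈ V := by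
  have h1 : ∀ j : Over i, IsAffine ((opensDiagram D i V).obj j) := fun j => hV.preimage _
  have h2 : ∀ j : Over i, Nonempty ((opensDiagram D i V).obj j) := by
    intro j
    obtain ⟨y, hy⟩ := hne j.left j.hom
    exact ⟨⟨y, hy⟩⟩
  obtain ⟨⟨s, hs⟩⟩ := Scheme.nonempty_of_isLimit (opensDiagram D i V) (opensCone D c i V)
    (isLimitOpensCone D c hc i V)
  exact ⟨s, hs⟩

/-- **EGA IV 8.3.8 (ii)**: `lim D ⟶ D i` is dominant iff all transition maps `D j ⟶ D i` are. -/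
theorem isDominant_π_app_iff [IsCofiltered I] (hc : IsLimit c)
    [∀ {i j : I} (f : i ⟶ j), IsAffineHom (D.map f)] (i : I) :
    IsDominant (c.π.app i) ↔ ∀ (j : I) (φ : j ⟶ i), IsDominant (D.map φ) := by
  constructor
  · intro h j φ
    refine ⟨h.denseRange.mono ?_⟩
    rintro _ ⟨s, rfl⟩
    refine ⟨c.π.app j s, ?_⟩
    rw [← Scheme.Hom.comp_apply, c.w]
  · intro h
    refine ⟨dense_iff_inter_open.mpr fun U hU ⟨x, hx⟩ => ?_⟩
    obtain ⟨_, ⟨V, hV : IsAffineOpen V, rfl⟩, hxV, hVU⟩ :=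
      (D.obj i).isBasis_affineOpens.exists_subset_of_mem_open hx hU
    obtain ⟨s, hs⟩ := exists_π_app_mem_of_isAffineOpen D c hc i V hV (fun j φ => by
      obtain ⟨_, hy, ⟨y, rfl⟩⟩ := dense_iff_inter_open.mp (h j φ).denseRange V V.2 ⟨x, hxV⟩
      exact ⟨y, hy⟩)
    exact ⟨c.π.app i s, hVU hs, ⟨s, rfl⟩⟩

section Constructible

open Topology

/-- Induction principle for constructible sets: differences of retrocompact opens, and unions. -/
lemma sdiff_union_induction {X : Type*} [TopologicalSpace X] {P : Set X → Prop}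
    (sdiff : ∀ A B : Set X, IsOpen A → IsRetrocompact A → IsOpen B → IsRetrocompact B → P (A \ B))
    (union : ∀ s t : Set X, IsConstructible s → IsConstructible t → P s → P t → P (s ∪ t))
    {s : Set X} (hs : IsConstructible s) : P s := by
  refine BooleanSubalgebra.closure_sdiff_sup_induction
    (s := {U : Set X | IsOpen U ∧ IsRetrocompact U}) (p := fun g _ => P g) ?_ ?_ ?_ ?_ ?_ s hs
  · exact ⟨fun s hs t ht ↦ ⟨hs.1.union ht.1, hs.2.union ht.2⟩,
      fun s hs t ht ↦ ⟨hs.1.inter ht.1, hs.2.inter_isOpen ht.2 ht.1⟩⟩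
  · exact ⟨isOpen_empty, .empty⟩
  · exact ⟨isOpen_univ, .univ⟩
  · intro x hx y hy
    exact sdiff x y hx.1 hx.2 hy.1 hy.2
  · intro x hx y hy px py
    exact union x y hx hy px py

/-- The intersection of a constructible set with a compact open set is compact. -/
lemma isCompact_inter_of_isConstructible {X : Type*} [TopologicalSpace X] {Z U : Set X}
    (hZ : IsConstructible Z) (hU : IsCompact U) (hU' : IsOpen U) : IsCompact (Z ∩ U) := by
  refine sdiff_union_induction (P := fun Z => IsCompact (Z ∩ U)) ?_ ?_ hZ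
  · intro A B hA hA' hB hB'
    have h1 : IsCompact ((A ∩ U) ∩ Bᶜ) := (hA' hU hU').inter_right hB.isClosed_compl
    have h2 : (A \ B) ∩ U = (A ∩ U) ∩ Bᶜ := by
      ext x; simp only [Set.mem_inter_iff, Set.mem_sdiff, Set.mem_compl_iff]; tauto
    rw [h2]; exact h1
  · intro s t _ _ hs ht
    rw [Set.union_inter_distrib_right]
    exact hs.union ht

lemma isCompact_of_isConstructible {X : Type*} [TopologicalSpace X] [CompactSpace X] {Z : Set X}
    (hZ : IsConstructible Z) : IsCompact Z := by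
  have := isCompact_inter_of_isConstructible hZ isCompact_univ isOpen_univ
  rwa [Set.inter_univ] at this

/-- In a scheme, a compact set inside an open set is contained in a compact open subset of it. -/
lemma exists_isCompact_opens_between (X : Scheme.{u}) {W O : Set X} (hW : IsCompact W)
    (hO : IsOpen O) (hWO : W ⊆ O) :
    ∃ U : X.Opens, IsCompact (U : Set X) ∧ W ⊆ U ∧ (U : Set X) ⊆ O := by
  classical
  have : ∀ w : W, ∃ N : X.Opens, IsAffineOpen N ∧ w.1 ∈ N ∧ (N : Set X) ⊆ O := by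
    intro w
    obtain ⟨_, ⟨N, hN : IsAffineOpen N, rfl⟩, hwN, hNO⟩ :=
      X.isBasis_affineOpens.exists_subset_of_mem_open (hWO w.2) hO
    exact ⟨N, hN, hwN, hNO⟩
  choose N hN hwN hNO using this
  obtain ⟨t, ht⟩ := hW.elim_nhds_subcover' (fun w hw => (N ⟨w, hw⟩ : Set X))
    (fun w hw => (N ⟨w, hw⟩).2.mem_nhds (hwN ⟨w, hw⟩))
  refine ⟨⨆ w ∈ t, N w, ?_, ?_, ?_⟩
  · simp only [TopologicalSpace.Opens.coe_iSup]
    exact t.isCompact_biUnion fun w _ => (hN w).isCompact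
  · simp only [TopologicalSpace.Opens.coe_iSup]
    exact ht
  · simp only [TopologicalSpace.Opens.coe_iSup]
    exact Set.iUnion₂_subset fun w _ => hNO w

variable {D c}

lemma map_comp_apply {j' j k : I} (f : j' ⟶ j) (ψ : j ⟶ k) (y : D.obj j') :
    D.map (f ≫ ψ) y = D.map ψ (D.map f y) := by
  rw [D.map_comp, Scheme.Hom.comp_apply]

lemma π_app_apply {j k : I} (ψ : j ⟶ k) (s : c.pt) :
    D.map ψ (c.π.app j s) = c.π.app k s := by
  rw [← Scheme.Hom.comp_apply, c.w]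

/-- Two stagewise properties, stable under passing to a finer stage, hold at a common stage. -/
lemma exists_common [IsCofiltered I] {k : I} {P Q : ∀ j : I, (j ⟶ k) → Prop}
    (hP : ∀ (j j' : I) (ψ : j ⟶ k) (f : j' ⟶ j), P j ψ → P j' (f ≫ ψ))
    (hQ : ∀ (j j' : I) (ψ : j ⟶ k) (f : j' ⟶ j), Q j ψ → Q j' (f ≫ ψ))
    (h1 : ∃ j ψ, P j ψ) (h2 : ∃ j ψ, Q j ψ) : ∃ j ψ, P j ψ ∧ Q j ψ := by
  obtain ⟨j₁, ψ₁, h₁⟩ := h1
  obtain ⟨j₂, ψ₂, h₂⟩ := h2
  let W := IsCofiltered.min (Over.mk ψ₁) (Over.mk ψ₂)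
  let f₁ : W ⟶ Over.mk ψ₁ := IsCofiltered.minToLeft _ _
  let f₂ : W ⟶ Over.mk ψ₂ := IsCofiltered.minToRight _ _
  refine ⟨W.left, W.hom, ?_, ?_⟩
  · have := hP _ _ ψ₁ f₁.left h₁
    have hw : f₁.left ≫ ψ₁ = W.hom := Over.w f₁
    rwa [hw] at this
  · have := hQ _ _ ψ₂ f₂.left h₂
    have hw : f₂.left ≫ ψ₂ = W.hom := Over.w f₂
    rwa [hw] at this

lemma preimage_subset_mono {k : I} (S V : Set (D.obj k)) (j j' : I) (ψ : j ⟶ k) (f : j' ⟶ j)
    (h : ⇑(D.map ψ) ⁻¹' S ⊆ ⇑(D.map ψ) ⁻¹' V) :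
    ⇑(D.map (f ≫ ψ)) ⁻¹' S ⊆ ⇑(D.map (f ≫ ψ)) ⁻¹' V := by
  intro y hy
  rw [Set.mem_preimage, map_comp_apply] at hy ⊢
  exact h hy

variable (D c)

/-- **Key descent lemma for constructible sets.** If `Z ∩ U ⊆ V` holds after pulling back to the
limit (`Z` constructible, `U` compact open, `V` open in a stage `D k`), then it already holds after
pulling back to some stage. -/
theorem exists_map_preimage_inter_subset [IsCofiltered I] (hc : IsLimit c)
    [∀ {i j : I} (f : i ⟶ j), IsAffineHom (D.map f)] {k : I}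
    {Z : Set (D.obj k)} (hZ : IsConstructible Z) :
    ∀ (U V : (D.obj k).Opens), IsCompact (U : Set (D.obj k)) →
      ⇑(c.π.app k) ⁻¹' (Z ∩ U) ⊆ ⇑(c.π.app k) ⁻¹' V →
      ∃ (j : I) (ψ : j ⟶ k), ⇑(D.map ψ) ⁻¹' (Z ∩ U) ⊆ ⇑(D.map ψ) ⁻¹' V := by
  refine sdiff_union_induction (P := fun Z => ∀ (U V : (D.obj k).Opens),
    IsCompact (U : Set (D.obj k)) → ⇑(c.π.app k) ⁻¹' (Z ∩ U) ⊆ ⇑(c.π.app k) ⁻¹' V →
      ∃ (j : I) (ψ : j ⟶ k), ⇑(D.map ψ) ⁻¹' (Z ∩ U) ⊆ ⇑(D.map ψ) ⁻¹' V) ?_ ?_ hZ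
  · intro A B hA hA' hB hB' U V hU H
    let U' : (D.obj k).Opens := ⟨A ∩ U, hA.inter U.2⟩
    let V' : (D.obj k).Opens := ⟨B ∪ V, hB.union V.2⟩
    have hU'c : IsCompact (U' : Set (D.obj k)) := hA' hU U.2
    have H' : c.π.app k ⁻¹ᵁ U' ≤ c.π.app k ⁻¹ᵁ V' := by
      intro s hs
      have hs' : c.π.app k s ∈ A ∩ U := hs
      change c.π.app k s ∈ B ∪ V
      by_cases hB : c.π.app k s ∈ B
      · exact Or.inl hB
      · exact Or.inr (H (show c.π.app k s ∈ (A \ B) ∩ U from ⟨⟨hs'.1, hB⟩, hs'.2⟩))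
    obtain ⟨j, ψ, h⟩ := exists_map_preimage_le_map_preimage D c hc hU'c H'
    refine ⟨j, ψ, ?_⟩
    rintro y ⟨⟨hyA, hyB⟩, hyU⟩
    have h1 : D.map ψ y ∈ B ∪ V := h (show y ∈ D.map ψ ⁻¹ᵁ U' from ⟨hyA, hyU⟩)
    exact h1.resolve_left hyB
  · intro s t _ _ ps pt U V hU H
    have H1 : ⇑(c.π.app k) ⁻¹' (s ∩ U) ⊆ ⇑(c.π.app k) ⁻¹' V :=
      fun x hx => H ⟨Or.inl hx.1, hx.2⟩
    have H2 : ⇑(c.π.app k) ⁻¹' (t ∩ U) ⊆ ⇑(c.π.app k) ⁻¹' V :=
      fun x hx => H ⟨Or.inr hx.1, hx.2⟩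
    obtain ⟨j, ψ, h1, h2⟩ := exists_common
      (P := fun j ψ => ⇑(D.map ψ) ⁻¹' (s ∩ U) ⊆ ⇑(D.map ψ) ⁻¹' V)
      (Q := fun j ψ => ⇑(D.map ψ) ⁻¹' (t ∩ U) ⊆ ⇑(D.map ψ) ⁻¹' V)
      (fun j j' ψ f h => preimage_subset_mono _ _ j j' ψ f h)
      (fun j j' ψ f h => preimage_subset_mono _ _ j j' ψ f h)
      (ps U V hU H1) (pt U V hU H2)
    refine ⟨j, ψ, ?_⟩
    rintro y ⟨hy | hy, hyU⟩
    · exact h1 ⟨hy, hyU⟩
    · exact h2 ⟨hy, hyU⟩

end Constructible

section Descent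

open Topology

lemma compactSpace_pt [IsCofiltered I] (hc : IsLimit c)
    [∀ {i j : I} (f : i ⟶ j), IsAffineHom (D.map f)] (i₀ : I) [CompactSpace (D.obj i₀)] :
    CompactSpace c.pt :=
  have := isAffineHom_π_app D c hc i₀
  QuasiCompact.compactSpace_of_compactSpace (c.π.app i₀)

lemma compactSpace_obj [∀ {i j : I} (f : i ⟶ j), IsAffineHom (D.map f)] {i₀ k : I} (φ : k ⟶ i₀)
    [CompactSpace (D.obj i₀)] : CompactSpace (D.obj k) :=
  QuasiCompact.compactSpace_of_compactSpace (D.map φ)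

lemma quasiSeparatedSpace_obj [∀ {i j : I} (f : i ⟶ j), IsAffineHom (D.map f)] {i₀ k : I}
    (φ : k ⟶ i₀) [QuasiSeparatedSpace (D.obj i₀)] : QuasiSeparatedSpace (D.obj k) :=
  quasiSeparatedSpace_of_quasiSeparated (D.map φ)

lemma π_preimage_map_preimage {j k : I} (ψ : j ⟶ k) (S : Set (D.obj k)) :
    ⇑(c.π.app j) ⁻¹' (⇑(D.map ψ) ⁻¹' S) = ⇑(c.π.app k) ⁻¹' S := by
  ext s
  simp only [Set.mem_preimage, π_app_apply]

lemma map_comp_preimage {j' j k : I} (f : j' ⟶ j) (ψ : j ⟶ k) (S : Set (D.obj k)) :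
    ⇑(D.map (f ≫ ψ)) ⁻¹' S = ⇑(D.map f) ⁻¹' (⇑(D.map ψ) ⁻¹' S) := by
  ext s
  simp only [Set.mem_preimage, map_comp_apply]

/-- Every compact open of the limit is the preimage of a compact open of a stage over `i₁`. -/
lemma exists_preimage_eq_over [IsCofiltered I] (hc : IsLimit c)
    [∀ {i j : I} (f : i ⟶ j), IsAffineHom (D.map f)] (i₁ : I) (U : c.pt.Opens)
    (hU : IsCompact (U : Set c.pt)) :
    ∃ (k : I) (_ : k ⟶ i₁) (V : (D.obj k).Opens), IsCompact (V : Set (D.obj k)) ∧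
      (⇑(c.π.app k) ⁻¹' (V : Set (D.obj k)) : Set c.pt) = U := by
  obtain ⟨i, V, hV, rfl⟩ := exists_preimage_eq D c hc U hU
  refine ⟨IsCofiltered.min i i₁, IsCofiltered.minToRight i i₁,
    D.map (IsCofiltered.minToLeft i i₁) ⁻¹ᵁ V, ?_, ?_⟩
  · exact QuasiCompact.isCompact_preimage (f := D.map (IsCofiltered.minToLeft i i₁)) _ V.2 hV
  · exact π_preimage_map_preimage D c (IsCofiltered.minToLeft i i₁) V

lemma exists_preimage_eq_over₂ [IsCofiltered I] (hc : IsLimit c)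
    [∀ {i j : I} (f : i ⟶ j), IsAffineHom (D.map f)] (i₁ : I) (U U' : c.pt.Opens)
    (hU : IsCompact (U : Set c.pt)) (hU' : IsCompact (U' : Set c.pt)) :
    ∃ (k : I) (_ : k ⟶ i₁) (V V' : (D.obj k).Opens), IsCompact (V : Set (D.obj k)) ∧
      IsCompact (V' : Set (D.obj k)) ∧ (⇑(c.π.app k) ⁻¹' (V : Set (D.obj k)) : Set c.pt) = U ∧
      (⇑(c.π.app k) ⁻¹' (V' : Set (D.obj k)) : Set c.pt) = U' := by
  obtain ⟨k₁, φ₁, V, hV, e⟩ := exists_preimage_eq_over D c hc i₁ U hU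
  obtain ⟨k₂, φ₂, V', hV', e'⟩ := exists_preimage_eq_over D c hc k₁ U' hU'
  refine ⟨k₂, φ₂ ≫ φ₁, D.map φ₂ ⁻¹ᵁ V, V', ?_, hV', ?_, e'⟩
  · exact QuasiCompact.isCompact_preimage (f := D.map φ₂) _ V.2 hV
  · exact (π_preimage_map_preimage D c φ₂ V).trans e

/-- **EGA IV 8.3.11**: constructible subsets of the limit come from a stage. -/
theorem exists_isConstructible_preimage_eq [IsCofiltered I] (hc : IsLimit c)
    [∀ {i j : I} (f : i ⟶ j), IsAffineHom (D.map f)] (i₀ : I) [CompactSpace (D.obj i₀)]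
    [QuasiSeparatedSpace (D.obj i₀)] (Z : Set c.pt) (hZ : IsConstructible Z) :
    ∃ (i : I) (_ : i ⟶ i₀) (Zi : Set (D.obj i)),
      IsConstructible Zi ∧ (⇑(c.π.app i) ⁻¹' Zi : Set c.pt) = Z := by
  have hcpt : CompactSpace c.pt := compactSpace_pt D c hc i₀
  refine sdiff_union_induction (P := fun Z => ∃ (i : I) (_ : i ⟶ i₀) (Zi : Set (D.obj i)),
      IsConstructible Zi ∧ (⇑(c.π.app i) ⁻¹' Zi : Set c.pt) = Z) ?_ ?_ hZ
  · intro A B hA hA' hB hB'
    obtain ⟨k, φ, V, V', hV, hV', e, e'⟩ := exists_preimage_eq_over₂ D c hc i₀ ⟨A, hA⟩ ⟨B, hB⟩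
      hA'.isCompact hB'.isCompact
    have : QuasiSeparatedSpace (D.obj k) := quasiSeparatedSpace_obj D φ
    refine ⟨k, φ, (V : Set (D.obj k)) \ V', (hV.isConstructible V.2).sdiff
      (hV'.isConstructible V'.2), ?_⟩
    rw [Set.preimage_sdiff, e, e']
    rfl
  · rintro s t _ _ ⟨i, f, Zi, hZi, rfl⟩ ⟨i', f', Zi', hZi', rfl⟩
    let W := IsCofiltered.min (Over.mk f) (Over.mk f')
    let g₁ : W ⟶ Over.mk f := IsCofiltered.minToLeft _ _
    let g₂ : W ⟶ Over.mk f' := IsCofiltered.minToRight _ _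
    refine ⟨W.left, W.hom, ⇑(D.map g₁.left) ⁻¹' Zi ∪ ⇑(D.map g₂.left) ⁻¹' Zi',
      ((D.map g₁.left).isConstructible_preimage hZi).union
        ((D.map g₂.left).isConstructible_preimage hZi'), ?_⟩
    rw [Set.preimage_union, π_preimage_map_preimage, π_preimage_map_preimage]
    rfl

/-- **EGA IV 8.3.11**, locally closed variant. -/
theorem exists_isLocallyClosed_isConstructible_preimage_eq [IsCofiltered I] (hc : IsLimit c)
    [∀ {i j : I} (f : i ⟶ j), IsAffineHom (D.map f)] (i₀ : I) [CompactSpace (D.obj i₀)]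
    [QuasiSeparatedSpace (D.obj i₀)] (Z : Set c.pt) (hZ : IsConstructible Z)
    (hZ' : IsLocallyClosed Z) :
    ∃ (i : I) (_ : i ⟶ i₀) (Zi : Set (D.obj i)),
      IsConstructible Zi ∧ IsLocallyClosed Zi ∧ (⇑(c.π.app i) ⁻¹' Zi : Set c.pt) = Z := by
  have hcpt : CompactSpace c.pt := compactSpace_pt D c hc i₀
  obtain ⟨O, F, hO, hF, rfl⟩ := hZ'
  have hZc : IsCompact (O ∩ F) := isCompact_of_isConstructible hZ
  obtain ⟨U, hUc, hZU, hUO⟩ := exists_isCompact_opens_between c.pt hZc hO Set.inter_subset_left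
  let U' : c.pt.Opens := ⟨(U : Set c.pt) ∩ Fᶜ, U.2.inter hF.isOpen_compl⟩
  have hU'eq : (U' : Set c.pt) = (O ∩ F)ᶜ ∩ U := by
    ext x
    simp only [U', TopologicalSpace.Opens.coe_mk, Set.mem_inter_iff, Set.mem_compl_iff, not_and]
    constructor
    · rintro ⟨hxU, hxF⟩
      exact ⟨fun _ => hxF, hxU⟩
    · rintro ⟨h, hxU⟩
      exact ⟨hxU, h (hUO hxU)⟩
  have hU'c : IsCompact (U' : Set c.pt) := by
    rw [hU'eq]
    exact isCompact_inter_of_isConstructible hZ.compl hUc U.2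
  have hZeq : O ∩ F = (U : Set c.pt) \ U' := by
    ext x
    simp only [U', TopologicalSpace.Opens.coe_mk, Set.mem_inter_iff, Set.mem_sdiff,
      Set.mem_compl_iff, not_and, not_not]
    constructor
    · rintro ⟨hxO, hxF⟩
      exact ⟨hZU ⟨hxO, hxF⟩, fun _ => hxF⟩
    · rintro ⟨hxU, h⟩
      exact ⟨hUO hxU, h hxU⟩
  obtain ⟨k, φ, V, V', hV, hV', e, e'⟩ := exists_preimage_eq_over₂ D c hc i₀ U U' hUc hU'c
  have : QuasiSeparatedSpace (D.obj k) := quasiSeparatedSpace_obj D φ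
  refine ⟨k, φ, (V : Set (D.obj k)) \ V', (hV.isConstructible V.2).sdiff
    (hV'.isConstructible V'.2), ?_, ?_⟩
  · rw [Set.sdiff_eq]
    exact V.2.isLocallyClosed.inter V'.2.isClosed_compl.isLocallyClosed
  · rw [Set.preimage_sdiff, e, e', hZeq]

/-- **EGA IV 8.3.4**: openness of the preimage of a constructible set is detected at a stage. -/
theorem isOpen_preimage_iff [IsCofiltered I] (hc : IsLimit c)
    [∀ {i j : I} (f : i ⟶ j), IsAffineHom (D.map f)] (i₁ : I) [CompactSpace (D.obj i₁)]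
    (Z₁ : Set (D.obj i₁)) (hZ : IsConstructible Z₁) :
    IsOpen (⇑(c.π.app i₁) ⁻¹' Z₁ : Set c.pt) ↔
      ∃ (j : I) (φ : j ⟶ i₁), IsOpen (⇑(D.map φ) ⁻¹' Z₁) := by
  constructor
  · intro hW
    have hcpt : CompactSpace c.pt := compactSpace_pt D c hc i₁
    have hWc : IsCompact (⇑(c.π.app i₁) ⁻¹' Z₁ : Set c.pt) :=
      isCompact_of_isConstructible ((c.π.app i₁).isConstructible_preimage hZ)
    obtain ⟨k, φ, V, hV, e⟩ := exists_preimage_eq_over D c hc i₁ ⟨_, hW⟩ hWc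
    have hk : CompactSpace (D.obj k) := compactSpace_obj D φ
    have hE : IsConstructible (⇑(D.map φ) ⁻¹' Z₁) := (D.map φ).isConstructible_preimage hZ
    have e1 : ⇑(c.π.app k) ⁻¹' (⇑(D.map φ) ⁻¹' Z₁) = ⇑(c.π.app k) ⁻¹' (V : Set (D.obj k)) :=
      (π_preimage_map_preimage D c φ Z₁).trans e.symm
    have ha := exists_map_preimage_inter_subset D c hc hE ⊤ V isCompact_univ (by
      rw [TopologicalSpace.Opens.coe_top, Set.inter_univ, e1])
    have hb := exists_map_preimage_inter_subset D c hc hE.compl V ⊥ hV (by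
      rw [Set.preimage_inter, Set.preimage_compl, e1]
      intro x hx
      exact absurd hx.2 hx.1)
    obtain ⟨j, ψ, h1, h2⟩ := exists_common
      (fun j j' ψ f h => preimage_subset_mono _ _ j j' ψ f h)
      (fun j j' ψ f h => preimage_subset_mono _ _ j j' ψ f h) ha hb
    refine ⟨j, ψ ≫ φ, ?_⟩
    have h3 : ⇑(D.map (ψ ≫ φ)) ⁻¹' Z₁ = ⇑(D.map ψ) ⁻¹' (V : Set (D.obj k)) := by
      rw [map_comp_preimage]
      apply Set.Subset.antisymm
      · intro y hy
        exact h1 ⟨hy, Set.mem_univ _⟩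
      · intro y hy
        by_contra hn
        exact h2 ⟨hn, hy⟩
    rw [h3]
    exact V.2.preimage (D.map ψ).continuous
  · rintro ⟨j, φ, h⟩
    rw [← π_preimage_map_preimage D c φ Z₁]
    exact h.preimage (c.π.app j).continuous

/-- **EGA IV 8.3.5**: local closedness of the preimage of a constructible set is detected at a
stage. -/
theorem isLocallyClosed_preimage_iff [IsCofiltered I] (hc : IsLimit c)
    [∀ {i j : I} (f : i ⟶ j), IsAffineHom (D.map f)] (i₁ : I) [CompactSpace (D.obj i₁)]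
    (Z₁ : Set (D.obj i₁)) (hZ : IsConstructible Z₁) :
    IsLocallyClosed (⇑(c.π.app i₁) ⁻¹' Z₁ : Set c.pt) ↔
      ∃ (j : I) (φ : j ⟶ i₁), IsLocallyClosed (⇑(D.map φ) ⁻¹' Z₁) := by
  constructor
  · intro hW
    have hcpt : CompactSpace c.pt := compactSpace_pt D c hc i₁
    have hWcons : IsConstructible (⇑(c.π.app i₁) ⁻¹' Z₁ : Set c.pt) :=
      (c.π.app i₁).isConstructible_preimage hZ
    have hWc : IsCompact (⇑(c.π.app i₁) ⁻¹' Z₁ : Set c.pt) := isCompact_of_isConstructible hWcons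
    obtain ⟨O, F, hO, hF, hWeq⟩ := hW
    obtain ⟨U, hUc, hZU, hUO⟩ := exists_isCompact_opens_between c.pt hWc hO
      (hWeq ▸ Set.inter_subset_left)
    let U' : c.pt.Opens := ⟨(U : Set c.pt) ∩ Fᶜ, U.2.inter hF.isOpen_compl⟩
    have hU'eq : (U' : Set c.pt) = ((⇑(c.π.app i₁) ⁻¹' Z₁ : Set c.pt))ᶜ ∩ (U : Set c.pt) := by
      rw [hWeq]
      ext x
      simp only [U', TopologicalSpace.Opens.coe_mk, Set.mem_inter_iff, Set.mem_compl_iff, not_and]
      constructor
      · rintro ⟨hxU, hxF⟩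
        exact ⟨fun _ => hxF, hxU⟩
      · rintro ⟨h, hxU⟩
        exact ⟨hxU, h (hUO hxU)⟩
    have hU'c : IsCompact (U' : Set c.pt) := by
      rw [hU'eq]
      exact isCompact_inter_of_isConstructible hWcons.compl hUc U.2
    have hZeq : (⇑(c.π.app i₁) ⁻¹' Z₁ : Set c.pt) = (U : Set c.pt) \ U' := by
      rw [hU'eq]
      ext x
      simp only [Set.mem_sdiff, Set.mem_inter_iff, Set.mem_compl_iff, not_and]
      constructor
      · intro hx
        exact ⟨hZU hx, fun h => absurd hx h⟩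
      · rintro ⟨hxU, h⟩
        by_contra hn
        exact h hn hxU
    obtain ⟨k, φ, V, V', hV, hV', e, e'⟩ := exists_preimage_eq_over₂ D c hc i₁ U U' hUc hU'c
    have hk : CompactSpace (D.obj k) := compactSpace_obj D φ
    have hE : IsConstructible (⇑(D.map φ) ⁻¹' Z₁) := (D.map φ).isConstructible_preimage hZ
    have e1 : ⇑(c.π.app k) ⁻¹' (⇑(D.map φ) ⁻¹' Z₁) =
        ⇑(c.π.app k) ⁻¹' (V : Set (D.obj k)) \ ⇑(c.π.app k) ⁻¹' (V' : Set (D.obj k)) := by
      rw [π_preimage_map_preimage, hZeq, e, e']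
    have ha := exists_map_preimage_inter_subset D c hc hE ⊤ V isCompact_univ (by
      rw [TopologicalSpace.Opens.coe_top, Set.inter_univ, e1]
      exact Set.sdiff_subset)
    have hb := exists_map_preimage_inter_subset D c hc hE V' ⊥ hV' (by
      rw [Set.preimage_inter, e1]
      intro x hx
      exact absurd hx.2 hx.1.2)
    have hd := exists_map_preimage_inter_subset D c hc hE.compl V V' hV (by
      rw [Set.preimage_inter, Set.preimage_compl, e1]
      intro x hx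
      by_contra hn
      exact hx.1 ⟨hx.2, hn⟩)
    let P1 : ∀ j : I, (j ⟶ k) → Prop := fun j ψ =>
      ⇑(D.map ψ) ⁻¹' ((⇑(D.map φ) ⁻¹' Z₁) ∩ ((⊤ : (D.obj k).Opens) : Set (D.obj k))) ⊆
        ⇑(D.map ψ) ⁻¹' (V : Set (D.obj k))
    let P2 : ∀ j : I, (j ⟶ k) → Prop := fun j ψ =>
      ⇑(D.map ψ) ⁻¹' ((⇑(D.map φ) ⁻¹' Z₁) ∩ (V' : Set (D.obj k))) ⊆
        ⇑(D.map ψ) ⁻¹' ((⊥ : (D.obj k).Opens) : Set (D.obj k))
    let P3 : ∀ j : I, (j ⟶ k) → Prop := fun j ψ =>
      ⇑(D.map ψ) ⁻¹' ((⇑(D.map φ) ⁻¹' Z₁)ᶜ ∩ (V : Set (D.obj k))) ⊆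
        ⇑(D.map ψ) ⁻¹' (V' : Set (D.obj k))
    have h12 : ∃ j ψ, P1 j ψ ∧ P2 j ψ := exists_common (P := P1) (Q := P2)
      (fun j j' ψ f h => preimage_subset_mono _ _ j j' ψ f h)
      (fun j j' ψ f h => preimage_subset_mono _ _ j j' ψ f h) ha hb
    obtain ⟨j, ψ, ⟨h1, h2⟩, h3⟩ := exists_common (P := fun j ψ => P1 j ψ ∧ P2 j ψ) (Q := P3)
      (fun j j' ψ f h => ⟨preimage_subset_mono _ _ j j' ψ f h.1,
        preimage_subset_mono _ _ j j' ψ f h.2⟩)
      (fun j j' ψ f h => preimage_subset_mono _ _ j j' ψ f h) h12 hd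
    refine ⟨j, ψ ≫ φ, ?_⟩
    have h4 : ⇑(D.map (ψ ≫ φ)) ⁻¹' Z₁ =
        ⇑(D.map ψ) ⁻¹' (V : Set (D.obj k)) ∩ (⇑(D.map ψ) ⁻¹' (V' : Set (D.obj k)))ᶜ := by
      rw [map_comp_preimage]
      apply Set.Subset.antisymm
      · intro y hy
        exact ⟨h1 ⟨hy, Set.mem_univ _⟩, fun hy' => h2 ⟨hy, hy'⟩⟩
      · rintro y ⟨hyV, hyV'⟩
        by_contra hn
        exact hyV' (h3 ⟨hn, hyV⟩)
    rw [h4]
    exact (V.2.preimage (D.map ψ).continuous).isLocallyClosed.inter
      (V'.2.preimage (D.map ψ).continuous).isClosed_compl.isLocallyClosed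
  · rintro ⟨j, φ, h⟩
    rw [← π_preimage_map_preimage D c φ Z₁]
    exact h.preimage (c.π.app j).continuous

end Descent

section Connected

open Topology

/-- If every stage over a quasi-compact stage `i` is nonempty, so is the limit. -/
lemma nonempty_pt_of_forall_nonempty [IsCofiltered I] (hc : IsLimit c)
    [∀ {i j : I} (f : i ⟶ j), IsAffineHom (D.map f)] (i : I) [CompactSpace (D.obj i)]
    (h : ∀ (j : I) (_ : j ⟶ i), Nonempty (D.obj j)) : Nonempty c.pt := by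
  have h1 : ∀ {j k : Over i} (f : j ⟶ k), IsAffineHom ((Over.forget i ⋙ D).map f) := by
    intro j k f; dsimp; infer_instance
  have h2 : ∀ j : Over i, Nonempty ((Over.forget i ⋙ D).obj j) := fun j => h j.left j.hom
  have h3 : ∀ j : Over i, CompactSpace ((Over.forget i ⋙ D).obj j) :=
    fun j => compactSpace_obj D j.hom
  exact Scheme.nonempty_of_isLimit (Over.forget i ⋙ D) (c.whisker (Over.forget i))
    ((Functor.Initial.isLimitWhiskerEquiv (Over.forget i) c).symm hc)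

/-- Every point of an open subset of the limit lies in a basic open subset coming from a stage
over a given index. -/
lemma exists_basic_open_over [IsCofiltered I] (hc : IsLimit c)
    [∀ {i j : I} (f : i ⟶ j), IsAffineHom (D.map f)] (i : I) {u : Set c.pt} (hu : IsOpen u)
    {s : c.pt} (hs : s ∈ u) :
    ∃ (k : I) (_ : k ⟶ i) (V : (D.obj k).Opens), c.π.app k s ∈ V ∧
      (⇑(c.π.app k) ⁻¹' (V : Set (D.obj k)) : Set c.pt) ⊆ u := by
  obtain ⟨_, ⟨_, ⟨k₀, V, -, rfl⟩, rfl⟩, hsV, hVu⟩ :=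
    (isBasis_preimage_isAffineOpen D c hc).exists_subset_of_mem_open hs hu
  refine ⟨IsCofiltered.min k₀ i, IsCofiltered.minToRight k₀ i,
    D.map (IsCofiltered.minToLeft k₀ i) ⁻¹ᵁ V, ?_, ?_⟩
  · change D.map (IsCofiltered.minToLeft k₀ i) (c.π.app _ s) ∈ V
    rw [π_app_apply]
    exact hsV
  · intro t ht
    apply hVu
    change c.π.app k₀ t ∈ V
    rw [← π_app_apply (IsCofiltered.minToLeft k₀ i)]
    exact ht

/-- **EGA IV 8.4.1 (i)**, hard direction made uniform. -/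
theorem eventually_not_irreducibleSpace [IsCofiltered I] (hc : IsLimit c)
    [∀ {i j : I} (f : i ⟶ j), IsAffineHom (D.map f)] (i₀ : I) [CompactSpace (D.obj i₀)]
    [QuasiSeparatedSpace (D.obj i₀)] [TopologicalSpace.NoetherianSpace c.pt]
    (h : ¬ IrreducibleSpace c.pt) :
    ∃ (i : I) (_ : i ⟶ i₀), ∀ (j : I) (_ : j ⟶ i), ¬ IrreducibleSpace (D.obj j) := by
  by_cases hne : Nonempty c.pt
  · -- not preirreducible
    have hpre : ¬ IsPreirreducible (Set.univ : Set c.pt) := fun hp =>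
      h { toPreirreducibleSpace := ⟨hp⟩, toNonempty := hne }
    simp only [IsPreirreducible, not_forall] at hpre
    obtain ⟨u, v, hu, hv, ⟨s₁, -, hs₁⟩, ⟨s₂, -, hs₂⟩, hempty⟩ := hpre
    have huc : IsCompact u := TopologicalSpace.NoetherianSpace.isCompact u
    have hvc : IsCompact v := TopologicalSpace.NoetherianSpace.isCompact v
    obtain ⟨k, φ, V₁, V₂, hV₁, hV₂, e₁', e₂'⟩ :=
      exists_preimage_eq_over₂ D c hc i₀ ⟨u, hu⟩ ⟨v, hv⟩ huc hvc
    have e₁ : (⇑(c.π.app k) ⁻¹' (V₁ : Set (D.obj k)) : Set c.pt) = u := e₁'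
    have e₂ : (⇑(c.π.app k) ⁻¹' (V₂ : Set (D.obj k)) : Set c.pt) = v := e₂'
    have hqs : QuasiSeparatedSpace (D.obj k) := quasiSeparatedSpace_obj D φ
    have hVc : IsCompact ((V₁ ⊓ V₂ : (D.obj k).Opens) : Set (D.obj k)) :=
      hV₁.inter_of_isOpen hV₂ V₁.2 V₂.2
    obtain ⟨j, ψ, hj⟩ := exists_map_preimage_le_map_preimage D c hc (U := V₁ ⊓ V₂) (V := ⊥) hVc
      (by
        intro s hs
        exfalso
        apply hempty
        refine ⟨s, Set.mem_univ _, ?_, ?_⟩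
        · rw [← e₁]; exact hs.1
        · rw [← e₂]; exact hs.2)
    refine ⟨j, ψ ≫ φ, fun j' g hirr => ?_⟩
    have h1 : (⇑(D.map (g ≫ ψ)) ⁻¹' (V₁ : Set (D.obj k))).Nonempty := by
      refine ⟨c.π.app j' s₁, ?_⟩
      rw [Set.mem_preimage, π_app_apply, ← Set.mem_preimage, e₁]
      exact hs₁
    have h2 : (⇑(D.map (g ≫ ψ)) ⁻¹' (V₂ : Set (D.obj k))).Nonempty := by
      refine ⟨c.π.app j' s₂, ?_⟩
      rw [Set.mem_preimage, π_app_apply, ← Set.mem_preimage, e₂]
      exact hs₂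
    obtain ⟨y, hy₁, hy₂⟩ := nonempty_preirreducible_inter
      (V₁.2.preimage (D.map (g ≫ ψ)).continuous) (V₂.2.preimage (D.map (g ≫ ψ)).continuous) h1 h2
    rw [Set.mem_preimage, map_comp_apply] at hy₁ hy₂
    exact hj (show D.map g y ∈ D.map ψ ⁻¹ᵁ (V₁ ⊓ V₂) from ⟨hy₁, hy₂⟩)
  · -- the limit is empty
    have : ∃ (j : I) (_ : j ⟶ i₀), ¬ Nonempty (D.obj j) := by
      by_contra hcon
      push Not at hcon
      exact hne (nonempty_pt_of_forall_nonempty D c hc i₀ hcon)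
    obtain ⟨j, φ, hj⟩ := this
    refine ⟨j, φ, fun j' g hirr => hj ?_⟩
    obtain ⟨y⟩ := hirr.toNonempty
    exact ⟨D.map g y⟩

/-- **EGA IV 8.4.1 (ii)**, hard direction made uniform. -/
theorem eventually_not_preconnectedSpace [IsCofiltered I] (hc : IsLimit c)
    [∀ {i j : I} (f : i ⟶ j), IsAffineHom (D.map f)] (i₀ : I) [CompactSpace (D.obj i₀)]
    [QuasiSeparatedSpace (D.obj i₀)] (h : ¬ PreconnectedSpace c.pt) :
    ∃ (i : I) (_ : i ⟶ i₀), ∀ (j : I) (_ : j ⟶ i), ¬ PreconnectedSpace (D.obj j) := by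
  have hcpt : CompactSpace c.pt := compactSpace_pt D c hc i₀
  have hpre : ¬ _root_.IsPreconnected (Set.univ : Set c.pt) := fun hp => h ⟨hp⟩
  simp only [_root_.IsPreconnected, not_forall] at hpre
  obtain ⟨u, v, hu, hv, huv, ⟨s₁, -, hs₁⟩, ⟨s₂, -, hs₂⟩, hempty⟩ := hpre
  have huv' : u = vᶜ := by
    ext x
    constructor
    · intro hx hx'
      exact hempty ⟨x, Set.mem_univ _, hx, hx'⟩
    · intro hx
      exact (huv (Set.mem_univ x)).resolve_right hx
  have hvu' : v = uᶜ := by rw [huv', compl_compl]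
  have huc : IsCompact u := (huv' ▸ hv.isClosed_compl).isCompact
  have hvc : IsCompact v := (hvu' ▸ hu.isClosed_compl).isCompact
  obtain ⟨k, φ, V₁, V₂, hV₁, hV₂, e₁', e₂'⟩ :=
    exists_preimage_eq_over₂ D c hc i₀ ⟨u, hu⟩ ⟨v, hv⟩ huc hvc
  have e₁ : (⇑(c.π.app k) ⁻¹' (V₁ : Set (D.obj k)) : Set c.pt) = u := e₁'
  have e₂ : (⇑(c.π.app k) ⁻¹' (V₂ : Set (D.obj k)) : Set c.pt) = v := e₂'
  have hqs : QuasiSeparatedSpace (D.obj k) := quasiSeparatedSpace_obj D φ
  have hk : CompactSpace (D.obj k) := compactSpace_obj D φ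
  have hVc : IsCompact ((V₁ ⊓ V₂ : (D.obj k).Opens) : Set (D.obj k)) :=
    hV₁.inter_of_isOpen hV₂ V₁.2 V₂.2
  have ha := exists_map_preimage_le_map_preimage D c hc (U := V₁ ⊓ V₂) (V := ⊥) hVc
    (by
      intro s hs
      exfalso
      apply hempty
      refine ⟨s, Set.mem_univ _, ?_, ?_⟩
      · rw [← e₁]; exact hs.1
      · rw [← e₂]; exact hs.2)
  have hb := exists_map_preimage_le_map_preimage D c hc (U := ⊤) (V := V₁ ⊔ V₂) isCompact_univ
    (by
      intro s _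
      rcases huv (Set.mem_univ s) with hs | hs
      · left; rw [← e₁] at hs; exact hs
      · right; rw [← e₂] at hs; exact hs)
  obtain ⟨j, ψ, h1, h2⟩ := exists_common
    (P := fun j ψ => D.map ψ ⁻¹ᵁ (V₁ ⊓ V₂) ≤ D.map ψ ⁻¹ᵁ ⊥)
    (Q := fun j ψ => D.map ψ ⁻¹ᵁ ⊤ ≤ D.map ψ ⁻¹ᵁ (V₁ ⊔ V₂))
    (fun j j' ψ f h y hy => by
      have hy' : D.map (f ≫ ψ) y ∈ V₁ ⊓ V₂ := hy
      rw [map_comp_apply] at hy'
      exact h (show D.map f y ∈ D.map ψ ⁻¹ᵁ (V₁ ⊓ V₂) from hy'))
    (fun j j' ψ f h y _ => by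
      have := h (show D.map f y ∈ D.map ψ ⁻¹ᵁ ⊤ from trivial)
      change D.map (f ≫ ψ) y ∈ V₁ ⊔ V₂
      rw [map_comp_apply]
      exact this) ha hb
  refine ⟨j, ψ ≫ φ, fun j' g hconn => ?_⟩
  have hn1 : (Set.univ ∩ ⇑(D.map (g ≫ ψ)) ⁻¹' (V₁ : Set (D.obj k))).Nonempty := by
    refine ⟨c.π.app j' s₁, Set.mem_univ _, ?_⟩
    rw [Set.mem_preimage, π_app_apply, ← Set.mem_preimage, e₁]
    exact hs₁
  have hn2 : (Set.univ ∩ ⇑(D.map (g ≫ ψ)) ⁻¹' (V₂ : Set (D.obj k))).Nonempty := by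
    refine ⟨c.π.app j' s₂, Set.mem_univ _, ?_⟩
    rw [Set.mem_preimage, π_app_apply, ← Set.mem_preimage, e₂]
    exact hs₂
  have hcov : (Set.univ : Set (D.obj j')) ⊆ ⇑(D.map (g ≫ ψ)) ⁻¹' (V₁ : Set (D.obj k)) ∪
      ⇑(D.map (g ≫ ψ)) ⁻¹' (V₂ : Set (D.obj k)) := by
    intro y _
    have := h2 (show D.map g y ∈ D.map ψ ⁻¹ᵁ ⊤ from trivial)
    have h3 : D.map (g ≫ ψ) y ∈ V₁ ⊔ V₂ := by rw [map_comp_apply]; exact this
    exact h3
  obtain ⟨y, -, hy₁, hy₂⟩ := hconn.isPreconnected_univ _ _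
    (V₁.2.preimage (D.map (g ≫ ψ)).continuous) (V₂.2.preimage (D.map (g ≫ ψ)).continuous)
    hcov hn1 hn2
  rw [Set.mem_preimage, map_comp_apply] at hy₁ hy₂
  exact h1 (show D.map g y ∈ D.map ψ ⁻¹ᵁ (V₁ ⊓ V₂) from ⟨hy₁, hy₂⟩)

/-- **EGA IV 8.4.2 (i)**: with dominant transition maps, the limit is irreducible iff the stages
eventually are. -/
theorem irreducibleSpace_iff_eventually [IsCofiltered I] (hc : IsLimit c)
    [∀ {i j : I} (f : i ⟶ j), IsAffineHom (D.map f)] (i₀ : I) [CompactSpace (D.obj i₀)]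
    (hd : ∀ (i j : I) (φ : i ⟶ j), IsDominant (D.map φ)) :
    IrreducibleSpace c.pt ↔
      ∃ (i : I) (_ : i ⟶ i₀), ∀ (j : I) (_ : j ⟶ i), IrreducibleSpace (D.obj j) := by
  have hdom : ∀ j : I, IsDominant (c.π.app j) := fun j =>
    (isDominant_π_app_iff D c hc j).mpr fun j' φ => hd j' j φ
  constructor
  · intro hirr
    refine ⟨i₀, 𝟙 i₀, fun j _ => ?_⟩
    have hdense := (hdom j).denseRange
    have hne : Nonempty (D.obj j) := ⟨c.π.app j hirr.toNonempty.some⟩
    refine { toPreirreducibleSpace := ⟨?_⟩, toNonempty := hne }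
    have h1 : IsPreirreducible (closure (⇑(c.π.app j) '' (Set.univ : Set c.pt))) :=
      ((PreirreducibleSpace.isPreirreducible_univ (X := c.pt)).image _
        (c.π.app j).continuous.continuousOn).closure
    rwa [Set.image_univ, hdense.closure_range] at h1
  · rintro ⟨i, f, hi⟩
    have hcpti : CompactSpace (D.obj i) := compactSpace_obj D f
    have hne : Nonempty c.pt := nonempty_pt_of_forall_nonempty D c hc i
      (fun j g => (hi j g).toNonempty)
    refine { toPreirreducibleSpace := ⟨?_⟩, toNonempty := hne }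
    rintro u v hu hv ⟨s₁, -, hs₁⟩ ⟨s₂, -, hs₂⟩
    obtain ⟨k₁, φ₁, V₁, hsV₁, hV₁u⟩ := exists_basic_open_over D c hc i hu hs₁
    obtain ⟨k₂, φ₂, V₂, hsV₂, hV₂v⟩ := exists_basic_open_over D c hc k₁ hv hs₂
    -- work at stage `k₂`, which maps to `k₁` and to `i`
    have hirr := hi k₂ (φ₂ ≫ φ₁)
    have hn1 : (⇑(D.map φ₂) ⁻¹' (V₁ : Set (D.obj k₁))).Nonempty := by
      refine ⟨c.π.app k₂ s₁, ?_⟩
      rw [Set.mem_preimage, π_app_apply]
      exact hsV₁
    have hn2 : ((V₂ : Set (D.obj k₂))).Nonempty := ⟨_, hsV₂⟩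
    obtain ⟨y, hy₁, hy₂⟩ := nonempty_preirreducible_inter
      (V₁.2.preimage (D.map φ₂).continuous) V₂.2 hn1 hn2
    obtain ⟨_, ⟨hz₁, hz₂⟩, ⟨t, rfl⟩⟩ := dense_iff_inter_open.mp (hdom k₂).denseRange _
      ((V₁.2.preimage (D.map φ₂).continuous).inter V₂.2) ⟨y, hy₁, hy₂⟩
    refine ⟨t, Set.mem_univ _, hV₁u ?_, hV₂v hz₂⟩
    rw [Set.mem_preimage, ← π_app_apply φ₂]
    exact hz₁

/-- **EGA IV 8.4.2 (ii)**: with dominant transition maps, the limit is connected iff the stages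
eventually are. -/
theorem connectedSpace_iff_eventually [IsCofiltered I] (hc : IsLimit c)
    [∀ {i j : I} (f : i ⟶ j), IsAffineHom (D.map f)] (i₀ : I) [CompactSpace (D.obj i₀)]
    (hd : ∀ (i j : I) (φ : i ⟶ j), IsDominant (D.map φ)) :
    ConnectedSpace c.pt ↔
      ∃ (i : I) (_ : i ⟶ i₀), ∀ (j : I) (_ : j ⟶ i), ConnectedSpace (D.obj j) := by
  have hdom : ∀ j : I, IsDominant (c.π.app j) := fun j =>
    (isDominant_π_app_iff D c hc j).mpr fun j' φ => hd j' j φ
  constructor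
  · intro hconn
    refine ⟨i₀, 𝟙 i₀, fun j _ => ?_⟩
    have hne : Nonempty (D.obj j) := ⟨c.π.app j hconn.toNonempty.some⟩
    have hpc : PreconnectedSpace c.pt := hconn.toPreconnectedSpace
    have : PreconnectedSpace (D.obj j) :=
      DenseRange.preconnectedSpace (α := c.pt) (hdom j).denseRange (c.π.app j).continuous
    exact { toNonempty := hne }
  · rintro ⟨i, f, hi⟩
    have hcpti : CompactSpace (D.obj i) := compactSpace_obj D f
    have hcpt : CompactSpace c.pt := compactSpace_pt D c hc i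
    have hne : Nonempty c.pt := nonempty_pt_of_forall_nonempty D c hc i
      (fun j g => (hi j g).toNonempty)
    refine { toPreconnectedSpace := ⟨?_⟩, toNonempty := hne }
    rintro u v hu hv huv ⟨s₁, -, hs₁⟩ ⟨s₂, -, hs₂⟩
    by_contra hempty
    have huv' : u = vᶜ := by
      ext x
      constructor
      · intro hx hx'
        exact hempty ⟨x, Set.mem_univ _, hx, hx'⟩
      · intro hx
        exact (huv (Set.mem_univ x)).resolve_right hx
    have hvu' : v = uᶜ := by rw [huv', compl_compl]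
    have huc : IsCompact u := (huv' ▸ hv.isClosed_compl).isCompact
    have hvc : IsCompact v := (hvu' ▸ hu.isClosed_compl).isCompact
    obtain ⟨k, φ, V₁, V₂, hV₁, hV₂, e₁', e₂'⟩ :=
      exists_preimage_eq_over₂ D c hc i ⟨u, hu⟩ ⟨v, hv⟩ huc hvc
    have e₁ : (⇑(c.π.app k) ⁻¹' (V₁ : Set (D.obj k)) : Set c.pt) = u := e₁'
    have e₂ : (⇑(c.π.app k) ⁻¹' (V₂ : Set (D.obj k)) : Set c.pt) = v := e₂'
    have hk : CompactSpace (D.obj k) := compactSpace_obj D φ
    -- `V₁ ∩ V₂ = ∅` since `π_k` is dominant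
    have hdisj : ∀ y : D.obj k, y ∈ V₁ → y ∈ V₂ → False := by
      intro y hy₁ hy₂
      obtain ⟨_, ⟨hz₁, hz₂⟩, ⟨t, rfl⟩⟩ := dense_iff_inter_open.mp (hdom k).denseRange _
        (V₁.2.inter V₂.2) ⟨y, hy₁, hy₂⟩
      apply hempty
      refine ⟨t, Set.mem_univ _, ?_, ?_⟩
      · rw [← e₁]; exact hz₁
      · rw [← e₂]; exact hz₂
    obtain ⟨j, ψ, hj⟩ := exists_map_preimage_le_map_preimage D c hc (U := ⊤) (V := V₁ ⊔ V₂)
      isCompact_univ (by
        intro s _
        rcases huv (Set.mem_univ s) with hs | hs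
        · left; rw [← e₁] at hs; exact hs
        · right; rw [← e₂] at hs; exact hs)
    have hconn := hi j (ψ ≫ φ)
    have hn1 : (Set.univ ∩ ⇑(D.map ψ) ⁻¹' (V₁ : Set (D.obj k))).Nonempty := by
      refine ⟨c.π.app j s₁, Set.mem_univ _, ?_⟩
      rw [Set.mem_preimage, π_app_apply, ← Set.mem_preimage, e₁]
      exact hs₁
    have hn2 : (Set.univ ∩ ⇑(D.map ψ) ⁻¹' (V₂ : Set (D.obj k))).Nonempty := by
      refine ⟨c.π.app j s₂, Set.mem_univ _, ?_⟩
      rw [Set.mem_preimage, π_app_apply, ← Set.mem_preimage, e₂]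
      exact hs₂
    have hcov : (Set.univ : Set (D.obj j)) ⊆ ⇑(D.map ψ) ⁻¹' (V₁ : Set (D.obj k)) ∪
        ⇑(D.map ψ) ⁻¹' (V₂ : Set (D.obj k)) := by
      intro y _
      exact hj (show y ∈ D.map ψ ⁻¹ᵁ ⊤ from trivial)
    obtain ⟨y, -, hy₁, hy₂⟩ := hconn.isPreconnected_univ _ _
      (V₁.2.preimage (D.map ψ).continuous) (V₂.2.preimage (D.map ψ).continuous) hcov hn1 hn2
    exact hdisj _ hy₁ hy₂

end Connected

end Groth.Agent.Lib.helper7.Lim8
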