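import Mathlib
import Groth.Agent.Lib.helper7.Lim8

/-!
# Cofiltered limits of schemes with affine transition maps (EGA IV 8), part 2 — helper7 library

* base-change squares for `pbMap`, `pbConeApp`; `pbDiagram` has affine transition maps for any `T`;
* `isOpenMap_π_app_iff`, `universallyOpen_π_app_iff` (EGA IV 8.3.8 (iii));
-/

set_option autoImplicit false
universe u
open CategoryTheory CategoryTheory.Limits AlgebraicGeometry

namespace Groth.Agent.Lib.helper7.Lim8

variable {I : Type u} [SmallCategory I] (D : I ⥤ Scheme.{u}) (c : Cone D)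

section Pullback

variable (i : I) {T : Scheme.{u}} (g : T ⟶ D.obj i)

/-- `pbConeApp j` is the base change of `c.π.app j`. -/
lemma isPullback_pbConeApp (j : Over i) :
    IsPullback (pbConeApp D c i g j) (pullback.fst (c.π.app i) g)
      (pullback.fst (D.map j.hom) g) (c.π.app j.left) := by
  have hbig : IsPullback (pbConeApp D c i g j ≫ pullback.snd (D.map j.hom) g)
      (pullback.fst (c.π.app i) g) g (c.π.app j.left ≫ D.map j.hom) := by
    rw [pbConeApp_snd, c.w]
    exact (IsPullback.of_hasPullback (c.π.app i) g).flip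
  exact IsPullback.of_right hbig (pbConeApp_fst D c i g j)
    (IsPullback.of_hasPullback (D.map j.hom) g).flip

/-- `pbMap f` is the base change of `D.map f.left`. -/
lemma isPullback_pbMap {j k : Over i} (f : j ⟶ k) :
    IsPullback (pbMap D i g f) (pullback.fst (D.map j.hom) g)
      (pullback.fst (D.map k.hom) g) (D.map f.left) := by
  have hbig : IsPullback (pbMap D i g f ≫ pullback.snd (D.map k.hom) g)
      (pullback.fst (D.map j.hom) g) g (D.map f.left ≫ D.map k.hom) := by
    rw [pbMap_snd, ← D.map_comp, Over.w f]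
    exact (IsPullback.of_hasPullback (D.map j.hom) g).flip
  exact IsPullback.of_right hbig (pbMap_fst D i g f)
    (IsPullback.of_hasPullback (D.map k.hom) g).flip

/-- The transition maps of `pbDiagram` are affine, for an arbitrary base `T`. -/
lemma isAffineHom_pbDiagram_map [∀ {i j : I} (f : i ⟶ j), IsAffineHom (D.map f)] {j k : Over i}
    (f : j ⟶ k) : IsAffineHom ((pbDiagram D i g).map f) :=
  MorphismProperty.of_isPullback (P := @IsAffineHom) (isPullback_pbMap D i g f).flip inferInstance

lemma surjective_pbConeApp (j : Over i) (h : Surjective (c.π.app j.left)) :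
    Surjective (pbConeApp D c i g j) :=
  MorphismProperty.of_isPullback (P := @Surjective) (isPullback_pbConeApp D c i g j).flip h

lemma universallyOpen_pbMap {j k : Over i} (f : j ⟶ k) (h : UniversallyOpen (D.map f.left)) :
    UniversallyOpen (pbMap D i g f) :=
  MorphismProperty.of_isPullback (P := @UniversallyOpen) (isPullback_pbMap D i g f).flip h

lemma flat_pbMap {j k : Over i} (f : j ⟶ k) (h : Flat (D.map f.left)) :
    Flat (pbMap D i g f) :=
  MorphismProperty.of_isPullback (P := @Flat) (isPullback_pbMap D i g f).flip h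

end Pullback

section OpenMap

/-- **EGA IV 8.3.8 (iii)**, open maps. -/
theorem isOpenMap_π_app_iff [IsCofiltered I] (hc : IsLimit c)
    [∀ {i j : I} (f : i ⟶ j), IsAffineHom (D.map f)] (i : I)
    (hs : ∀ (j : I) (_ : j ⟶ i), Function.Surjective ⇑(c.π.app j)) :
    IsOpenMap ⇑(c.π.app i) ↔ ∀ (j : I) (φ : j ⟶ i), IsOpenMap ⇑(D.map φ) := by
  constructor
  · intro h j φ W hW
    have hsur : Function.Surjective ⇑(c.π.app j) := hs j φ
    have : (⇑(D.map φ) '' W : Set (D.obj i)) = ⇑(c.π.app i) '' (⇑(c.π.app j) ⁻¹' W) := by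
      ext x
      constructor
      · rintro ⟨y, hy, rfl⟩
        obtain ⟨s, rfl⟩ := hsur y
        exact ⟨s, hy, (π_app_apply φ s).symm⟩
      · rintro ⟨s, hs', rfl⟩
        exact ⟨c.π.app j s, hs', π_app_apply φ s⟩
    rw [this]
    exact h _ (hW.preimage (c.π.app j).continuous)
  · intro h u hu
    rw [isOpen_iff_forall_mem_open]
    rintro _ ⟨s, hsu, rfl⟩
    obtain ⟨k, ψ, V, hsV, hVu⟩ := exists_basic_open_over D c hc i hu hsu
    refine ⟨⇑(D.map ψ) '' (V : Set (D.obj k)), ?_, h k ψ _ V.2, ?_⟩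
    · rintro _ ⟨y, hy, rfl⟩
      obtain ⟨t, rfl⟩ := hs k ψ y
      exact ⟨t, hVu hy, (π_app_apply ψ t).symm⟩
    · exact ⟨c.π.app k s, hsV, π_app_apply ψ s⟩

/-- The base change of `lim D ⟶ D i` to any `T` is open when the transition maps to `D i` are
universally open and the projections are surjective. -/
theorem isOpenMap_pullback_snd_π_app [IsCofiltered I] (hc : IsLimit c)
    [∀ {i j : I} (f : i ⟶ j), IsAffineHom (D.map f)] (i : I)
    (hs : ∀ (j : I) (_ : j ⟶ i), Surjective (c.π.app j))
    (ho : ∀ (j : I) (φ : j ⟶ i), UniversallyOpen (D.map φ))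
    {T : Scheme.{u}} (g : T ⟶ D.obj i) : IsOpenMap ⇑(pullback.snd (c.π.app i) g) := by
  have haff : ∀ {j k : Over i} (f : j ⟶ k), IsAffineHom ((pbDiagram D i g).map f) :=
    fun f => isAffineHom_pbDiagram_map D i g f
  have h1 : IsOpenMap ⇑((pbCone D c i g).π.app (Over.mk (𝟙 i))) := by
    rw [isOpenMap_π_app_iff (pbDiagram D i g) (pbCone D c i g) (isLimitPbCone D c i g hc)
      (Over.mk (𝟙 i))]
    · intro j ψ
      have : UniversallyOpen (pbMap D i g ψ) := universallyOpen_pbMap D i g ψ (ho _ _)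
      exact (pbMap D i g ψ).isOpenMap
    · intro j ψ
      exact (surjective_pbConeApp D c i g j (hs j.left j.hom)).surj
  have h2 : UniversallyOpen (D.map (Over.mk (𝟙 i)).hom) := ho _ _
  have h3 : IsOpenMap ⇑(pullback.snd (D.map (Over.mk (𝟙 i)).hom) g) := Scheme.Hom.isOpenMap _
  have h4 : pullback.snd (c.π.app i) g =
      pbConeApp D c i g (Over.mk (𝟙 i)) ≫ pullback.snd (D.map (Over.mk (𝟙 i)).hom) g :=
    (pbConeApp_snd D c i g _).symm
  rw [h4, Scheme.Hom.comp_base, TopCat.coe_comp]
  exact h3.comp h1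

/-- **EGA IV 8.3.8 (iii)**, universally open maps. -/
theorem universallyOpen_π_app_iff [IsCofiltered I] (hc : IsLimit c)
    [∀ {i j : I} (f : i ⟶ j), IsAffineHom (D.map f)] (i : I)
    (hs : ∀ (j : I) (_ : j ⟶ i), Surjective (c.π.app j)) :
    UniversallyOpen (c.π.app i) ↔ ∀ (j : I) (φ : j ⟶ i), UniversallyOpen (D.map φ) := by
  constructor
  · intro h j φ
    refine ⟨fun X' Y' i₁ i₂ f' hpb => ?_⟩
    -- `q : lim D ×_{D i} Y' ⟶ X'`, a base change of `c.π.app j`
    let q : pullback (c.π.app i) i₂ ⟶ X' :=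
      hpb.lift (pullback.snd (c.π.app i) i₂) (pullback.fst (c.π.app i) i₂ ≫ c.π.app j)
        (by rw [Category.assoc, c.w, pullback.condition])
    have hq1 : q ≫ f' = pullback.snd (c.π.app i) i₂ := hpb.lift_fst _ _ _
    have hq2 : q ≫ i₁ = pullback.fst (c.π.app i) i₂ ≫ c.π.app j := hpb.lift_snd _ _ _
    have hbig : IsPullback (q ≫ f') (pullback.fst (c.π.app i) i₂) i₂ (c.π.app j ≫ D.map φ) := by
      rw [hq1, c.w]
      exact (IsPullback.of_hasPullback (c.π.app i) i₂).flip
    have hqpb : IsPullback q (pullback.fst (c.π.app i) i₂) i₁ (c.π.app j) :=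
      IsPullback.of_right hbig hq2 hpb
    have hqs : Surjective q :=
      MorphismProperty.of_isPullback (P := @Surjective) hqpb.flip (hs j φ)
    have hsnd : IsOpenMap ⇑(pullback.snd (c.π.app i) i₂) := Scheme.Hom.isOpenMap _
    intro W hW
    have : (⇑f' '' W : Set Y') = ⇑(pullback.snd (c.π.app i) i₂) '' (⇑q ⁻¹' W) := by
      ext y
      constructor
      · rintro ⟨x, hx, rfl⟩
        obtain ⟨z, rfl⟩ := hqs.surj x
        refine ⟨z, hx, ?_⟩
        rw [← hq1, Scheme.Hom.comp_apply]
      · rintro ⟨z, hz, rfl⟩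
        refine ⟨q z, hz, ?_⟩
        rw [← hq1, Scheme.Hom.comp_apply]
    rw [this]
    exact hsnd _ (hW.preimage q.continuous)
  · intro h
    refine ⟨fun X' Y' i₁ i₂ f' hpb => ?_⟩
    have e : f' = hpb.flip.isoPullback.hom ≫ pullback.snd (c.π.app i) i₂ :=
      (hpb.flip.isoPullback_hom_snd).symm
    change IsOpenMap ⇑f'
    rw [e, Scheme.Hom.comp_base, TopCat.coe_comp]
    exact (isOpenMap_pullback_snd_π_app D c hc i hs h i₂).comp
      (hpb.flip.isoPullback.hom.homeomorph).isOpenMap

end OpenMap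

end Groth.Agent.Lib.helper7.Lim8
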