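import Mathlib
import Groth.Agent.Lib.helper7.Lim8b

/-!
# Cofiltered limits of schemes with affine transition maps (EGA IV 8), part 4 — helper7 library

* `flat_of_filtered`: a "filtered colimit" of flat ring maps is flat (equational criterion).
* `flat_π_app`: `lim D ⟶ D i` is flat if all transition maps to `D i` are flat.
-/

set_option autoImplicit false
universe u
open CategoryTheory CategoryTheory.Limits AlgebraicGeometry

namespace Groth.Agent.Lib.helper7.Lim8

/-- A ring map `f : R → A` which is a "filtered colimit" of flat ring maps `g j : R → B j` is flat.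
The colimit is expressed elementwise. -/
theorem flat_of_filtered {R A : Type*} [CommRing R] [CommRing A] (f : R →+* A)
    {ι : Type*} [Nonempty ι] (B : ι → Type*) [∀ j, CommRing (B j)] (g : ∀ j, R →+* B j)
    (hg : ∀ j, (g j).Flat) (φ : ∀ j, B j →+* A) (hφ : ∀ j, (φ j).comp (g j) = f)
    (h1 : ∀ a : A, ∃ j b, φ j b = a)
    (h2 : ∀ j₁ j₂, ∃ (k : ι) (ψ₁ : B j₁ →+* B k) (ψ₂ : B j₂ →+* B k),
      (φ k).comp ψ₁ = φ j₁ ∧ (φ k).comp ψ₂ = φ j₂)
    (h3 : ∀ j (b : B j), φ j b = 0 → ∃ (k : ι) (ψ : B j →+* B k),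
      (φ k).comp ψ = φ j ∧ ψ.comp (g j) = g k ∧ ψ b = 0) : f.Flat := by
  have key : ∀ (l : ℕ) (x : Fin l → A), ∃ j, ∃ y : Fin l → B j, ∀ i, φ j (y i) = x i := by
    intro l
    induction l with
    | zero => intro x; exact ⟨Classical.arbitrary ι, Fin.elim0, fun i => i.elim0⟩
    | succ l ih =>
      intro x
      obtain ⟨j₁, y₁, hy₁⟩ := ih (fun i => x i.succ)
      obtain ⟨j₂, b, hb⟩ := h1 (x 0)
      obtain ⟨k, ψ₁, ψ₂, e₁, e₂⟩ := h2 j₁ j₂
      refine ⟨k, Fin.cons (ψ₂ b) (fun i => ψ₁ (y₁ i)), fun i => ?_⟩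
      refine Fin.cases ?_ (fun i => ?_) i
      · rw [Fin.cons_zero, ← RingHom.comp_apply, e₂, hb]
      · rw [Fin.cons_succ, ← RingHom.comp_apply, e₁, hy₁]
  let _ := f.toAlgebra
  change Module.Flat R A
  rw [Module.Flat.iff_forall_isTrivialRelation]
  intro l r x hx
  obtain ⟨j, y, hy⟩ := key l x
  have hb : φ j (∑ i, g j (r i) * y i) = 0 := by
    rw [map_sum, ← hx]
    refine Finset.sum_congr rfl fun i _ => ?_
    rw [map_mul, hy, ← RingHom.comp_apply, hφ, Algebra.smul_def]
    rfl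
  obtain ⟨k, ψ, e₁, e₂, e₃⟩ := h3 j _ hb
  have hk := hg k
  let _ := (g k).toAlgebra
  have hk' : Module.Flat R (B k) := hk
  have hrel : ∑ i, r i • ψ (y i) = 0 := by
    rw [← e₃, map_sum]
    refine Finset.sum_congr rfl fun i _ => ?_
    rw [map_mul, ← RingHom.comp_apply, e₂, Algebra.smul_def]
    rfl
  obtain ⟨m, a, z, hz1, hz2⟩ := Module.Flat.isTrivialRelation_of_sum_smul_eq_zero (R := R) (M := B k) hrel
  refine ⟨m, a, fun j' => φ k (z j'), fun i => ?_, hz2⟩
  have hz1' : ψ (y i) = ∑ j, a i j • z j := hz1 i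
  change x i = ∑ j', a i j' • φ k (z j')
  rw [← hy, ← e₁, RingHom.comp_apply, hz1', map_sum]
  refine Finset.sum_congr rfl fun j' _ => ?_
  rw [Algebra.smul_def, Algebra.smul_def, map_mul]
  congr 1
  change φ k (g k (a i j')) = f (a i j')
  rw [← RingHom.comp_apply, hφ]

variable {I : Type u} [SmallCategory I] (D : I ⥤ Scheme.{u}) (c : Cone D)

/-- The base change of `lim D ⟶ D i` to an affine `T` is flat when the transition maps to `D i`
are flat. -/
theorem flat_pullback_snd_π_app [IsCofiltered I] (hc : IsLimit c)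
    [∀ {i j : I} (f : i ⟶ j), IsAffineHom (D.map f)] (i : I)
    (hf : ∀ (j : I) (φ : j ⟶ i), Flat (D.map φ)) {T : Scheme.{u}} [IsAffine T]
    (g : T ⟶ D.obj i) : Flat (pullback.snd (c.π.app i) g) := by
  have hπaff : IsAffineHom (c.π.app i) := isAffineHom_π_app D c hc i
  have hE := isLimitPbCone D c i g hc
  have hsnd : IsAffineHom (pullback.snd (c.π.app i) g) :=
    MorphismProperty.pullback_snd (P := @IsAffineHom) _ _ hπaff
  have haffpt0 : IsAffine (pullback (c.π.app i) g) :=
    isAffine_of_isAffineHom (pullback.snd (c.π.app i) g)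
  have haffpt : IsAffine (pbCone D c i g).pt := haffpt0
  have haffj : ∀ j : Over i, IsAffine (pullback (D.map j.hom) g) := fun j =>
    (inferInstance : IsAffine ((pbDiagram D i g).obj j))
  rw [HasRingHomProperty.iff_of_isAffine (P := @Flat)]
  have : Nonempty (Over i) := ⟨Over.mk (𝟙 i)⟩
  refine flat_of_filtered (ι := Over i) _ (fun j => Γ(pullback (D.map j.hom) g, ⊤))
    (fun j => (pullback.snd (D.map j.hom) g).appTop.hom) ?_
    (fun j => (pbConeApp D c i g j).appTop.hom) ?_ ?_ ?_ ?_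
  · intro j
    have : Flat (pullback.snd (D.map j.hom) g) :=
      MorphismProperty.pullback_snd (P := @Flat) _ _ (hf j.left j.hom)
    exact (HasRingHomProperty.iff_of_isAffine (P := @Flat)).mp this
  · intro j
    rw [← CommRingCat.hom_comp, ← Scheme.Hom.comp_appTop, pbConeApp_snd]
  · intro a
    obtain ⟨j, t, ht⟩ := exists_appTop_π_eq_of_isAffine_of_isLimit (pbDiagram D i g)
      (pbCone D c i g) hE a
    exact ⟨j, t, ht⟩
  · intro j₁ j₂
    refine ⟨IsCofiltered.min j₁ j₂,
      (pbMap D i g (IsCofiltered.minToLeft j₁ j₂)).appTop.hom,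
      (pbMap D i g (IsCofiltered.minToRight j₁ j₂)).appTop.hom, ?_, ?_⟩
    · rw [← CommRingCat.hom_comp, ← Scheme.Hom.comp_appTop, pbConeApp_naturality]
    · rw [← CommRingCat.hom_comp, ← Scheme.Hom.comp_appTop, pbConeApp_naturality]
  · intro j b hb
    obtain ⟨k, f, hk⟩ := exists_appTop_map_eq_zero_of_isAffine_of_isLimit (pbDiagram D i g)
      (pbCone D c i g) hE j b hb
    refine ⟨k, (pbMap D i g f).appTop.hom, ?_, ?_, hk⟩
    · rw [← CommRingCat.hom_comp, ← Scheme.Hom.comp_appTop, pbConeApp_naturality]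
    · rw [← CommRingCat.hom_comp, ← Scheme.Hom.comp_appTop, pbMap_snd]

/-- **EGA IV 8.3.8 (flat case)**: `lim D ⟶ D i` is flat if all transition maps to `D i` are. -/
theorem flat_π_app [IsCofiltered I] (hc : IsLimit c)
    [∀ {i j : I} (f : i ⟶ j), IsAffineHom (D.map f)] (i : I)
    (hf : ∀ (j : I) (φ : j ⟶ i), Flat (D.map φ)) : Flat (c.π.app i) := by
  rw [IsZariskiLocalAtTarget.iff_of_openCover (P := @Flat) (D.obj i).affineCover]
  intro x
  exact flat_pullback_snd_π_app D c hc i hf ((D.obj i).affineCover.f x)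

end Groth.Agent.Lib.helper7.Lim8
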