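import Mathlib
import Groth.Prelude.Def_ProCons
import Groth.Agent.Lib.helper11.SpectralConstr

/-!
# Pro-constructible and ind-constructible subsets via the constructible topology — helper7 library

For an open subset `W` of a topological space `X` which is a spectral space (e.g. an affine open of
a scheme), a pro-constructible subset of `X` meets `W` in a closed subset for the constructible
topology of `W`, an ind-constructible one in an open subset; and conversely.
(EGA IV 1.9.4–1.9.5, local-to-global.)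
-/

set_option autoImplicit false
universe u

namespace Groth.Agent.Lib.helper7.PC

open Topology Set TopologicalSpace
open Groth.Agent.Lib.helper11.Spec

variable {X : Type u} [TopologicalSpace X]

/-- A locally constructible subset of an open `U`, restricted to a compact open `V ⊆ U ∩ W`, is
constructible in the spectral open `W`. -/
lemma isConstructible_restrict {U W V : Set X} [SpectralSpace ↥W]
    (hV : IsOpen V) (hVc : IsCompact V) (hVU : V ⊆ U) (hVW : V ⊆ W) {T : Set ↥U}
    (hT : IsLocallyConstructible T) :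
    IsConstructible {w : ↥W | ∃ h : w.1 ∈ V, (⟨w.1, hVU h⟩ : ↥U) ∈ T} := by
  have hi : IsOpenEmbedding (Set.inclusion hVU) :=
    IsOpenEmbedding.inclusion hVU (hV.preimage continuous_subtype_val)
  have hj : IsOpenEmbedding (Set.inclusion hVW) :=
    IsOpenEmbedding.inclusion hVW (hV.preimage continuous_subtype_val)
  have hTV : IsLocallyConstructible (Set.inclusion hVU ⁻¹' T) := hT.preimage_of_isOpenEmbedding hi
  haveI : CompactSpace ↥V := isCompact_iff_compactSpace.mp hVc
  haveI : QuasiSeparatedSpace ↥V := hj.quasiSeparatedSpace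
  haveI : PrespectralSpace ↥V := hj.prespectralSpace
  have hTVc : IsConstructible (Set.inclusion hVU ⁻¹' T) := hTV.isConstructible
  have hrange : IsRetrocompact (Set.range (Set.inclusion hVW)) :=
    (isCompact_range hj.continuous).isRetrocompact hj.isOpen_range
  have := hTVc.image_of_isOpenEmbedding hj hrange
  convert this using 1
  ext w
  constructor
  · rintro ⟨h, hT⟩
    exact ⟨⟨w.1, h⟩, hT, Subtype.ext rfl⟩
  · rintro ⟨v, hv, rfl⟩
    exact ⟨v.2, hv⟩

/-- **Pro-constructible ⇒ constructibly closed** on every spectral open. -/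
theorem isClosed_constr_of_isProConstructible {E : Set X} (hE : ProCons.IsProConstructible E)
    (W : Set X) (hW : IsOpen W) [SpectralSpace ↥W] :
    IsClosed[constructibleTopology ↥W] (Subtype.val ⁻¹' E : Set ↥W) := by
  have key : ∀ w : ↥W, ∃ V : Set ↥W, IsOpen V ∧ IsCompact V ∧ w ∈ V ∧
      IsClosed[constructibleTopology ↥W] (V ∩ Subtype.val ⁻¹' E) := by
    intro w
    obtain ⟨U, hU, hwU, S, hS, hES⟩ := hE w.1
    obtain ⟨V, ⟨hVo, hVc⟩, hwV, hVU⟩ :=
      PrespectralSpace.isTopologicalBasis.exists_subset_of_mem_open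
        (show w ∈ (Subtype.val ⁻¹' U : Set ↥W) from hwU) (hU.preimage continuous_subtype_val)
    have hV'o : IsOpen (Subtype.val '' V : Set X) := hW.isOpenMap_subtype_val V hVo
    have hV'c : IsCompact (Subtype.val '' V : Set X) := hVc.image continuous_subtype_val
    have hV'U : (Subtype.val '' V : Set X) ⊆ U := by
      rintro _ ⟨v, hv, rfl⟩
      exact hVU hv
    have hV'W : (Subtype.val '' V : Set X) ⊆ W := by
      rintro _ ⟨v, hv, rfl⟩
      exact v.2
    refine ⟨V, hVo, hVc, hwV, ?_⟩
    have hmemV : ∀ z : ↥W, z ∈ V → z.1 ∈ (Subtype.val '' V : Set X) := fun z hz => ⟨z, hz, rfl⟩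
    have heq : V ∩ Subtype.val ⁻¹' E = V ∩ ⋂ T ∈ S,
        {w : ↥W | ∃ h : w.1 ∈ (Subtype.val '' V : Set X), (⟨w.1, hV'U h⟩ : ↥U) ∈ T} := by
      ext z
      simp only [mem_inter_iff, mem_preimage, mem_iInter, mem_setOf_eq]
      constructor
      · rintro ⟨hzV, hzE⟩
        refine ⟨hzV, fun T hT => ⟨hmemV z hzV, ?_⟩⟩
        have h1 : (⟨z.1, hV'U (hmemV z hzV)⟩ : ↥U) ∈ (Subtype.val ⁻¹' E : Set ↥U) := hzE
        rw [hES] at h1
        exact h1 T hT
      · rintro ⟨hzV, h⟩
        refine ⟨hzV, ?_⟩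
        have h1 : (⟨z.1, hV'U (hmemV z hzV)⟩ : ↥U) ∈ (Subtype.val ⁻¹' E : Set ↥U) := by
          rw [hES]
          intro T hT
          obtain ⟨_, h'⟩ := h T hT
          exact h'
        exact h1
    rw [heq]
    have hcl : ∀ T ∈ S, IsClosed[constructibleTopology ↥W]
        {w : ↥W | ∃ h : w.1 ∈ (Subtype.val '' V : Set X), (⟨w.1, hV'U h⟩ : ↥U) ∈ T} :=
      fun T hT => isClosed_constr_of_isConstructible
        (isConstructible_restrict hV'o hV'c hV'U hV'W (hS T hT))
    have h2 : IsClosed[constructibleTopology ↥W] (⋂ T ∈ S,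
        {w : ↥W | ∃ h : w.1 ∈ (Subtype.val '' V : Set X), (⟨w.1, hV'U h⟩ : ↥U) ∈ T}) :=
      letI := constructibleTopology ↥W
      isClosed_biInter hcl
    have h3 : IsClosed[constructibleTopology ↥W] V := isClosed_constr_of_isCompact_isOpen hVc hVo
    exact (letI := constructibleTopology ↥W; IsClosed.inter h3 h2)
  choose V hVo hVc hwV hVcl using key
  obtain ⟨σ, -, hσ⟩ := isCompact_univ.elim_nhds_subcover V
    (fun w _ => (hVo w).mem_nhds (hwV w))
  have heq : (Subtype.val ⁻¹' E : Set ↥W) = ⋃ w ∈ σ, (V w ∩ Subtype.val ⁻¹' E) := by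
    ext z
    simp only [mem_iUnion, mem_inter_iff, exists_prop]
    constructor
    · intro hz
      obtain ⟨w, hw, hzw⟩ := mem_iUnion₂.mp (hσ (mem_univ z))
      exact ⟨w, hw, hzw, hz⟩
    · rintro ⟨w, _, _, hz⟩
      exact hz
  rw [heq]
  exact (letI := constructibleTopology ↥W; isClosed_biUnion_finset (fun w _ => hVcl w))

/-- **Ind-constructible ⇒ constructibly open** on every spectral open. -/
theorem isOpen_constr_of_isIndConstructible {E : Set X} (hE : ProCons.IsIndConstructible E)
    (W : Set X) (hW : IsOpen W) [SpectralSpace ↥W] :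
    IsOpen[constructibleTopology ↥W] (Subtype.val ⁻¹' E : Set ↥W) := by
  have key : ∀ w : ↥W, ∃ V : Set ↥W, w ∈ V ∧
      IsOpen[constructibleTopology ↥W] (V ∩ Subtype.val ⁻¹' E) := by
    intro w
    obtain ⟨U, hU, hwU, S, hS, hES⟩ := hE w.1
    obtain ⟨V, ⟨hVo, hVc⟩, hwV, hVU⟩ :=
      PrespectralSpace.isTopologicalBasis.exists_subset_of_mem_open
        (show w ∈ (Subtype.val ⁻¹' U : Set ↥W) from hwU) (hU.preimage continuous_subtype_val)
    have hV'o : IsOpen (Subtype.val '' V : Set X) := hW.isOpenMap_subtype_val V hVo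
    have hV'c : IsCompact (Subtype.val '' V : Set X) := hVc.image continuous_subtype_val
    have hV'U : (Subtype.val '' V : Set X) ⊆ U := by
      rintro _ ⟨v, hv, rfl⟩
      exact hVU hv
    have hV'W : (Subtype.val '' V : Set X) ⊆ W := by
      rintro _ ⟨v, hv, rfl⟩
      exact v.2
    refine ⟨V, hwV, ?_⟩
    have hmemV : ∀ z : ↥W, z ∈ V → z.1 ∈ (Subtype.val '' V : Set X) := fun z hz => ⟨z, hz, rfl⟩
    have heq : V ∩ Subtype.val ⁻¹' E = ⋃ T ∈ S,
        {w : ↥W | ∃ h : w.1 ∈ (Subtype.val '' V : Set X), (⟨w.1, hV'U h⟩ : ↥U) ∈ T} := by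
      ext z
      simp only [mem_inter_iff, mem_preimage, mem_iUnion, mem_setOf_eq, exists_prop]
      constructor
      · rintro ⟨hzV, hzE⟩
        have h1 : (⟨z.1, hV'U (hmemV z hzV)⟩ : ↥U) ∈ (Subtype.val ⁻¹' E : Set ↥U) := hzE
        rw [hES] at h1
        obtain ⟨T, hT, hzT⟩ := h1
        exact ⟨T, hT, hmemV z hzV, hzT⟩
      · rintro ⟨T, hT, ⟨v, hv, hvz⟩, hzT⟩
        have hzV : z ∈ V := by
          have : v = z := Subtype.ext hvz
          rwa [← this]
        refine ⟨hzV, ?_⟩
        have h1 : (⟨z.1, hV'U (hmemV z hzV)⟩ : ↥U) ∈ (Subtype.val ⁻¹' E : Set ↥U) := by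
          rw [hES]
          exact ⟨T, hT, hzT⟩
        exact h1
    rw [heq]
    have hop : ∀ T ∈ S, IsOpen[constructibleTopology ↥W]
        {w : ↥W | ∃ h : w.1 ∈ (Subtype.val '' V : Set X), (⟨w.1, hV'U h⟩ : ↥U) ∈ T} :=
      fun T hT => isOpen_constr_of_isConstructible
        (isConstructible_restrict hV'o hV'c hV'U hV'W (hS T hT))
    exact (letI := constructibleTopology ↥W; isOpen_biUnion hop)
  choose V hwV hVop using key
  have heq : (Subtype.val ⁻¹' E : Set ↥W) = ⋃ w : ↥W, (V w ∩ Subtype.val ⁻¹' E) := by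
    ext z
    simp only [mem_iUnion, mem_inter_iff]
    constructor
    · intro hz
      exact ⟨z, hwV z, hz⟩
    · rintro ⟨w, _, hz⟩
      exact hz
  rw [heq]
  exact (letI := constructibleTopology ↥W; isOpen_iUnion hVop)

/-- Constructibly closed subsets of a spectral space are intersections of constructible subsets. -/
lemma eq_sInter_of_isClosed_constr {Y : Type u} [TopologicalSpace Y] [SpectralSpace Y] {A : Set Y}
    (hA : IsClosed[constructibleTopology Y] A) :
    A = ⋂₀ {T : Set Y | IsConstructible T ∧ A ⊆ T} := by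
  apply Subset.antisymm
  · exact subset_sInter fun T hT => hT.2
  · intro y hy
    by_contra hyA
    have hB := @TopologicalSpace.isTopologicalBasis_of_subbasis Y (constructibleTopology Y)
      (constructibleTopologySubbasis Y) rfl
    have hAo : IsOpen[constructibleTopology Y] Aᶜ :=
      (@isOpen_compl_iff Y A (constructibleTopology Y)).mpr hA
    obtain ⟨b, ⟨F, ⟨hFfin, hFsub⟩, rfl⟩, hyb, hbs⟩ :=
      (@TopologicalSpace.IsTopologicalBasis.exists_subset_of_mem_open Y (constructibleTopology Y)
        _ hB y Aᶜ hyA hAo)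
    have hbc : IsConstructible (⋂₀ F) :=
      IsConstructible.sInter hFfin fun u hu => isConstructible_of_mem_subbasis (hFsub hu)
    have : y ∈ (⋂₀ F)ᶜ := hy _ ⟨hbc.compl, fun z hz hzb => hbs hzb hz⟩
    exact this hyb

/-- Constructibly open subsets of a spectral space are unions of constructible subsets. -/
lemma eq_sUnion_of_isOpen_constr {Y : Type u} [TopologicalSpace Y] [SpectralSpace Y] {A : Set Y}
    (hA : IsOpen[constructibleTopology Y] A) :
    A = ⋃₀ {T : Set Y | IsConstructible T ∧ T ⊆ A} := by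
  apply Subset.antisymm
  · intro y hyA
    have hB := @TopologicalSpace.isTopologicalBasis_of_subbasis Y (constructibleTopology Y)
      (constructibleTopologySubbasis Y) rfl
    obtain ⟨b, ⟨F, ⟨hFfin, hFsub⟩, rfl⟩, hyb, hbs⟩ :=
      (@TopologicalSpace.IsTopologicalBasis.exists_subset_of_mem_open Y (constructibleTopology Y)
        _ hB y A hyA hA)
    have hbc : IsConstructible (⋂₀ F) :=
      IsConstructible.sInter hFfin fun u hu => isConstructible_of_mem_subbasis (hFsub hu)
    exact ⟨⋂₀ F, ⟨hbc, hbs⟩, hyb⟩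
  · exact sUnion_subset fun T hT => hT.2

/-- **Constructibly closed on a cover by spectral opens ⇒ pro-constructible.** -/
theorem isProConstructible_of_forall_exists {E : Set X}
    (h : ∀ x : X, ∃ W : Set X, IsOpen W ∧ x ∈ W ∧ ∃ _ : SpectralSpace ↥W,
      IsClosed[constructibleTopology ↥W] (Subtype.val ⁻¹' E : Set ↥W)) :
    ProCons.IsProConstructible E := by
  intro x
  obtain ⟨W, hW, hxW, hsp, hcl⟩ := h x
  exact ⟨W, hW, hxW, {T : Set ↥W | IsConstructible T ∧ (Subtype.val ⁻¹' E : Set ↥W) ⊆ T},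
    fun T hT => hT.1.isLocallyConstructible, eq_sInter_of_isClosed_constr hcl⟩

/-- **Constructibly open on a cover by spectral opens ⇒ ind-constructible.** -/
theorem isIndConstructible_of_forall_exists {E : Set X}
    (h : ∀ x : X, ∃ W : Set X, IsOpen W ∧ x ∈ W ∧ ∃ _ : SpectralSpace ↥W,
      IsOpen[constructibleTopology ↥W] (Subtype.val ⁻¹' E : Set ↥W)) :
    ProCons.IsIndConstructible E := by
  intro x
  obtain ⟨W, hW, hxW, hsp, hop⟩ := h x
  exact ⟨W, hW, hxW, {T : Set ↥W | IsConstructible T ∧ T ⊆ (Subtype.val ⁻¹' E : Set ↥W)},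
    fun T hT => hT.1.isLocallyConstructible, eq_sUnion_of_isOpen_constr hop⟩

/-- Compactness in the constructible topology: finite subfamilies. -/
lemma exists_finset_biInter_subset {Y : Type u} [TopologicalSpace Y] [SpectralSpace Y]
    {ι : Type*} (C : ι → Set Y) (hC : ∀ i, IsClosed[constructibleTopology Y] (C i)) (O : Set Y)
    (hO : IsOpen[constructibleTopology Y] O) (h : ⋂ i, C i ⊆ O) :
    ∃ J : Finset ι, ⋂ i ∈ J, C i ⊆ O := by
  have hOc : IsClosed[constructibleTopology Y] Oᶜ :=
    (@isClosed_compl_iff Y (constructibleTopology Y) O).mpr hO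
  have hcomp : @IsCompact Y (constructibleTopology Y) Oᶜ := isCompact_constr_of_isClosed_constr hOc
  have hemp : Oᶜ ∩ ⋂ i, C i = ∅ := by
    ext y
    simp only [mem_inter_iff, mem_compl_iff, mem_iInter, mem_empty_iff_false, iff_false, not_and]
    intro hy hyC
    exact hy (h (mem_iInter.mpr hyC))
  obtain ⟨J, hJ⟩ := (letI := constructibleTopology Y;
    IsCompact.elim_finite_subfamily_closed hcomp C hC hemp)
  refine ⟨J, fun y hy => ?_⟩
  by_contra hyO
  have : y ∈ Oᶜ ∩ ⋂ i ∈ J, C i := ⟨hyO, hy⟩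
  rw [hJ] at this
  exact this

/-- Compactness in the constructible topology: finite subcovers. -/
lemma exists_finset_subset_biUnion {Y : Type u} [TopologicalSpace Y] [SpectralSpace Y]
    {ι : Type*} (F : Set Y) (hF : IsClosed[constructibleTopology Y] F) (O : ι → Set Y)
    (hO : ∀ i, IsOpen[constructibleTopology Y] (O i)) (h : F ⊆ ⋃ i, O i) :
    ∃ J : Finset ι, F ⊆ ⋃ i ∈ J, O i := by
  have hcomp : @IsCompact Y (constructibleTopology Y) F := isCompact_constr_of_isClosed_constr hF
  exact (letI := constructibleTopology Y; IsCompact.elim_finite_subcover hcomp O hO h)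

end Groth.Agent.Lib.helper7.PC
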