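import Mathlib
import Groth.Prelude.Def_ProCons
import Groth.Agent.Lib.helper7.PC1

/-!
# Pro-constructible and ind-constructible subsets of schemes — helper7 library

* affine opens are spectral spaces;
* `isProConstructible_iff`, `isIndConstructible_iff`: characterization on affine opens via the
  constructible topology;
* EGA IV 1.9.9 (quasi-compactness of the constructible topology): `exists_finset_biInter_subset`,
  `exists_finset_subset_biUnion`;
* EGA IV 1.9.10–1.9.12: interior criterion, locally constructible ⟺ ind + pro, closure criterion.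
-/

set_option autoImplicit false
universe u

namespace Groth.Agent.Lib.helper7.PC

open Topology Set TopologicalSpace CategoryTheory AlgebraicGeometry
open Groth.Agent.Lib.helper11.Spec

variable {X : Scheme.{u}}

/-- An affine open of a scheme is a spectral space. -/
theorem spectralSpace_of_isAffineOpen {W : X.Opens} (hW : IsAffineOpen W) :
    SpectralSpace ↥(W : Set X) := by
  have h1 : CompactSpace ↥(W : Set X) := isCompact_iff_compactSpace.mp hW.isCompact
  have h2 : QuasiSober ↥(W : Set X) := W.2.isOpenEmbedding_subtypeVal.quasiSober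
  have h3 : QuasiSeparatedSpace ↥(W : Set X) :=
    (isQuasiSeparated_iff_quasiSeparatedSpace (W : Set X) W.2).mp hW.isQuasiSeparated
  have h4 : PrespectralSpace ↥(W : Set X) := W.2.isOpenEmbedding_subtypeVal.prespectralSpace
  exact { }

/-- every point lies in an affine open -/
lemma exists_isAffineOpen_mem (x : X) : ∃ W : X.Opens, IsAffineOpen W ∧ x ∈ W := by
  obtain ⟨_, ⟨W, hW, rfl⟩, hxW, -⟩ :=
    X.isBasis_affineOpens.exists_subset_of_mem_open (mem_univ x) isOpen_univ
  exact ⟨W, hW, hxW⟩

theorem isProConstructible_iff (E : Set X) :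
    ProCons.IsProConstructible E ↔ ∀ W : X.Opens, IsAffineOpen W →
      IsClosed[constructibleTopology ↥(W : Set X)] (Subtype.val ⁻¹' E : Set ↥(W : Set X)) := by
  constructor
  · intro hE W hW
    have := spectralSpace_of_isAffineOpen hW
    exact isClosed_constr_of_isProConstructible hE (W : Set X) W.2
  · intro h
    refine isProConstructible_of_forall_exists fun x => ?_
    obtain ⟨W, hW, hxW⟩ := exists_isAffineOpen_mem x
    exact ⟨(W : Set X), W.2, hxW, spectralSpace_of_isAffineOpen hW, h W hW⟩

theorem isIndConstructible_iff (E : Set X) :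
    ProCons.IsIndConstructible E ↔ ∀ W : X.Opens, IsAffineOpen W →
      IsOpen[constructibleTopology ↥(W : Set X)] (Subtype.val ⁻¹' E : Set ↥(W : Set X)) := by
  constructor
  · intro hE W hW
    have := spectralSpace_of_isAffineOpen hW
    exact isOpen_constr_of_isIndConstructible hE (W : Set X) W.2
  · intro h
    refine isIndConstructible_of_forall_exists fun x => ?_
    obtain ⟨W, hW, hxW⟩ := exists_isAffineOpen_mem x
    exact ⟨(W : Set X), W.2, hxW, spectralSpace_of_isAffineOpen hW, h W hW⟩

/-- **EGA IV 1.9.9**: finite subfamilies. -/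
theorem exists_finset_biInter_subset_of_isProConstructible [CompactSpace X] (E : Set X)
    (hE : ProCons.IsIndConstructible E) {ι : Type*} (F : ι → Set X)
    (hF : ∀ i, ProCons.IsProConstructible (F i)) (h : ⋂ i, F i ⊆ E) :
    ∃ J : Finset ι, ⋂ i ∈ J, F i ⊆ E := by
  classical
  choose W hW hxW using fun x : X => exists_isAffineOpen_mem x
  obtain ⟨σ, -, hσ⟩ := isCompact_univ.elim_nhds_subcover (fun x => (W x : Set X))
    (fun x _ => (W x).2.mem_nhds (hxW x))
  have key : ∀ x : X, ∃ J : Finset ι, ∀ y ∈ (W x : Set X), (∀ i ∈ J, y ∈ F i) → y ∈ E := by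
    intro x
    have := spectralSpace_of_isAffineOpen (hW x)
    obtain ⟨J, hJ⟩ := exists_finset_biInter_subset
      (fun i => (Subtype.val ⁻¹' F i : Set ↥(W x : Set X)))
      (fun i => (isProConstructible_iff (F i)).mp (hF i) (W x) (hW x))
      (Subtype.val ⁻¹' E : Set ↥(W x : Set X))
      ((isIndConstructible_iff E).mp hE (W x) (hW x))
      (by
        intro y hy
        apply h
        rw [mem_iInter] at hy ⊢
        exact hy)
    refine ⟨J, fun y hyW hy => ?_⟩
    have : (⟨y, hyW⟩ : ↥(W x : Set X)) ∈ ⋂ i ∈ J, (Subtype.val ⁻¹' F i : Set ↥(W x : Set X)) := by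
      simp only [mem_iInter, mem_preimage]
      exact hy
    exact hJ this
  choose J hJ using key
  refine ⟨σ.biUnion J, fun y hy => ?_⟩
  obtain ⟨x, hxσ, hyx⟩ := mem_iUnion₂.mp (hσ (mem_univ y))
  refine hJ x y hyx fun i hi => ?_
  simp only [mem_iInter] at hy
  exact hy i (Finset.mem_biUnion.mpr ⟨x, hxσ, hi⟩)

/-- **EGA IV 1.9.9**: finite subcovers. -/
theorem exists_finset_subset_biUnion_of_isProConstructible [CompactSpace X] (F : Set X)
    (hF : ProCons.IsProConstructible F) {ι : Type*} (E : ι → Set X)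
    (hE : ∀ i, ProCons.IsIndConstructible (E i)) (h : F ⊆ ⋃ i, E i) :
    ∃ J : Finset ι, F ⊆ ⋃ i ∈ J, E i := by
  classical
  choose W hW hxW using fun x : X => exists_isAffineOpen_mem x
  obtain ⟨σ, -, hσ⟩ := isCompact_univ.elim_nhds_subcover (fun x => (W x : Set X))
    (fun x _ => (W x).2.mem_nhds (hxW x))
  have key : ∀ x : X, ∃ J : Finset ι, ∀ y ∈ (W x : Set X), y ∈ F → ∃ i ∈ J, y ∈ E i := by
    intro x
    have := spectralSpace_of_isAffineOpen (hW x)
    obtain ⟨J, hJ⟩ := exists_finset_subset_biUnion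
      (Subtype.val ⁻¹' F : Set ↥(W x : Set X))
      ((isProConstructible_iff F).mp hF (W x) (hW x))
      (fun i => (Subtype.val ⁻¹' E i : Set ↥(W x : Set X)))
      (fun i => (isIndConstructible_iff (E i)).mp (hE i) (W x) (hW x))
      (by
        intro y hy
        obtain ⟨i, hi⟩ := mem_iUnion.mp (h hy)
        exact mem_iUnion.mpr ⟨i, hi⟩)
    refine ⟨J, fun y hyW hy => ?_⟩
    have := hJ (show (⟨y, hyW⟩ : ↥(W x : Set X)) ∈ (Subtype.val ⁻¹' F : Set ↥(W x : Set X)) from hy)
    simp only [mem_iUnion, mem_preimage, exists_prop] at this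
    exact this
  choose J hJ using key
  refine ⟨σ.biUnion J, fun y hy => ?_⟩
  obtain ⟨x, hxσ, hyx⟩ := mem_iUnion₂.mp (hσ (mem_univ y))
  obtain ⟨i, hi, hyi⟩ := hJ x y hyx hy
  exact mem_iUnion₂.mpr ⟨i, Finset.mem_biUnion.mpr ⟨x, hxσ, hi⟩, hyi⟩

/-- **EGA IV 1.9.12**: locally constructible ⟺ ind-constructible and pro-constructible. -/
theorem isLocallyConstructible_iff (E : Set X) :
    IsLocallyConstructible E ↔ ProCons.IsIndConstructible E ∧ ProCons.IsProConstructible E := by
  constructor
  · intro hE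
    have h1 : IsLocallyConstructible (Subtype.val ⁻¹' E : Set ↥(univ : Set X)) :=
      hE.preimage_of_isOpenEmbedding isOpen_univ.isOpenEmbedding_subtypeVal
    constructor
    · intro x
      exact ⟨univ, isOpen_univ, mem_univ x, {Subtype.val ⁻¹' E}, by simpa using h1, by simp⟩
    · intro x
      exact ⟨univ, isOpen_univ, mem_univ x, {Subtype.val ⁻¹' E}, by simpa using h1, by simp⟩
  · rintro ⟨hind, hpro⟩
    let U : X.affineOpens → X.Opens := fun W => W.1
    have hU : IsOpenCover U := by
      rw [IsOpenCover, eq_top_iff]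
      intro x _
      obtain ⟨W, hW, hxW⟩ := exists_isAffineOpen_mem x
      exact Opens.mem_iSup.mpr ⟨⟨W, hW⟩, hxW⟩
    refine IsLocallyConstructible.of_isOpenCover hU fun W => ?_
    have := spectralSpace_of_isAffineOpen W.2
    exact (isConstructible_of_isClopen_constr
      ((isProConstructible_iff E).mp hpro W.1 W.2)
      ((isIndConstructible_iff E).mp hind W.1 W.2)).isLocallyConstructible

/-- In a prespectral space, a point lying in all compact open neighbourhoods of `y` is a
generization of `y`. -/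
lemma specializes_of_forall_compact_open {Y : Type u} [TopologicalSpace Y] [PrespectralSpace Y]
    {z y : Y} (h : ∀ V : Set Y, IsOpen V → IsCompact V → y ∈ V → z ∈ V) : z ⤳ y := by
  rw [specializes_iff_forall_open]
  intro s hs hys
  obtain ⟨V, ⟨hVo, hVc⟩, hyV, hVs⟩ :=
    PrespectralSpace.isTopologicalBasis.exists_subset_of_mem_open hys hs
  exact hVs (h V hVo hVc hyV)

/-- **EGA IV 1.9.10**: interior of an ind-constructible set. -/
theorem mem_interior_iff_of_isIndConstructible (E : Set X) (hE : ProCons.IsIndConstructible E)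
    (x : X) : x ∈ interior E ↔ ∀ x' : X, x' ⤳ x → x' ∈ E := by
  constructor
  · intro hx x' hx'
    exact interior_subset (hx'.mem_open isOpen_interior hx)
  · intro h
    obtain ⟨W, hW, hxW⟩ := exists_isAffineOpen_mem x
    have := spectralSpace_of_isAffineOpen hW
    let y : ↥(W : Set X) := ⟨x, hxW⟩
    obtain ⟨J, hJ⟩ := exists_finset_biInter_subset
      (fun V : {V : Set ↥(W : Set X) // IsOpen V ∧ IsCompact V ∧ y ∈ V} => V.1)
      (fun V => isClosed_constr_of_isCompact_isOpen V.2.2.1 V.2.1)
      (Subtype.val ⁻¹' E : Set ↥(W : Set X))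
      ((isIndConstructible_iff E).mp hE W hW)
      (by
        intro z hz
        have hzy : z ⤳ y := specializes_of_forall_compact_open fun V hVo hVc hyV =>
          mem_iInter.mp hz ⟨V, hVo, hVc, hyV⟩
        exact h z.1 ((subtype_specializes_iff z y).mp hzy))
    have hNo : IsOpen (⋂ V ∈ J, (V.1 : Set ↥(W : Set X))) :=
      isOpen_biInter_finset fun V _ => V.2.1
    rw [mem_interior]
    refine ⟨Subtype.val '' (⋂ V ∈ J, (V.1 : Set ↥(W : Set X))), ?_,
      W.2.isOpenMap_subtype_val _ hNo, ⟨y, ?_, rfl⟩⟩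
    · rintro _ ⟨z, hz, rfl⟩
      exact hJ hz
    · exact mem_iInter₂.mpr fun V _ => V.2.2.2

/-- **EGA IV 1.9.11**, necessity (any scheme). -/
theorem mem_nhds_closure_of_isIndConstructible (E : Set X) (hE : ProCons.IsIndConstructible E)
    (x : X) (hx : x ∈ E) :
    (Subtype.val ⁻¹' E : Set ↥(closure ({x} : Set X))) ∈
      nhds (⟨x, subset_closure rfl⟩ : ↥(closure ({x} : Set X))) := by
  obtain ⟨W, hW, hxW⟩ := exists_isAffineOpen_mem x
  have := spectralSpace_of_isAffineOpen hW
  let y : ↥(W : Set X) := ⟨x, hxW⟩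
  obtain ⟨J, hJ⟩ := exists_finset_biInter_subset
    (fun V : {V : Set ↥(W : Set X) // IsOpen V ∧ IsCompact V ∧ y ∈ V} => V.1 ∩ closure {y})
    (fun V => by
      have h1 : IsClosed[constructibleTopology ↥(W : Set X)] V.1 :=
        isClosed_constr_of_isCompact_isOpen V.2.2.1 V.2.1
      have h2 : IsClosed[constructibleTopology ↥(W : Set X)] (closure {y}) :=
        isClosed_constr_of_isClosed isClosed_closure
      exact (letI := constructibleTopology ↥(W : Set X); IsClosed.inter h1 h2))
    (Subtype.val ⁻¹' E : Set ↥(W : Set X))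
    ((isIndConstructible_iff E).mp hE W hW)
    (by
      intro z hz
      have hzy : z ⤳ y := specializes_of_forall_compact_open fun V hVo hVc hyV =>
        (mem_iInter.mp hz ⟨V, hVo, hVc, hyV⟩).1
      have hyz : y ⤳ z := by
        rw [specializes_iff_mem_closure]
        exact (mem_iInter.mp hz ⟨univ, isOpen_univ, isCompact_univ, mem_univ y⟩).2
      have : z = y := (hzy.antisymm hyz).eq
      rw [this]
      exact hx)
  have hNo : IsOpen (⋂ V ∈ J, (V.1 : Set ↥(W : Set X))) :=
    isOpen_biInter_finset fun V _ => V.2.1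
  rw [mem_nhds_iff]
  refine ⟨Subtype.val ⁻¹' (Subtype.val '' (⋂ V ∈ J, (V.1 : Set ↥(W : Set X)))), ?_,
    (W.2.isOpenMap_subtype_val _ hNo).preimage continuous_subtype_val, ⟨y, ?_, rfl⟩⟩
  · rintro p ⟨n, hn, hnp⟩
    have hncl : n ∈ closure ({y} : Set ↥(W : Set X)) := by
      rw [closure_subtype, image_singleton]
      change n.1 ∈ closure {x}
      rw [hnp]
      exact p.2
    have : n ∈ (Subtype.val ⁻¹' E : Set ↥(W : Set X)) :=
      hJ (mem_iInter₂.mpr fun V hV => ⟨mem_iInter₂.mp hn V hV, hncl⟩)
    change p.1 ∈ E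
    rw [← hnp]
    exact this
  · exact mem_iInter₂.mpr fun V _ => V.2.2.2

/-- **EGA IV 1.9.11**, sufficiency (locally Noetherian schemes). -/
theorem isIndConstructible_of_forall_mem_nhds_closure [IsLocallyNoetherian X] (E : Set X)
    (h : ∀ x ∈ E, (Subtype.val ⁻¹' E : Set ↥(closure ({x} : Set X))) ∈
      nhds (⟨x, subset_closure rfl⟩ : ↥(closure ({x} : Set X)))) :
    ProCons.IsIndConstructible E := by
  -- for each `x ∈ E` an open `N x ∋ x` of `X` with `N x ∩ closure {x} ⊆ E`
  have key : ∀ x ∈ E, ∃ N : Set X, IsOpen N ∧ x ∈ N ∧ N ∩ closure {x} ⊆ E := by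
    intro x hx
    obtain ⟨t, htE, hto, hxt⟩ := mem_nhds_iff.mp (h x hx)
    obtain ⟨N, hN, rfl⟩ := isOpen_induced_iff.mp hto
    exact ⟨N, hN, hxt, fun z hz => htE (show (⟨z, hz.2⟩ : ↥(closure ({x} : Set X))) ∈ _ from hz.1)⟩
  intro p
  obtain ⟨W, hW, hpW⟩ := exists_isAffineOpen_mem p
  have hNoeth : IsNoetherianRing Γ(X, W) := IsLocallyNoetherian.component_noetherian ⟨W, hW⟩
  have hNS : NoetherianSpace ↥(W : Set X) := noetherianSpace_of_isAffineOpen W hW
  have hcons : ∀ s : Set ↥(W : Set X), IsOpen s → IsConstructible s := fun s hs =>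
    IsRetrocompact.isConstructible hs fun V _ _ => NoetherianSpace.isCompact _
  classical
  refine ⟨(W : Set X), W.2, hpW,
    {T : Set ↥(W : Set X) | ∃ (x : X) (hx : x ∈ E), T = Subtype.val ⁻¹' ((key x hx).choose ∩
      closure {x})}, ?_, ?_⟩
  · rintro T ⟨x, hx, rfl⟩
    apply IsConstructible.isLocallyConstructible
    rw [preimage_inter]
    refine (hcons _ ((key x hx).choose_spec.1.preimage continuous_subtype_val)).inter ?_
    have := hcons _ ((isClosed_closure (s := ({x} : Set X))).preimage
      continuous_subtype_val).isOpen_compl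
    simpa using this.compl
  · apply Subset.antisymm
    · intro z hz
      exact ⟨_, ⟨z.1, hz, rfl⟩, (key z.1 hz).choose_spec.2.1, subset_closure rfl⟩
    · rintro z ⟨_, ⟨x, hx, rfl⟩, hz⟩
      exact (key x hx).choose_spec.2.2 hz

end Groth.Agent.Lib.helper7.PC
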