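import Mathlib
import Groth.Prelude.Def_ProCons
import Groth.Agent.Lib.helper7.PC2

/-!
# Images of pro-constructible sets (EGA IV 1.9.5 (vii)) — helper7 library
-/

set_option autoImplicit false
universe u

namespace Groth.Agent.Lib.helper7.PC

open Topology Set TopologicalSpace CategoryTheory AlgebraicGeometry
open Groth.Agent.Lib.helper11.Spec

/-- The restriction of a morphism to affine opens is a spectral map. -/
lemma isSpectralMap_resLE {X' X : Scheme.{u}} (f : X' ⟶ X) {W : X.Opens} {W' : X'.Opens}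
    (hW : IsAffineOpen W) (hW' : IsAffineOpen W') (e : (W' : Set X') ⊆ f ⁻¹' (W : Set X)) :
    IsSpectralMap (fun x' : ↥(W' : Set X') => (⟨f x'.1, e x'.2⟩ : ↥(W : Set X))) := by
  have e' : W' ≤ f ⁻¹ᵁ W := e
  have h1 : IsAffine (W : Scheme) := hW
  have h2 : IsAffine (W' : Scheme) := hW'
  have h3 : IsAffineHom (f.resLE W W' e') := isAffineHom_of_isAffine _
  have hfun : (fun x' : ↥(W' : Set X') => (⟨f x'.1, e x'.2⟩ : ↥(W : Set X))) =
      ⇑(f.resLE W W' e') := by
    funext x'
    exact Subtype.ext (Scheme.Hom.coe_resLE_apply f e' x').symm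
  rw [hfun]
  exact ⟨(f.resLE W W' e').continuous, fun s hs hsc =>
    QuasiCompact.isCompact_preimage (f := f.resLE W W' e') s hs hsc⟩

/-- **EGA IV 1.9.5 (vii)**: the image of a pro-constructible set under a quasi-compact morphism is
pro-constructible. -/
theorem isProConstructible_image {X' X : Scheme.{u}} (f : X' ⟶ X) [QuasiCompact f]
    (E' : Set X') (hE' : ProCons.IsProConstructible E') :
    ProCons.IsProConstructible (f '' E') := by
  rw [isProConstructible_iff]
  intro W hW
  have hWsp := spectralSpace_of_isAffineOpen hW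
  have hK : IsCompact (f ⁻¹' (W : Set X)) := QuasiCompact.isCompact_preimage _ W.2 hW.isCompact
  have hcov' : ∀ x' : X', ∃ W' : X'.Opens, IsAffineOpen W' ∧
      (W' : Set X') ⊆ f ⁻¹' (W : Set X) ∧ (x' ∈ f ⁻¹' (W : Set X) → x' ∈ W') := by
    intro x'
    by_cases hx' : x' ∈ f ⁻¹' (W : Set X)
    · obtain ⟨_, ⟨W', hW', rfl⟩, hxW', hsub⟩ :=
        X'.isBasis_affineOpens.exists_subset_of_mem_open hx' (W.2.preimage f.continuous)
      exact ⟨W', hW', hsub, fun _ => hxW'⟩
    · exact ⟨⊥, isAffineOpen_bot X', by simp, fun h => absurd h hx'⟩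
  choose W' hW' hW'sub hxW' using hcov'
  obtain ⟨σ, -, hσ⟩ := hK.elim_nhds_subcover (fun x' => (W' x' : Set X'))
    (fun x' hx' => (W' x').2.mem_nhds (hxW' x' hx'))
  have heq : (Subtype.val ⁻¹' (f '' E') : Set ↥(W : Set X)) = ⋃ x' ∈ σ,
      (fun z : ↥(W' x' : Set X') => (⟨f z.1, hW'sub x' z.2⟩ : ↥(W : Set X))) ''
        (Subtype.val ⁻¹' E') := by
    ext w
    simp only [mem_preimage, mem_image, mem_iUnion, exists_prop]
    constructor
    · rintro ⟨e, he, hew⟩
      have hmem : e ∈ f ⁻¹' (W : Set X) := by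
        change f e ∈ (W : Set X)
        rw [hew]
        exact w.2
      obtain ⟨x', hx'σ, hex'⟩ := mem_iUnion₂.mp (hσ hmem)
      exact ⟨x', hx'σ, ⟨e, hex'⟩, he, Subtype.ext hew⟩
    · rintro ⟨x', _, z, hz, rfl⟩
      exact ⟨z.1, hz, rfl⟩
  rw [heq]
  have hcl : ∀ x' ∈ σ, IsClosed[constructibleTopology ↥(W : Set X)]
      ((fun z : ↥(W' x' : Set X') => (⟨f z.1, hW'sub x' z.2⟩ : ↥(W : Set X))) ''
        (Subtype.val ⁻¹' E')) := by
    intro x' _
    have := spectralSpace_of_isAffineOpen (hW' x')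
    exact isClosed_constr_image_of_isSpectralMap
      (isSpectralMap_resLE f hW (hW' x') (hW'sub x'))
      ((isProConstructible_iff E').mp hE' (W' x') (hW' x'))
  exact (letI := constructibleTopology ↥(W : Set X); isClosed_biUnion_finset hcl)

end Groth.Agent.Lib.helper7.PC
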