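import Mathlib
import Groth.Prelude.Def_ProCons
import Groth.Agent.Lib.helper7.PC3

/-!
# Images of ind-constructible sets (EGA IV 1.9.5 (viii)) — helper7 library
-/

set_option autoImplicit false
universe u

namespace Groth.Agent.Lib.helper7.PC

open Topology Set TopologicalSpace CategoryTheory AlgebraicGeometry
open Groth.Agent.Lib.helper11.Spec

lemma resLE_coe_eq {X' X : Scheme.{u}} (f : X' ⟶ X) {W : X.Opens} {W' : X'.Opens}
    (e : (W' : Set X') ⊆ f ⁻¹' (W : Set X)) (e' : W' ≤ f ⁻¹ᵁ W) :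
    (fun x' : ↥(W' : Set X') => (⟨f x'.1, e x'.2⟩ : ↥(W : Set X))) = ⇑(f.resLE W W' e') := by
  funext x'
  exact Subtype.ext (Scheme.Hom.coe_resLE_apply f e' x').symm

/-- Chevalley's theorem between affine opens. -/
lemma isConstructible_image_resLE {X' X : Scheme.{u}} (f : X' ⟶ X)
    [LocallyOfFinitePresentation f] {W : X.Opens} {W' : X'.Opens}
    (hW : IsAffineOpen W) (hW' : IsAffineOpen W') (e : (W' : Set X') ⊆ f ⁻¹' (W : Set X))
    {T : Set ↥(W' : Set X')} (hT : IsConstructible T) :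
    IsConstructible ((fun x' : ↥(W' : Set X') => (⟨f x'.1, e x'.2⟩ : ↥(W : Set X))) '' T) := by
  have e' : W' ≤ f ⁻¹ᵁ W := e
  have h1 : IsAffine (W : Scheme) := hW
  have h2 : IsAffine (W' : Scheme) := hW'
  have h3 : IsAffineHom (f.resLE W W' e') := isAffineHom_of_isAffine _
  have h4 : LocallyOfFinitePresentation (f.resLE W W' e') := inferInstance
  rw [resLE_coe_eq f e e']
  exact (f.resLE W W' e').isConstructible_image hT

/-- **EGA IV 1.9.5 (viii)**: the image of an ind-constructible set under a morphism locally of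
finite presentation is ind-constructible. -/
theorem isIndConstructible_image {X' X : Scheme.{u}} (f : X' ⟶ X)
    [LocallyOfFinitePresentation f] (E' : Set X') (hE' : ProCons.IsIndConstructible E') :
    ProCons.IsIndConstructible (f '' E') := by
  rw [isIndConstructible_iff]
  intro W hW
  have hWsp := spectralSpace_of_isAffineOpen hW
  have key : ∀ w ∈ (Subtype.val ⁻¹' (f '' E') : Set ↥(W : Set X)),
      ∃ t ⊆ (Subtype.val ⁻¹' (f '' E') : Set ↥(W : Set X)),
        IsOpen[constructibleTopology ↥(W : Set X)] t ∧ w ∈ t := by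
    rintro w ⟨e, heE, hew⟩
    have hmem : e ∈ f ⁻¹' (W : Set X) := by
      change f e ∈ (W : Set X)
      rw [hew]
      exact w.2
    obtain ⟨_, ⟨W', hW', rfl⟩, heW', hsub⟩ :=
      X'.isBasis_affineOpens.exists_subset_of_mem_open hmem (W.2.preimage f.continuous)
    have hW'sp := spectralSpace_of_isAffineOpen hW'
    have hop := (isIndConstructible_iff E').mp hE' W' hW'
    have hmemE : (⟨e, heW'⟩ : ↥(W' : Set X')) ∈ (Subtype.val ⁻¹' E' : Set ↥(W' : Set X')) := heE
    rw [eq_sUnion_of_isOpen_constr hop] at hmemE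
    obtain ⟨T, ⟨hT, hTE⟩, heT⟩ := hmemE
    refine ⟨(fun x' : ↥(W' : Set X') => (⟨f x'.1, hsub x'.2⟩ : ↥(W : Set X))) '' T, ?_,
      isOpen_constr_of_isConstructible (isConstructible_image_resLE f hW hW' hsub hT),
      ⟨⟨e, heW'⟩, heT, Subtype.ext hew⟩⟩
    rintro _ ⟨z, hz, rfl⟩
    exact ⟨z.1, hTE hz, rfl⟩
  exact (letI := constructibleTopology ↥(W : Set X); isOpen_iff_forall_mem_open.mpr key)

end Groth.Agent.Lib.helper7.PC
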