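import Mathlib
import Groth.Prelude.Def_ProCons
import Groth.Agent.Lib.helper7.PC4
import Groth.Agent.Lib.helper23.ProConsLib

/-!
# Descent of constructibility along surjective morphisms (EGA IV 1.9.13?) — helper7 library
-/

set_option autoImplicit false
universe u

namespace Groth.Agent.Lib.helper7.PC

open Topology Set TopologicalSpace CategoryTheory AlgebraicGeometry
open Groth.Agent.Lib.helper11.Spec

theorem isIndConstructible_compl_iff {X : Scheme.{u}} (E : Set X) :
    ProCons.IsIndConstructible Eᶜ ↔ ProCons.IsProConstructible E := by
  rw [isIndConstructible_iff, isProConstructible_iff]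
  refine forall₂_congr fun W hW => ?_
  rw [preimage_compl]
  exact @isOpen_compl_iff ↥(W : Set X) _ (constructibleTopology ↥(W : Set X))

theorem isProConstructible_compl_iff {X : Scheme.{u}} (E : Set X) :
    ProCons.IsProConstructible Eᶜ ↔ ProCons.IsIndConstructible E := by
  rw [← isIndConstructible_compl_iff, compl_compl]

/-- descent of the three constructibility notions along a surjective morphism which is
quasi-compact or locally of finite presentation. -/
theorem constructibility_iff_preimage {X Y : Scheme.{u}} (f : X ⟶ Y) [Surjective f]
    (hf : QuasiCompact f ∨ LocallyOfFinitePresentation f) (E : Set Y) :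
    (IsLocallyConstructible E ↔ IsLocallyConstructible (f ⁻¹' E)) ∧
    (ProCons.IsProConstructible E ↔ ProCons.IsProConstructible (f ⁻¹' E)) ∧
    (ProCons.IsIndConstructible E ↔ ProCons.IsIndConstructible (f ⁻¹' E)) := by
  have himg : ∀ A : Set Y, f '' (f ⁻¹' A) = A := fun A => image_preimage_eq A f.surjective
  have hpro : ProCons.IsProConstructible (f ⁻¹' E) → ProCons.IsProConstructible E := by
    intro h
    rcases hf with hf | hf
    · rw [← himg E]
      exact isProConstructible_image f _ h
    · rw [← isIndConstructible_compl_iff, ← himg Eᶜ, preimage_compl]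
      exact isIndConstructible_image f _ ((isIndConstructible_compl_iff _).mpr h)
  have hind : ProCons.IsIndConstructible (f ⁻¹' E) → ProCons.IsIndConstructible E := by
    intro h
    rcases hf with hf | hf
    · rw [← isProConstructible_compl_iff, ← himg Eᶜ, preimage_compl]
      exact isProConstructible_image f _ ((isProConstructible_compl_iff _).mpr h)
    · rw [← himg E]
      exact isIndConstructible_image f _ h
  refine ⟨⟨fun h => Groth.Agent.Lib.helper23.ProConsLib.isLocallyConstructible_preimage f h,
    fun h => ?_⟩,
    ⟨fun h => Groth.Agent.Lib.helper23.ProConsLib.isProConstructible_preimage f E h, hpro⟩,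
    ⟨fun h => Groth.Agent.Lib.helper23.ProConsLib.isIndConstructible_preimage f E h, hind⟩⟩
  rw [isLocallyConstructible_iff] at h ⊢
  exact ⟨hind h.1, hpro h.2⟩

end Groth.Agent.Lib.helper7.PC
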