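import Mathlib
import Groth.Prelude.Def_ProCons
import Groth.Agent.Lib.helper7.PC5
import Groth.Agent.Lib.helper7.Lim8

/-!
# Pro-constructible sets and limits of schemes (EGA IV 8.3.x) — helper7 library

* closure properties of pro- and ind-constructible subsets of schemes;
* `exists_map_preimage_eq_empty`: a pro-constructible subset of a quasi-compact stage with empty
  preimage in the limit has empty preimage at some stage;
* `subset_iff_eventually` (EGA IV 8.3.4).
-/

set_option autoImplicit false
universe u

namespace Groth.Agent.Lib.helper7.PC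

open Topology Set TopologicalSpace CategoryTheory CategoryTheory.Limits AlgebraicGeometry
open Groth.Agent.Lib.helper11.Spec

section Closure

variable {X : Scheme.{u}}

lemma isProConstructible_iInter {ι : Sort*} {F : ι → Set X}
    (hF : ∀ i, ProCons.IsProConstructible (F i)) : ProCons.IsProConstructible (⋂ i, F i) := by
  rw [isProConstructible_iff]
  intro W hW
  rw [preimage_iInter]
  have h := fun i => (isProConstructible_iff (F i)).mp (hF i) W hW
  exact (letI := constructibleTopology ↥(W : Set X); isClosed_iInter h)

lemma isIndConstructible_iUnion {ι : Sort*} {F : ι → Set X}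
    (hF : ∀ i, ProCons.IsIndConstructible (F i)) : ProCons.IsIndConstructible (⋃ i, F i) := by
  rw [isIndConstructible_iff]
  intro W hW
  rw [preimage_iUnion]
  have h := fun i => (isIndConstructible_iff (F i)).mp (hF i) W hW
  exact (letI := constructibleTopology ↥(W : Set X); isOpen_iUnion h)

lemma isProConstructible_inter {A B : Set X} (hA : ProCons.IsProConstructible A)
    (hB : ProCons.IsProConstructible B) : ProCons.IsProConstructible (A ∩ B) := by
  rw [isProConstructible_iff]
  intro W hW
  rw [preimage_inter]
  have h1 := (isProConstructible_iff A).mp hA W hW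
  have h2 := (isProConstructible_iff B).mp hB W hW
  exact (letI := constructibleTopology ↥(W : Set X); IsClosed.inter h1 h2)

lemma isProConstructible_univ : ProCons.IsProConstructible (univ : Set X) := by
  rw [isProConstructible_iff]
  intro W hW
  rw [preimage_univ]
  exact (letI := constructibleTopology ↥(W : Set X); isClosed_univ)

lemma isProConstructible_of_isLocallyConstructible {A : Set X} (hA : IsLocallyConstructible A) :
    ProCons.IsProConstructible A := ((isLocallyConstructible_iff A).mp hA).2

lemma isIndConstructible_of_isLocallyConstructible {A : Set X} (hA : IsLocallyConstructible A) :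
    ProCons.IsIndConstructible A := ((isLocallyConstructible_iff A).mp hA).1

lemma isProConstructible_range {X' : Scheme.{u}} (f : X' ⟶ X) [QuasiCompact f] :
    ProCons.IsProConstructible (range ⇑f) := by
  rw [← image_univ]
  exact isProConstructible_image f univ isProConstructible_univ

end Closure

section Limit

variable {I : Type u} [SmallCategory I] (D : I ⥤ Scheme.{u}) (c : Cone D)

open Groth.Agent.Lib.helper7.Lim8 in
/-- **EGA IV 8.3.3**: a pro-constructible subset of a quasi-compact stage whose preimage in the
limit is empty has empty preimage at some stage. -/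
theorem exists_map_preimage_subset_compl [IsCofiltered I] (hc : IsLimit c)
    [∀ {i j : I} (f : i ⟶ j), IsAffineHom (D.map f)] (j : I) [CompactSpace (D.obj j)]
    (G : Set (D.obj j)) (hG : ProCons.IsProConstructible G)
    (h : ⇑(c.π.app j) ⁻¹' G = ∅) :
    ∃ (j' : I) (φ : j' ⟶ j), ⇑(D.map φ) ⁻¹' G = ∅ := by
  classical
  have hrange := range_π_app D c hc j
  have hsub : ⋂ p : (Σ k : I, k ⟶ j), range ⇑(D.map p.2) ⊆ Gᶜ := by
    intro y hy hyG
    have : y ∈ range ⇑(c.π.app j) := by
      rw [hrange]
      exact mem_iInter₂.mpr fun k φ => mem_iInter.mp hy ⟨k, φ⟩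
    obtain ⟨s, rfl⟩ := this
    have : s ∈ ⇑(c.π.app j) ⁻¹' G := hyG
    rw [h] at this
    exact this
  obtain ⟨J, hJ⟩ := exists_finset_biInter_subset_of_isProConstructible Gᶜ
    ((isIndConstructible_compl_iff G).mpr hG) (fun p : (Σ k : I, k ⟶ j) => range ⇑(D.map p.2))
    (fun p => isProConstructible_range (D.map p.2)) hsub
  -- a common refinement of the finitely many stages in `J`
  have hcommon : ∀ J : Finset (Σ k : I, k ⟶ j), ∃ (j' : I) (φ : j' ⟶ j),
      ∀ p ∈ J, range ⇑(D.map φ) ⊆ range ⇑(D.map p.2) := by
    intro J
    induction J using Finset.induction_on with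
    | empty => exact ⟨j, 𝟙 j, fun p hp => absurd hp (Finset.notMem_empty p)⟩
    | insert p J _ ih =>
      obtain ⟨j₁, φ₁, h₁⟩ := ih
      obtain ⟨w, a, b, hab⟩ := IsCofiltered.cospan φ₁ p.2
      refine ⟨w, a ≫ φ₁, fun q hq => ?_⟩
      rcases Finset.mem_insert.mp hq with rfl | hq
      · rw [hab]
        rintro _ ⟨y, rfl⟩
        exact ⟨D.map b y, (map_comp_apply b q.2 y).symm⟩
      · refine Subset.trans ?_ (h₁ q hq)
        rintro _ ⟨y, rfl⟩
        exact ⟨D.map a y, (map_comp_apply a φ₁ y).symm⟩
  obtain ⟨j', φ, hφ⟩ := hcommon J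
  refine ⟨j', φ, ?_⟩
  rw [eq_empty_iff_forall_notMem]
  intro y hy
  exact hJ (mem_iInter₂.mpr fun p hp => hφ p hp ⟨y, rfl⟩) hy

end Limit

end Groth.Agent.Lib.helper7.PC
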