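import Mathlib
import Groth.Prelude.Def_ProCons
import Groth.Agent.Lib.helper7.PC6
import Groth.Agent.Lib.helper7.Lim8d

/-!
# Closures of pro-constructible sets (EGA IV 1.9.x / 2.3.10) — helper7 library

* `exists_specializes_of_mem_closure_of_isProConstructible`: points of the closure of a
  pro-constructible subset of a scheme are specializations of points of the subset;
* `isProConstructible_singleton`;
* `closure_preimage_eq_of_generalizingMap`: for a generalizing (e.g. flat) morphism, closure commutes
  with preimage on pro-constructible subsets.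
-/

set_option autoImplicit false
universe u

namespace Groth.Agent.Lib.helper7.PC

open Topology Set TopologicalSpace CategoryTheory CategoryTheory.Limits AlgebraicGeometry
open Groth.Agent.Lib.helper11.Spec

theorem exists_specializes_of_mem_closure_of_isProConstructible {X : Scheme.{u}} {Z : Set X}
    (hZ : ProCons.IsProConstructible Z) {x : X} (hx : x ∈ closure Z) : ∃ z ∈ Z, z ⤳ x := by
  obtain ⟨W, hW, hxW⟩ := exists_isAffineOpen_mem x
  have := spectralSpace_of_isAffineOpen hW
  have hZW := (isProConstructible_iff Z).mp hZ W hW
  have hx' : (⟨x, hxW⟩ : ↥(W : Set X)) ∈ closure (Subtype.val ⁻¹' Z : Set ↥(W : Set X)) := by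
    have h := W.2.isOpenMap_subtype_val.preimage_closure_eq_closure_preimage
      continuous_subtype_val Z
    exact h.subset hx
  obtain ⟨e, heZ, he⟩ := exists_specializes_of_mem_closure hZW hx'
  exact ⟨e.1, heZ, he.map continuous_subtype_val⟩

lemma isProConstructible_singleton {X : Scheme.{u}} (y : X) :
    ProCons.IsProConstructible ({y} : Set X) := by
  rw [isProConstructible_iff]
  intro W hW
  have := spectralSpace_of_isAffineOpen hW
  have hT2 : @T2Space ↥(W : Set X) (constructibleTopology ↥(W : Set X)) := t2Space_constr
  by_cases hy : y ∈ W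
  · have h : (Subtype.val ⁻¹' ({y} : Set X) : Set ↥(W : Set X)) = {⟨y, hy⟩} := by
      ext z
      simp [Subtype.ext_iff]
    rw [h]
    exact (letI := constructibleTopology ↥(W : Set X); isClosed_singleton)
  · have h : (Subtype.val ⁻¹' ({y} : Set X) : Set ↥(W : Set X)) = ∅ := by
      ext z
      simp only [mem_preimage, mem_singleton_iff, mem_empty_iff_false, iff_false]
      rintro rfl
      exact hy z.2
    rw [h]
    exact (letI := constructibleTopology ↥(W : Set X); isClosed_empty)

theorem closure_preimage_eq_of_generalizingMap {X Y : Scheme.{u}} (g : X ⟶ Y)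
    (hg : GeneralizingMap g) {Z : Set Y} (hZ : ProCons.IsProConstructible Z) :
    closure (g ⁻¹' Z) = g ⁻¹' closure Z := by
  refine Subset.antisymm (g.continuous.closure_preimage_subset Z) ?_
  intro x hx
  obtain ⟨z, hzZ, hz⟩ := exists_specializes_of_mem_closure_of_isProConstructible hZ hx
  obtain ⟨x', hx', rfl⟩ := hg hz
  have hx'Z : x' ∈ (g ⁻¹' Z : Set X) := hzZ
  exact closure_mono (singleton_subset_iff.mpr hx'Z) (specializes_iff_mem_closure.mp hx')

theorem closure_preimage_eq_of_flat {X Y : Scheme.{u}} (g : X ⟶ Y) [Flat g]
    {Z : Set Y} (hZ : ProCons.IsProConstructible Z) :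
    closure (g ⁻¹' Z) = g ⁻¹' closure Z :=
  closure_preimage_eq_of_generalizingMap g (Flat.generalizingMap g) hZ

end Groth.Agent.Lib.helper7.PC
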