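import Mathlib
import Groth.Agent.Lib.helper7.Lim8
import Groth.Agent.Lib.helper7.PC7

/-!
# The underlying space of a limit of schemes (EGA IV 8.2.9) — helper7 library

* `eq_of_forall_π_app_eq`: points of the limit are determined by their images in the stages;
* `exists_forall_π_app_eq`: every compatible family of points comes from a point of the limit;
* `isOpen_iInf_induced`: the topology of the limit is the initial topology.
-/

set_option autoImplicit false
universe u

namespace Groth.Agent.Lib.helper7.Lim8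

open Topology Set TopologicalSpace CategoryTheory CategoryTheory.Limits AlgebraicGeometry
open Groth.Agent.Lib.helper11.Spec

variable {I : Type u} [SmallCategory I] (D : I ⥤ Scheme.{u}) (c : Cone D)

theorem eq_of_forall_π_app_eq [IsCofiltered I] (hc : IsLimit c)
    [∀ {i j : I} (f : i ⟶ j), IsAffineHom (D.map f)] {s s' : c.pt}
    (h : ∀ i, c.π.app i s = c.π.app i s') : s = s' := by
  obtain ⟨i₀⟩ := IsCofiltered.nonempty (C := I)
  refine Inseparable.eq ?_
  rw [inseparable_iff_forall_isOpen]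
  intro u hu
  constructor
  · intro hs
    obtain ⟨k, _, V, hsV, hVu⟩ := exists_basic_open_over D c hc i₀ hu hs
    apply hVu
    rw [Set.mem_preimage, ← h k]
    exact hsV
  · intro hs
    obtain ⟨k, _, V, hsV, hVu⟩ := exists_basic_open_over D c hc i₀ hu hs
    apply hVu
    rw [Set.mem_preimage, h k]
    exact hsV

theorem exists_forall_π_app_eq [IsCofiltered I] (hc : IsLimit c)
    [∀ {i j : I} (f : i ⟶ j), IsAffineHom (D.map f)]
    (x : ∀ i, D.obj i) (hx : ∀ (i j : I) (f : i ⟶ j), D.map f (x i) = x j) :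
    ∃ s : c.pt, ∀ i, c.π.app i s = x i := by
  classical
  obtain ⟨i₀⟩ := IsCofiltered.nonempty (C := I)
  obtain ⟨W, hW, hxW⟩ := PC.exists_isAffineOpen_mem (x i₀)
  have hπaff : IsAffineHom (c.π.app i₀) := isAffineHom_π_app D c hc i₀
  let U : c.pt.Opens := c.π.app i₀ ⁻¹ᵁ W
  have hU : IsAffineOpen U := hW.preimage (c.π.app i₀)
  have hsp := PC.spectralSpace_of_isAffineOpen hU
  let A : (Σ k : I, k ⟶ i₀) → Set ↥(U : Set c.pt) := fun p =>
    Subtype.val ⁻¹' (⇑(c.π.app p.1) ⁻¹' {x p.1})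
  have hAcl : ∀ p, IsClosed[constructibleTopology ↥(U : Set c.pt)] (A p) := fun p =>
    (PC.isProConstructible_iff _).mp
      (Groth.Agent.Lib.helper23.ProConsLib.isProConstructible_preimage (c.π.app p.1) _
        (PC.isProConstructible_singleton (x p.1))) U hU
  have hAne : ∀ p, (A p).Nonempty := by
    intro p
    have : x p.1 ∈ Set.range ⇑(c.π.app p.1) := by
      rw [range_π_app D c hc p.1]
      exact Set.mem_iInter₂.mpr fun k φ => ⟨x k, hx k p.1 φ⟩
    obtain ⟨s, hs⟩ := this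
    have hsU : s ∈ U := by
      change c.π.app i₀ s ∈ W
      rw [← π_app_apply p.2 s, hs, hx]
      exact hxW
    exact ⟨⟨s, hsU⟩, hs⟩
  have hdir : ∀ p q, ∃ r, A r ⊆ A p ∩ A q := by
    intro p q
    obtain ⟨w, a, b, hab⟩ := IsCofiltered.cospan p.2 q.2
    refine ⟨⟨w, a ≫ p.2⟩, fun s hs => ⟨?_, ?_⟩⟩
    · change c.π.app p.1 s.1 = x p.1
      rw [← π_app_apply a s.1, show c.π.app w s.1 = x w from hs, hx]
    · change c.π.app q.1 s.1 = x q.1
      rw [← π_app_apply b s.1, show c.π.app w s.1 = x w from hs, hx]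
  obtain ⟨s, hs⟩ := nonempty_sInter_of_directed (Set.range A) ⟨_, ⟨⟨i₀, 𝟙 i₀⟩, rfl⟩⟩
    (by rintro _ ⟨p, rfl⟩; exact hAcl p) (by rintro _ ⟨p, rfl⟩; exact hAne p)
    (by
      rintro _ ⟨p, rfl⟩ _ ⟨q, rfl⟩
      obtain ⟨r, hr⟩ := hdir p q
      exact ⟨_, ⟨r, rfl⟩, hr⟩)
  refine ⟨s.1, fun i => ?_⟩
  have hmem : s ∈ A ⟨IsCofiltered.min i i₀, IsCofiltered.minToRight i i₀⟩ := hs _ ⟨_, rfl⟩
  rw [← π_app_apply (IsCofiltered.minToLeft i i₀) s.1,
    show c.π.app (IsCofiltered.min i i₀) s.1 = x (IsCofiltered.min i i₀) from hmem, hx]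

end Groth.Agent.Lib.helper7.Lim8
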