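import Mathlib

set_option autoImplicit false
universe u
open CategoryTheory CategoryTheory.Limits AlgebraicGeometry TensorProduct

namespace Groth.Agent.Lib.helper7.GeomRed

/-- `geometrically P` is stable under precomposition with open immersions, when `P` passes to
open subschemes. -/
theorem geometrically_comp_of_isOpenImmersion {P : ObjectProperty Scheme.{u}}
    (hP : ∀ {U Z : Scheme.{u}} (j : U ⟶ Z) [IsOpenImmersion j], P Z → P U)
    {U X Y : Scheme.{u}} (j : U ⟶ X) [IsOpenImmersion j] (f : X ⟶ Y)
    (hf : geometrically P f) : geometrically P (j ≫ f) := by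
  intro K _ y Z fst snd h
  let l : Z ⟶ pullback f y := pullback.lift (fst ≫ j) snd (by rw [Category.assoc]; exact h.w)
  have hsq : IsPullback fst l j (pullback.fst f y) := by
    refine IsPullback.of_bot ?_ (pullback.lift_fst _ _ _).symm (IsPullback.of_hasPullback f y)
    have e1 : l ≫ pullback.snd f y = snd := pullback.lift_snd _ _ _
    rw [e1]
    exact h
  haveI : IsOpenImmersion l := MorphismProperty.of_isPullback hsq inferInstance
  exact hP l (hf y _ _ (IsPullback.of_hasPullback f y))

instance geometricallyReduced_comp_of_isOpenImmersion {U X Y : Scheme.{u}} (j : U ⟶ X)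
    [IsOpenImmersion j] (f : X ⟶ Y) [GeometricallyReduced f] : GeometricallyReduced (j ≫ f) :=
  ⟨geometrically_comp_of_isOpenImmersion
    (fun j _ h => by haveI := h; exact isReduced_of_isOpenImmersion j) j f
    GeometricallyReduced.geometrically_isReduced⟩

/-- Algebraic core: if `Spec A → Spec k` is geometrically reduced and `B` is a reduced
`k`-algebra, then `A ⊗[k] B` is reduced. -/
theorem isReduced_tensorProduct_of_geometricallyReduced {k : Type u} [Field k]
    (A B : Type u) [CommRing A] [CommRing B] [Algebra k A] [Algebra k B]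
    [GeometricallyReduced (Spec.map (CommRingCat.ofHom (algebraMap k A)))]
    [_root_.IsReduced B] : _root_.IsReduced (A ⊗[k] B) := by
  refine IsReduced.tensorProduct_of_flat_of_forall_fg fun B₀ hB₀ => ?_
  haveI : Algebra.FiniteType k B₀ := (Subalgebra.fg_iff_finiteType B₀).1 hB₀
  haveI : IsNoetherianRing B₀ := Algebra.FiniteType.isNoetherianRing k B₀
  haveI : _root_.IsReduced B₀ := isReduced_of_injective B₀.val Subtype.val_injective
  haveI : IsReduced (Spec (CommRingCat.of B₀)) := (affine_isReduced_iff _).2 ‹_›
  haveI : IsLocallyNoetherian (Spec (CommRingCat.of B₀)) := inferInstance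
  haveI : IsReduced (pullback (Spec.map (CommRingCat.ofHom (algebraMap k A)))
      (Spec.map (CommRingCat.ofHom (algebraMap k B₀)))) := inferInstance
  have e : pullback (Spec.map (CommRingCat.ofHom (algebraMap k A)))
      (Spec.map (CommRingCat.ofHom (algebraMap k B₀))) ≅ Spec (CommRingCat.of (A ⊗[k] B₀)) :=
    pullbackSpecIso k A B₀
  haveI : IsReduced (Spec (CommRingCat.of (A ⊗[k] B₀))) := isReduced_of_isOpenImmersion e.inv
  exact (affine_isReduced_iff _).1 this

theorem isReduced_pullback_Spec {k : Type u} [Field k] {A B : CommRingCat.{u}}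
    (a : Spec A ⟶ Spec (CommRingCat.of k)) (b : Spec B ⟶ Spec (CommRingCat.of k))
    [GeometricallyReduced a] [IsReduced (Spec B)] : IsReduced (pullback a b) := by
  obtain ⟨φ, rfl⟩ := Spec.map_surjective a
  obtain ⟨ψ, rfl⟩ := Spec.map_surjective b
  letI : Algebra k A := φ.hom.toAlgebra
  letI : Algebra k B := ψ.hom.toAlgebra
  have hφ : φ = CommRingCat.ofHom (algebraMap k A) := rfl
  have hψ : ψ = CommRingCat.ofHom (algebraMap k B) := rfl
  haveI : GeometricallyReduced (Spec.map (CommRingCat.ofHom (algebraMap k A))) := by
    rw [← hφ]; infer_instance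
  haveI : _root_.IsReduced B := (affine_isReduced_iff B).1 ‹_›
  have hred := isReduced_tensorProduct_of_geometricallyReduced (k := k) A B
  have e : pullback (Spec.map φ) (Spec.map ψ) ≅ Spec (CommRingCat.of (A ⊗[k] B)) :=
    pullbackSpecIso k A B
  haveI : IsReduced (Spec (CommRingCat.of (A ⊗[k] B))) := (affine_isReduced_iff _).2 hred
  exact isReduced_of_isOpenImmersion e.hom

/-- `X` geometrically reduced over a field `k`, `S` a reduced `k`-scheme: `X ×_k S` is reduced
(no Noetherian hypothesis). -/
theorem isReduced_pullback_of_geometricallyReduced {k : Type u} [Field k] {X S : Scheme.{u}}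
    (f : X ⟶ Spec (CommRingCat.of k)) (g : S ⟶ Spec (CommRingCat.of k)) [GeometricallyReduced f]
    [IsReduced S] : IsReduced (pullback f g) := by
  apply +allowSynthFailures @IsReduced.of_openCover
    (𝒰 := Scheme.Pullback.openCoverOfLeftRight X.affineOpenCover.openCover
      S.affineOpenCover.openCover f g)
  intro ij
  haveI : IsReduced (Spec (S.affineOpenCover.X ij.2)) :=
    isReduced_of_isOpenImmersion (S.affineOpenCover.f ij.2)
  exact isReduced_pullback_Spec (X.affineOpenCover.f ij.1 ≫ f) (S.affineOpenCover.f ij.2 ≫ g)

/-- If `X`, `Y` are geometrically reduced over a field `k`, so is `X ×_k Y`. -/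
theorem geometricallyReduced_pullback {k : Type u} [Field k] {X Y : Scheme.{u}}
    (f : X ⟶ Spec (CommRingCat.of k)) (g : Y ⟶ Spec (CommRingCat.of k)) [GeometricallyReduced f]
    [GeometricallyReduced g] : GeometricallyReduced (pullback.fst f g ≫ f) := by
  refine ⟨fun K _ y Z fst snd h => ?_⟩
  let q := pullback.fst g y
  have hcond : fst ≫ pullback.snd f g ≫ g = snd ≫ y := by
    rw [← pullback.condition]; exact h.w
  let l : Z ⟶ pullback g y := pullback.lift (fst ≫ pullback.snd f g) snd
    (by rw [Category.assoc]; exact hcond)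
  have h1 : IsPullback l fst q (pullback.snd f g) := by
    refine IsPullback.of_right ?_ (pullback.lift_fst _ _ _) (IsPullback.of_hasPullback g y).flip
    have h' := h.flip
    have e1 : l ≫ pullback.snd g y = snd := pullback.lift_snd _ _ _
    rw [e1, ← pullback.condition]
    exact h'
  have h2 : IsPullback l (fst ≫ pullback.fst f g) (q ≫ g) f :=
    h1.paste_vert (IsPullback.of_hasPullback f g).flip
  haveI : IsReduced (pullback g y) :=
    GeometricallyReduced.geometrically_isReduced _ _ _ (IsPullback.of_hasPullback g y)
  haveI : IsReduced (pullback f (q ≫ g)) := isReduced_pullback_of_geometricallyReduced f (q ≫ g)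
  exact isReduced_of_isOpenImmersion h2.flip.isoPullback.hom

end Groth.Agent.Lib.helper7.GeomRed
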