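import Mathlib
import Groth.Agent.Lib.helper7.GeomRed

/-! Geometrically reduced algebras (Mathlib's `Algebra.IsGeometricallyReduced`) stay reduced after
tensoring with an arbitrary reduced algebra. -/

open CategoryTheory CategoryTheory.Limits AlgebraicGeometry TensorProduct

universe u

namespace Groth.Agent.Lib.helper7.GeomRed2

/-- Core: `A` geometrically reduced over the field `k`, `B` a reduced `k`-algebra of finite type.
Then `A ⊗[k] B` is reduced. -/
theorem isReduced_tensorProduct_of_finiteType {k : Type*} [Field k] (A B : Type*) [CommRing A]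
    [CommRing B] [Algebra k A] [Algebra k B] [Algebra.IsGeometricallyReduced k A]
    [Algebra.FiniteType k B] [_root_.IsReduced B] : _root_.IsReduced (A ⊗[k] B) := by
  classical
  constructor
  intro x hx
  let b := Module.Free.chooseBasis k A
  let e := TensorProduct.equivFinsuppOfBasisLeft (N := B) b
  apply e.injective
  rw [map_zero]
  ext i
  haveI : IsJacobsonRing B := isJacobsonRing_of_finiteType (A := k) (B := B)
  have hjac : (⊥ : Ideal B).jacobson = ⊥ :=
    IsJacobsonRing.out ‹_› ((Ideal.isRadical_iff_quotient_reduced _).2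
      (isReduced_of_injective (RingEquiv.quotientBot B).toRingHom (RingEquiv.injective _)))
  have hmem : e x i ∈ (⊥ : Ideal B).jacobson := by
    rw [Ideal.jacobson, Ideal.mem_sInf]
    rintro m ⟨-, hm⟩
    haveI := hm
    letI : Field (B ⧸ m) := Ideal.Quotient.field m
    haveI : Algebra.FiniteType k (B ⧸ m) :=
      Algebra.FiniteType.of_surjective (Ideal.Quotient.mkₐ k m) (Ideal.Quotient.mkₐ_surjective k m)
    haveI : Module.Finite k (B ⧸ m) := finite_of_finite_type_of_isJacobsonRing k (B ⧸ m)
    haveI : Algebra.IsAlgebraic k (B ⧸ m) := Algebra.IsAlgebraic.of_finite k (B ⧸ m)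
    haveI : _root_.IsReduced ((B ⧸ m) ⊗[k] A) := inferInstance
    haveI : _root_.IsReduced (A ⊗[k] (B ⧸ m)) :=
      isReduced_of_injective (Algebra.TensorProduct.comm k A (B ⧸ m)).toAlgHom
        (AlgEquiv.injective _)
    let φ : A ⊗[k] B →ₐ[k] A ⊗[k] (B ⧸ m) :=
      Algebra.TensorProduct.map (AlgHom.id k A) (Ideal.Quotient.mkₐ k m)
    have hφx : φ x = 0 := (hx.map φ).eq_zero
    have key : ∀ y : A ⊗[k] B, TensorProduct.equivFinsuppOfBasisLeft (N := B ⧸ m) b (φ y) i =
        Ideal.Quotient.mk m (e y i) := by
      intro y
      induction y with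
      | zero => simp
      | tmul a r =>
        simp only [φ, e, Algebra.TensorProduct.map_tmul, AlgHom.coe_id, id_eq,
          Ideal.Quotient.mkₐ_eq_mk, TensorProduct.equivFinsuppOfBasisLeft_apply_tmul_apply,
          Algebra.smul_def, map_mul]
        congr 1
      | add y z hy hz => simp only [map_add, Finsupp.add_apply, hy, hz]
    have := key x
    rw [hφx, map_zero, Finsupp.zero_apply] at this
    exact Ideal.Quotient.eq_zero_iff_mem.1 this.symm
  rw [hjac] at hmem
  simpa using hmem

/-- `A` geometrically reduced over the field `k` (in Mathlib's sense), `B` any reduced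
`k`-algebra: `A ⊗[k] B` is reduced. -/
theorem isReduced_tensorProduct {k : Type*} [Field k] (A B : Type*) [CommRing A]
    [CommRing B] [Algebra k A] [Algebra k B] [Algebra.IsGeometricallyReduced k A]
    [_root_.IsReduced B] : _root_.IsReduced (A ⊗[k] B) := by
  refine IsReduced.tensorProduct_of_flat_of_forall_fg fun B₀ hB₀ => ?_
  haveI : Algebra.FiniteType k B₀ := (Subalgebra.fg_iff_finiteType B₀).1 hB₀
  haveI : _root_.IsReduced B₀ := isReduced_of_injective B₀.val Subtype.val_injective
  exact isReduced_tensorProduct_of_finiteType A B₀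

/-- In particular `K ⊗[k] A` is reduced for every field extension `K` of `k`. -/
theorem isReduced_tensorProduct_left {k : Type*} [Field k] (A B : Type*) [CommRing A]
    [CommRing B] [Algebra k A] [Algebra k B] [Algebra.IsGeometricallyReduced k A]
    [_root_.IsReduced B] : _root_.IsReduced (B ⊗[k] A) :=
  haveI := isReduced_tensorProduct (k := k) A B
  isReduced_of_injective (Algebra.TensorProduct.comm k B A).toAlgHom (AlgEquiv.injective _)

/-- Affine-source scheme version. -/
theorem isReduced_pullback_Spec_of_isGeometricallyReduced {k : Type u} [Field k] (A : Type u)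
    [CommRing A] [Algebra k A] [Algebra.IsGeometricallyReduced k A] {B : CommRingCat.{u}}
    (b : Spec B ⟶ Spec (CommRingCat.of k)) [AlgebraicGeometry.IsReduced (Spec B)] :
    AlgebraicGeometry.IsReduced
      (pullback b (Spec.map (CommRingCat.ofHom (algebraMap k A)))) := by
  obtain ⟨ψ, rfl⟩ := Spec.map_surjective b
  letI : Algebra k B := ψ.hom.toAlgebra
  haveI : _root_.IsReduced B := (affine_isReduced_iff B).1 ‹_›
  have hred := isReduced_tensorProduct_left (k := k) A B
  have e : pullback (Spec.map ψ) (Spec.map (CommRingCat.ofHom (algebraMap k A))) ≅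
      Spec (CommRingCat.of (B ⊗[k] A)) := pullbackSpecIso k B A
  haveI : AlgebraicGeometry.IsReduced (Spec (CommRingCat.of (B ⊗[k] A))) :=
    (affine_isReduced_iff _).2 hred
  exact isReduced_of_isOpenImmersion e.hom

/-- `X` a reduced `k`-scheme, `A` a geometrically reduced `k`-algebra (e.g. a separable field
extension): `X ×_k Spec A` is reduced. -/
theorem isReduced_pullback_of_isGeometricallyReduced {k : Type u} [Field k] (A : Type u)
    [CommRing A] [Algebra k A] [Algebra.IsGeometricallyReduced k A] {X : Scheme.{u}}
    (f : X ⟶ Spec (CommRingCat.of k)) [AlgebraicGeometry.IsReduced X] :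
    AlgebraicGeometry.IsReduced
      (pullback f (Spec.map (CommRingCat.ofHom (algebraMap k A)))) := by
  apply +allowSynthFailures @IsReduced.of_openCover
    (𝒰 := Scheme.Pullback.openCoverOfLeft X.affineOpenCover.openCover f
      (Spec.map (CommRingCat.ofHom (algebraMap k A))))
  intro i
  haveI : AlgebraicGeometry.IsReduced (Spec (X.affineOpenCover.X i)) :=
    isReduced_of_isOpenImmersion (X.affineOpenCover.f i)
  exact isReduced_pullback_Spec_of_isGeometricallyReduced A (X.affineOpenCover.f i ≫ f)

end Groth.Agent.Lib.helper7.GeomRed2
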