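import Mathlib
import Groth.Agent.Lib.helper7.GeomRed2

/-! Perfect base fields, common field extensions, descent of reducedness along faithfully flat
morphisms. -/

open CategoryTheory CategoryTheory.Limits AlgebraicGeometry TensorProduct

universe u

namespace Groth.Agent.Lib.helper7.GeomRed3

/-- Every field extension of a perfect field is geometrically reduced (separable). -/
theorem isGeometricallyReduced_of_perfectField (Ω L : Type*) [Field Ω] [Field L] [Algebra Ω L]
    [PerfectField Ω] : Algebra.IsGeometricallyReduced Ω L := by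
  rw [Algebra.isGeometricallyReduced_field_iff]
  haveI : _root_.IsReduced (L ⊗[Ω] AlgebraicClosure Ω) := by
    refine IsReduced.tensorProduct_of_flat_of_forall_fg fun E hE => ?_
    haveI : Algebra.FiniteType Ω E := (Subalgebra.fg_iff_finiteType E).1 hE
    haveI : Algebra.IsIntegral Ω E :=
      Algebra.IsIntegral.of_injective E.val Subtype.val_injective
    have hEf : IsField E := isField_of_isIntegral_of_isField' (R := Ω) (Field.toIsField Ω)
    letI : Field E := hEf.toField
    haveI : Algebra.IsAlgebraic Ω E := inferInstance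
    haveI : Algebra.IsSeparable Ω E := inferInstance
    haveI : Algebra.FormallyUnramified Ω E := Algebra.FormallyUnramified.of_isSeparable Ω E
    haveI : Algebra.FormallyUnramified L (L ⊗[Ω] E) := inferInstance
    haveI : Algebra.EssFiniteType L (L ⊗[Ω] E) := inferInstance
    exact Algebra.FormallyUnramified.isReduced_of_field L (L ⊗[Ω] E)
  exact isReduced_of_injective (Algebra.TensorProduct.comm Ω (AlgebraicClosure Ω) L).toAlgHom
    (AlgEquiv.injective _)

/-- Two field extensions of `k` embed into a common field. -/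
theorem exists_common_extension (k K Ω : Type u) [Field k] [Field K] [Field Ω] [Algebra k K]
    [Algebra k Ω] :
    ∃ (L : Type u) (_ : Field L) (φK : K →+* L) (φΩ : Ω →+* L),
      φK.comp (algebraMap k K) = φΩ.comp (algebraMap k Ω) := by
  haveI : Nontrivial (K ⊗[k] Ω) :=
    Algebra.TensorProduct.nontrivial_of_algebraMap_injective_of_flat_left (R := k) (A := K)
      (B := Ω) (algebraMap k Ω).injective
  obtain ⟨m, hm⟩ := Ideal.exists_maximal (K ⊗[k] Ω)
  refine ⟨(K ⊗[k] Ω) ⧸ m, Ideal.Quotient.field m,
    (Ideal.Quotient.mk m).comp (Algebra.TensorProduct.includeLeftRingHom),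
    (Ideal.Quotient.mk m).comp
      (Algebra.TensorProduct.includeRight (R := k) (A := K) (B := Ω)).toRingHom, ?_⟩
  ext c
  simp only [RingHom.coe_comp, Function.comp_apply, Algebra.TensorProduct.includeLeftRingHom_apply,
    AlgHom.toRingHom_eq_coe, RingHom.coe_coe, Algebra.TensorProduct.includeRight_apply]
  congr 1
  rw [Algebra.algebraMap_eq_smul_one, Algebra.algebraMap_eq_smul_one, TensorProduct.smul_tmul]

/-- Reducedness descends along flat surjective morphisms. -/
theorem isReduced_of_flat_of_surjective {X Y : Scheme.{u}} (f : X ⟶ Y) [Flat f] [Surjective f]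
    [AlgebraicGeometry.IsReduced X] : AlgebraicGeometry.IsReduced Y := by
  apply +allowSynthFailures isReduced_of_isReduced_stalk
  intro y
  obtain ⟨x, rfl⟩ := f.surjective y
  algebraize [(f.stalkMap x).hom]
  haveI : Module.FaithfullyFlat (Y.presheaf.stalk (f x)) (X.presheaf.stalk x) :=
    @Module.FaithfullyFlat.of_flat_of_isLocalHom _ _ _ _ _ _ _
      (Flat.stalkMap f x) (f.toLRSHom.prop x)
  exact isReduced_of_injective (algebraMap (Y.presheaf.stalk (f x)) (X.presheaf.stalk x))
    (FaithfulSMul.algebraMap_injective _ _)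

/-- If `X ⊗_k Ω` is reduced for a perfect extension `Ω` of `k`, then `X ⊗_k K` is reduced for every
extension field `K` of `k`. -/
theorem isReduced_pullback_of_perfect {k Ω K : Type u} [Field k] [Field Ω] [Field K] [Algebra k Ω]
    [Algebra k K] [PerfectField Ω] {X : Scheme.{u}} (f : X ⟶ Spec (CommRingCat.of k))
    [AlgebraicGeometry.IsReduced (pullback f (Spec.map (CommRingCat.ofHom (algebraMap k Ω))))] :
    AlgebraicGeometry.IsReduced (pullback f (Spec.map (CommRingCat.ofHom (algebraMap k K)))) := by
  obtain ⟨L, _, φK, φΩ, hφ⟩ := exists_common_extension k K Ω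
  letI : Algebra Ω L := φΩ.toAlgebra
  letI : Algebra K L := φK.toAlgebra
  haveI : Algebra.IsGeometricallyReduced Ω L := isGeometricallyReduced_of_perfectField Ω L
  set gΩ := Spec.map (CommRingCat.ofHom (algebraMap k Ω)) with hgΩ
  set gK := Spec.map (CommRingCat.ofHom (algebraMap k K)) with hgK
  set gΩ' := Spec.map (CommRingCat.ofHom (algebraMap Ω L)) with hgΩ'
  set gK' := Spec.map (CommRingCat.ofHom (algebraMap K L)) with hgK'
  have hcomp : gK' ≫ gK = gΩ' ≫ gΩ := by
    rw [hgK', hgK, hgΩ', hgΩ, ← Spec.map_comp, ← Spec.map_comp, ← CommRingCat.ofHom_comp,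
      ← CommRingCat.ofHom_comp]
    congr 2
  haveI h1 : AlgebraicGeometry.IsReduced (pullback (pullback.snd f gΩ) gΩ') :=
    Groth.Agent.Lib.helper7.GeomRed2.isReduced_pullback_of_isGeometricallyReduced L
      (pullback.snd f gΩ)
  haveI h2 : AlgebraicGeometry.IsReduced (pullback f (gΩ' ≫ gΩ)) :=
    isReduced_of_isOpenImmersion (pullbackLeftPullbackSndIso f gΩ gΩ').inv
  haveI h3 : AlgebraicGeometry.IsReduced (pullback f (gK' ≫ gK)) := by rw [hcomp]; exact h2
  haveI h4 : AlgebraicGeometry.IsReduced (pullback (pullback.snd f gK) gK') :=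
    isReduced_of_isOpenImmersion (pullbackLeftPullbackSndIso f gK gK').hom
  haveI : Flat gK' := by
    rw [hgK', HasRingHomProperty.Spec_iff (P := @Flat)]
    exact RingHom.flat_algebraMap_iff.2 inferInstance
  haveI : Surjective gK' := by
    constructor
    intro y
    refine ⟨default, Subsingleton.elim _ _⟩
  exact isReduced_of_flat_of_surjective (pullback.fst (pullback.snd f gK) gK')

end Groth.Agent.Lib.helper7.GeomRed3
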