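import Mathlib

/-!
# Complete rings with Noetherian reduction are Noetherian (helper7)

`isNoetherianRing_of_isAdicComplete`: if `A` is `J`-adically complete, `J` is finitely generated and
`A ⧸ J` is Noetherian then `A` is Noetherian.
-/

open MvPolynomial

namespace Groth.Agent.Lib.helper7.CompleteNoeth

variable {A : Type*} [CommRing A] {n : ℕ}

attribute [local instance] MvPolynomial.gradedAlgebra

theorem hc_mul_of_isHomogeneous {σ : Type*} (q g : MvPolynomial σ A) {d : ℕ} (hg : g.IsHomogeneous d) (k : ℕ) :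
    homogeneousComponent k (q * g) = if d ≤ k then homogeneousComponent (k - d) q * g else 0 := by
  have hg' : g ∈ homogeneousSubmodule σ A d := hg
  split_ifs with h
  · have := DirectSum.coe_decompose_mul_of_right_mem_of_le (homogeneousSubmodule σ A) (a := q) hg' h
    simpa [← decomposition.decompose'_apply] using this
  · have := DirectSum.coe_decompose_mul_of_right_mem_of_not_le (homogeneousSubmodule σ A) (a := q) hg' h
    simpa [← decomposition.decompose'_apply] using this


theorem eval_hc_mem_of_mem_map_C {σ : Type*} (x : σ → A) (J : Ideal A)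
    (hJ : Ideal.span (Set.range x) = J) (r : MvPolynomial σ A)
    (hr : r ∈ Ideal.map (C : A →+* MvPolynomial σ A) J) (k : ℕ) :
    eval x (homogeneousComponent k r) ∈ J ^ (k + 1) := by
  rw [eval_eq]
  refine Ideal.sum_mem _ fun d hd => ?_
  have hdk : d.degree = k := by
    by_contra h
    rw [mem_support_iff, coeff_homogeneousComponent, if_neg h] at hd
    exact hd rfl
  have h1 : coeff d (homogeneousComponent k r) ∈ J := by
    rw [coeff_homogeneousComponent, if_pos hdk]
    exact (mem_map_C_iff.mp hr) d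
  have h2 : (∏ i ∈ d.support, x i ^ d i) ∈ J ^ k := by
    rw [← hJ, Ideal.mem_span_pow_iff_exists_isHomogeneous]
    refine ⟨monomial d 1, isHomogeneous_monomial _ hdk, ?_⟩
    rw [eval_monomial, one_mul]
    rfl
  rw [pow_succ']
  exact Ideal.mul_mem_mul h1 h2


theorem key (𝔞 : Ideal A) (x : Fin n → A) (J : Ideal A) (hJ : Ideal.span (Set.range x) = J)
    [IsNoetherianRing (A ⧸ J)] :
    ∃ (s : Finset (MvPolynomial (Fin n) A)) (a : MvPolynomial (Fin n) A → A) (D : ℕ),
      (∀ g ∈ s, a g ∈ 𝔞) ∧ ∀ (k : ℕ) (r : A), r ∈ 𝔞 → r ∈ J ^ k →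
        ∃ c : MvPolynomial (Fin n) A → A, (∀ g ∈ s, c g ∈ J ^ (k - D)) ∧
          r - ∑ g ∈ s, c g * a g ∈ J ^ (k + 1) := by
  classical
  set π : MvPolynomial (Fin n) A →+* MvPolynomial (Fin n) (A ⧸ J) :=
    MvPolynomial.map (Ideal.Quotient.mk J) with hπdef
  have hπ : Function.Surjective π := MvPolynomial.map_surjective _ Ideal.Quotient.mk_surjective
  have hker : RingHom.ker π = Ideal.map C J := by
    rw [hπdef, MvPolynomial.ker_map, Ideal.mk_ker]
  set G : Set (MvPolynomial (Fin n) A) :=
    {p | ∃ k, p.IsHomogeneous k ∧ eval x p ∈ 𝔞 ⊔ J ^ (k + 1)} with hG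
  have fg : (Ideal.span (π '' G)).FG := IsNoetherian.noetherian _
  obtain ⟨s', hs'sub, hs'eq⟩ := (Submodule.fg_span_iff_fg_span_finset_subset _).mp fg
  obtain ⟨s, hsG, hsimg⟩ := Finset.subset_set_image_iff.mp hs'sub
  have hdata : ∀ g : MvPolynomial (Fin n) A, ∃ (d : ℕ) (a j : A), g ∈ s →
      (g.IsHomogeneous d ∧ a ∈ 𝔞 ∧ j ∈ J ^ (d + 1) ∧ a + j = eval x g) := by
    intro g
    by_cases hg : g ∈ s
    · obtain ⟨d, hd, hev⟩ := hsG hg
      obtain ⟨a, ha, j, hj, haj⟩ := Submodule.mem_sup.mp hev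
      exact ⟨d, a, j, fun _ => ⟨hd, ha, hj, haj⟩⟩
    · exact ⟨0, 0, 0, fun h => absurd h hg⟩
  choose d a j hdaj using hdata
  refine ⟨s, a, s.sup d, fun g hg => (hdaj g hg).2.1, ?_⟩
  intro k r hr𝔞 hrk
  rw [← hJ, Ideal.mem_span_pow_iff_exists_isHomogeneous] at hrk
  obtain ⟨p, hp, rfl⟩ := hrk
  have hpG : p ∈ G := ⟨k, hp, Ideal.mem_sup_left hr𝔞⟩
  have h1 : π p ∈ Ideal.map π (Ideal.span (s : Set (MvPolynomial (Fin n) A))) := by
    rw [Ideal.map_span, ← Finset.coe_image, hsimg]
    have : π p ∈ Ideal.span (π '' G) := Ideal.subset_span ⟨p, hpG, rfl⟩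
    rw [Ideal.span, hs'eq] at this
    exact this
  obtain ⟨q, hq, hqp⟩ := (Ideal.mem_map_iff_of_surjective π hπ).mp h1
  obtain ⟨w, -, hw⟩ := Submodule.mem_span_finset.mp hq
  have hr' : p - q ∈ Ideal.map C J := by
    rw [← hker, RingHom.mem_ker, map_sub, hqp, sub_self]
  -- decompose
  have hpk : homogeneousComponent k p = p := homogeneousComponent_of_mem hp |>.trans (if_pos rfl)
  have hsum : p = ∑ g ∈ s, homogeneousComponent k (w g * g) + homogeneousComponent k (p - q) := by
    conv_lhs => rw [← hpk]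
    rw [← map_sum, ← map_add]
    congr 1
    rw [← hw]
    simp only [smul_eq_mul]
    ring
  refine ⟨fun g => if d g ≤ k then eval x (homogeneousComponent (k - d g) (w g)) else 0, ?_, ?_⟩
  · intro g hg
    dsimp only
    split_ifs with h
    · have : eval x (homogeneousComponent (k - d g) (w g)) ∈ J ^ (k - d g) := by
        rw [← hJ, Ideal.mem_span_pow_iff_exists_isHomogeneous]
        exact ⟨_, homogeneousComponent_isHomogeneous _ _, rfl⟩
      refine Ideal.pow_le_pow_right ?_ this
      have : d g ≤ s.sup d := Finset.le_sup hg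
      omega
    · exact zero_mem _
  · have hev : eval x p = ∑ g ∈ s, eval x (homogeneousComponent k (w g * g)) +
        eval x (homogeneousComponent k (p - q)) := by
      conv_lhs => rw [hsum]
      rw [map_add, map_sum]
    rw [hev]
    have hterm : ∀ g ∈ s, eval x (homogeneousComponent k (w g * g)) =
        (if d g ≤ k then eval x (homogeneousComponent (k - d g) (w g)) else 0) * a g +
        (if d g ≤ k then eval x (homogeneousComponent (k - d g) (w g)) else 0) * j g := by
      intro g hg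
      obtain ⟨hgd, -, -, hgaj⟩ := hdaj g hg
      rw [hc_mul_of_isHomogeneous _ _ hgd]
      split_ifs with h
      · rw [map_mul, ← hgaj]; ring
      · simp
    rw [Finset.sum_congr rfl hterm, Finset.sum_add_distrib]
    have : ∑ g ∈ s, (if d g ≤ k then eval x (homogeneousComponent (k - d g) (w g)) else 0) * a g +
        ∑ g ∈ s, (if d g ≤ k then eval x (homogeneousComponent (k - d g) (w g)) else 0) * j g +
        eval x (homogeneousComponent k (p - q)) -
        ∑ g ∈ s, (if d g ≤ k then eval x (homogeneousComponent (k - d g) (w g)) else 0) * a g =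
        ∑ g ∈ s, (if d g ≤ k then eval x (homogeneousComponent (k - d g) (w g)) else 0) * j g +
        eval x (homogeneousComponent k (p - q)) := by ring
    rw [this]
    refine Ideal.add_mem _ (Ideal.sum_mem _ fun g hg => ?_)
      (eval_hc_mem_of_mem_map_C x J hJ _ hr' k)
    obtain ⟨hgd, -, hgj, -⟩ := hdaj g hg
    split_ifs with h
    · have h1 : eval x (homogeneousComponent (k - d g) (w g)) ∈ J ^ (k - d g) := by
        rw [← hJ, Ideal.mem_span_pow_iff_exists_isHomogeneous]
        exact ⟨_, homogeneousComponent_isHomogeneous _ _, rfl⟩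
      have : k + 1 = (k - d g) + (d g + 1) := by omega
      rw [this, pow_add]
      exact Ideal.mul_mem_mul h1 hgj
    · simp


/-- A ring which is complete for the adic topology of a finitely generated ideal `J` with
`A ⧸ J` Noetherian is Noetherian. -/
theorem isNoetherianRing_of_isAdicComplete (J : Ideal A) [IsAdicComplete J A] (hJ : J.FG)
    [IsNoetherianRing (A ⧸ J)] : IsNoetherianRing A := by
  classical
  rw [isNoetherianRing_iff_ideal_fg]
  intro 𝔞
  obtain ⟨n, x, hx⟩ := Submodule.fg_iff_exists_fin_generating_family.mp hJ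
  obtain ⟨s, a, D, ha, hkey⟩ := key 𝔞 x J hx
  refine ⟨s.image a, le_antisymm ?_ ?_⟩
  · rw [Submodule.span_le]
    intro y hy
    simp only [Finset.coe_image, Set.mem_image, Finset.mem_coe] at hy
    obtain ⟨g, hg, rfl⟩ := hy
    exact ha g hg
  intro r hr
  have hstep : ∀ (k : ℕ) (r : A), ∃ c : MvPolynomial (Fin n) A → A, r ∈ 𝔞 → r ∈ J ^ k →
      (∀ g ∈ s, c g ∈ J ^ (k - D)) ∧ r - ∑ g ∈ s, c g * a g ∈ J ^ (k + 1) := by
    intro k r
    by_cases h : r ∈ 𝔞 ∧ r ∈ J ^ k
    · obtain ⟨c, hc1, hc2⟩ := hkey k r h.1 h.2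
      exact ⟨c, fun _ _ => ⟨hc1, hc2⟩⟩
    · exact ⟨0, fun h1 h2 => absurd ⟨h1, h2⟩ h⟩
  choose cf hcf using hstep
  let R : ℕ → A := fun k => Nat.rec r (fun k rk => rk - ∑ g ∈ s, cf k rk g * a g) k
  have hRs : ∀ k, R (k + 1) = R k - ∑ g ∈ s, cf k (R k) g * a g := fun k => rfl
  have hRmem : ∀ k, R k ∈ 𝔞 ∧ R k ∈ J ^ k := by
    intro k
    induction k with
    | zero => exact ⟨hr, by simp⟩
    | succ k ih =>
      obtain ⟨h1, h2⟩ := hcf k (R k) ih.1 ih.2
      refine ⟨?_, h2⟩
      rw [hRs]
      exact 𝔞.sub_mem ih.1 (𝔞.sum_mem fun g hg => 𝔞.mul_mem_left _ (ha g hg))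
  let S : MvPolynomial (Fin n) A → ℕ → A := fun g k => ∑ i ∈ Finset.range k, cf i (R i) g
  have hSs : ∀ g k, S g (k + 1) = S g k + cf k (R k) g := fun g k => Finset.sum_range_succ _ _
  have hRS : ∀ k, r - ∑ g ∈ s, S g k * a g = R k := by
    intro k
    induction k with
    | zero => simp [S, R]
    | succ k ih =>
      have : R (k + 1) = (r - ∑ g ∈ s, S g k * a g) - ∑ g ∈ s, cf k (R k) g * a g := by
        rw [hRs, ih]
      rw [this]
      simp only [hSs, add_mul, Finset.sum_add_distrib]
      ring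
  have hcmem : ∀ g ∈ s, ∀ k, cf k (R k) g ∈ J ^ (k - D) := fun g hg k =>
    (hcf k (R k) (hRmem k).1 (hRmem k).2).1 g hg
  have hlim : ∀ g : MvPolynomial (Fin n) A, ∃ L : A, g ∈ s →
      ∀ m, S g (m + D) ≡ L [SMOD (J ^ m • ⊤ : Submodule A A)] := by
    intro g
    by_cases hg : g ∈ s
    · have hcauchy : ∀ {m k : ℕ}, m ≤ k →
          S g (m + D) ≡ S g (k + D) [SMOD (J ^ m • ⊤ : Submodule A A)] := by
        intro m k hmk
        induction k, hmk using Nat.le_induction with
        | base => rfl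
        | succ k hmk ih =>
          refine ih.trans ?_
          rw [SModEq.sub_mem, show k + 1 + D = (k + D) + 1 by ring, hSs]
          simp only [sub_add_cancel_left, smul_eq_mul, Ideal.mul_top]
          refine neg_mem ?_
          have := hcmem g hg (k + D)
          rw [Nat.add_sub_cancel] at this
          exact Ideal.pow_le_pow_right hmk this
      obtain ⟨L, hL⟩ := IsPrecomplete.prec' (I := J) (fun m => S g (m + D)) hcauchy
      exact ⟨L, fun _ => hL⟩
    · exact ⟨0, fun h => absurd h hg⟩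
  choose L hL using hlim
  have hzero : r - ∑ g ∈ s, L g * a g = 0 := by
    refine IsHausdorff.haus' (I := J) _ fun m => ?_
    rw [SModEq.sub_mem, sub_zero]
    simp only [smul_eq_mul, Ideal.mul_top]
    have h1 : r - ∑ g ∈ s, L g * a g =
        R (m + D) + ∑ g ∈ s, (S g (m + D) - L g) * a g := by
      rw [← hRS (m + D)]
      simp only [sub_mul, Finset.sum_sub_distrib]
      ring
    rw [h1]
    refine Ideal.add_mem _ (Ideal.pow_le_pow_right (Nat.le_add_right m D) (hRmem (m + D)).2)
      (Ideal.sum_mem _ fun g hg => Ideal.mul_mem_right _ _ ?_)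
    have := hL g hg m
    rw [SModEq.sub_mem] at this
    simpa only [smul_eq_mul, Ideal.mul_top] using this
  have : r = ∑ g ∈ s, L g * a g := sub_eq_zero.mp hzero
  rw [this]
  refine Submodule.sum_mem _ fun g hg => ?_
  exact Ideal.mul_mem_left _ _ (Submodule.subset_span (Finset.mem_coe.mpr (Finset.mem_image_of_mem a hg)))


end Groth.Agent.Lib.helper7.CompleteNoeth
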