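import Mathlib
import Groth.Agent.Lib.helper9.IntegralDim

/-!
Helper lemmas (helper7): dimension theory of finitely generated algebras over a field.
-/

set_option autoImplicit false

namespace Groth.Agent.Lib.helper7.DimFT

universe u

open Polynomial

variable {k : Type u} [Field k]

/-- Maximal ideals of `k[x_1, …, x_n]` have height `n`. -/
theorem height_of_isMaximal_mvPolynomial : ∀ (n : ℕ) (M : Ideal (MvPolynomial (Fin n) k))
    [M.IsMaximal], M.height = n := by
  intro n
  induction n with
  | zero =>
    intro M hM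
    have hdim : ringKrullDim (MvPolynomial (Fin 0) k) = 0 := by
      rw [MvPolynomial.ringKrullDim_of_isNoetherianRing]; simp
    have h1 : (M.height : WithBot ℕ∞) ≤ 0 :=
      hdim ▸ Ideal.height_le_ringKrullDim_of_ne_top hM.ne_top
    have h2 : M.height ≤ 0 := by exact_mod_cast h1
    simpa using h2
  | succ n ih =>
    intro M hM
    let e : MvPolynomial (Fin (n + 1)) k ≃+* (MvPolynomial (Fin n) k)[X] :=
      (MvPolynomial.finSuccEquiv k n).toRingEquiv
    let M' : Ideal (MvPolynomial (Fin n) k)[X] := M.map e
    haveI : M'.IsMaximal := Ideal.map_isMaximal_of_equiv e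
    let p : Ideal (MvPolynomial (Fin n) k) := M'.comap (C : _ →+* _)
    haveI : p.IsMaximal := Polynomial.isMaximal_comap_C_of_isJacobsonRing M'
    haveI : M'.LiesOver p := ⟨rfl⟩
    rw [← e.height_map M, Polynomial.height_eq_height_add_one p M', ih p]
    simp

/-- Dimension of a polynomial ring over a field. -/
theorem ringKrullDim_mvPolynomial (s : ℕ) : ringKrullDim (MvPolynomial (Fin s) k) = s := by
  rw [MvPolynomial.ringKrullDim_of_isNoetherianRing]; simp

/-- For a prime element `f` of `k[x_1..x_s]`, `dim k[x]/(f) + 1 = s`. -/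
theorem ringKrullDim_quotient_prime_add_one (s : ℕ) (f : MvPolynomial (Fin s) k) (hf : Prime f) :
    ringKrullDim (MvPolynomial (Fin s) k ⧸ Ideal.span {f}) + 1 = s := by
  apply le_antisymm
  · rw [← ringKrullDim_mvPolynomial (k := k) s]
    exact ringKrullDim_quotient_succ_le_of_nonZeroDivisor
      (mem_nonZeroDivisors_of_ne_zero hf.ne_zero)
  · have hne : Ideal.span {f} ≠ ⊤ := by
      rw [Ne, Ideal.span_singleton_eq_top]; exact hf.not_isUnit
    obtain ⟨M, hM, hle⟩ := Ideal.exists_le_maximal _ hne
    have hfM : f ∈ M := hle (Ideal.mem_span_singleton_self f)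
    have h1 := Ideal.height_le_ringKrullDim_quotient_add_one (p := M) hfM
    rw [height_of_isMaximal_mvPolynomial s M] at h1
    exact_mod_cast h1

/-- `B` a finitely generated domain over `k` and `P` a prime of height one: `dim B/P + 1 = dim B`. -/
theorem ringKrullDim_quotient_add_one_of_height_eq_one (B : Type u) [CommRing B] [IsDomain B]
    [Algebra k B] [Algebra.FiniteType k B] (P : Ideal B) [P.IsPrime] (hP : P.height = 1) :
    ringKrullDim (B ⧸ P) + 1 = ringKrullDim B := by
  haveI : IsNoetherianRing B := Algebra.FiniteType.isNoetherianRing k B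
  obtain ⟨s, g, hinj, hfin⟩ := exists_finite_inj_algHom_of_fg k B
  let R := MvPolynomial (Fin s) k
  letI : Algebra R B := g.toRingHom.toAlgebra
  haveI : Module.Finite R B := hfin
  haveI : FaithfulSMul R B := (faithfulSMul_iff_algebraMap_injective R B).mpr hinj
  haveI : Algebra.IsIntegral R B := inferInstance
  let p₀ : Ideal R := P.under R
  haveI : P.LiesOver p₀ := ⟨rfl⟩
  have hgd := Ideal.height_eq_height_add_of_liesOver_of_hasGoingDown p₀ P
  have hle : p₀.height ≤ 1 := by rw [← hP, hgd]; exact le_self_add
  have hPne : P ≠ ⊥ := Ideal.ne_bot_of_height_eq_one hP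
  have hne : p₀ ≠ ⊥ := fun h => hPne (Ideal.eq_bot_of_comap_eq_bot h)
  obtain ⟨f, hf, hfprime⟩ := Ideal.IsPrime.exists_mem_prime_of_ne_bot inferInstance hne
  have hp₀1 : p₀.height = 1 := by
    apply le_antisymm hle
    rw [Order.one_le_iff_pos, pos_iff_ne_zero, Ne, Ideal.height_eq_zero_iff_eq_bot]
    exact hne
  have hp₀ : p₀ = Ideal.span {f} := Ideal.eq_span_singleton_of_height_eq_one hp₀1 hf hfprime
  have hdimB : ringKrullDim R = ringKrullDim B :=
    Groth.Agent.Lib.helper9.IntegralDim.ringKrullDim_eq_of_isIntegral_of_injective R B hinj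
  have hdimQ : ringKrullDim (R ⧸ p₀) = ringKrullDim (B ⧸ P) := by
    apply Groth.Agent.Lib.helper9.IntegralDim.ringKrullDim_eq_of_isIntegral_of_injective
    exact FaithfulSMul.algebraMap_injective _ _
  rw [← hdimB, ← hdimQ, hp₀, ringKrullDim_quotient_prime_add_one s f hfprime,
    ringKrullDim_mvPolynomial]

/-- Height one of the image of `p` in `A/q` when `q < p` is a covering pair of primes. -/
theorem height_map_quotient_eq_one {A : Type u} [CommRing A] (q p : Ideal A) [q.IsPrime]
    [p.IsPrime] (hqp : q < p)
    (hcov : ∀ q' : Ideal A, q'.IsPrime → q < q' → ¬ q' < p) :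
    haveI : (p.map (Ideal.Quotient.mk q)).IsPrime :=
      Ideal.isPrime_map_quotientMk_of_isPrime hqp.le
    (p.map (Ideal.Quotient.mk q)).height = 1 := by
  haveI : (p.map (Ideal.Quotient.mk q)).IsPrime :=
    Ideal.isPrime_map_quotientMk_of_isPrime hqp.le
  have hsurj : Function.Surjective (Ideal.Quotient.mk q) := Ideal.Quotient.mk_surjective
  have hcomap : (p.map (Ideal.Quotient.mk q)).comap (Ideal.Quotient.mk q) = p := by
    rw [Ideal.comap_map_of_surjective _ hsurj, ← RingHom.ker_eq_comap_bot, Ideal.mk_ker]
    exact sup_eq_left.mpr hqp.le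
  apply le_antisymm
  · have : (p.map (Ideal.Quotient.mk q)).height ≤ ((1 : ℕ) : ℕ∞) := by
      rw [Ideal.height_le_iff]
      intro r hr hrp
      have hr' : (r.comap (Ideal.Quotient.mk q)).IsPrime := Ideal.comap_isPrime _ r
      have hqr : q ≤ r.comap (Ideal.Quotient.mk q) := by
        conv_lhs => rw [← Ideal.mk_ker (I := q), RingHom.ker_eq_comap_bot]
        exact Ideal.comap_mono bot_le
      have hrp' : r.comap (Ideal.Quotient.mk q) < p := by
        rw [← hcomap]
        refine lt_of_le_of_ne (Ideal.comap_mono hrp.le) ?_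
        intro h
        exact hrp.ne (Ideal.comap_injective_of_surjective _ hsurj h)
      have hreq : r.comap (Ideal.Quotient.mk q) = q := by
        by_contra hne
        exact hcov _ hr' (lt_of_le_of_ne hqr (Ne.symm hne)) hrp'
      have hrbot : r = ⊥ := by
        rw [← Ideal.map_comap_of_surjective _ hsurj r, hreq, Ideal.map_quotient_self]
      rw [hrbot, Ideal.height_bot]
      norm_num
    simpa using this
  · rw [Order.one_le_iff_pos, pos_iff_ne_zero, Ne, Ideal.height_eq_zero_iff_eq_bot]
    intro h
    rw [h, ← RingHom.ker_eq_comap_bot, Ideal.mk_ker] at hcomap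
    exact hqp.ne hcomap

/-- **Dimension formula** for finitely generated domains over a field:
`dim A/p + ht p = dim A`. -/
theorem ringKrullDim_quotient_add_height_aux : ∀ (h : ℕ) (A : Type u) [CommRing A] [IsDomain A]
    [Algebra k A] [Algebra.FiniteType k A] (p : Ideal A) [p.IsPrime], p.height = h →
    ringKrullDim (A ⧸ p) + h = ringKrullDim A := by
  intro h
  induction h with
  | zero =>
    intro A _ _ _ _ p _ hp
    have hp0 : p = ⊥ := Ideal.height_eq_zero_iff_eq_bot.mp (by simpa using hp)
    subst hp0
    simp only [Nat.cast_zero, add_zero]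
    exact ringKrullDim_eq_of_ringEquiv (RingEquiv.quotientBot A)
  | succ h ih =>
    intro A _ _ _ _ p _ hp
    haveI : IsNoetherianRing A := Algebra.FiniteType.isNoetherianRing k A
    have hnot : ¬ p.height ≤ (h : ℕ) := by
      rw [hp]; norm_cast; omega
    rw [Ideal.height_le_iff_covBy] at hnot
    push Not at hnot
    obtain ⟨q, hq, hqp, hcov, hqh⟩ := hnot
    haveI := hq
    have hqh' : q.height = h := by
      apply le_antisymm _ hqh
      have h1 := Ideal.height_strict_mono_of_isPrime_of_isPrime hqp
      rw [hp] at h1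
      have h2 : q.height < (h : ℕ∞) + 1 := by exact_mod_cast h1
      exact (ENat.lt_add_one_iff (ENat.natCast_ne_top h)).mp h2
    haveI : (p.map (Ideal.Quotient.mk q)).IsPrime :=
      Ideal.isPrime_map_quotientMk_of_isPrime hqp.le
    have h1 := height_map_quotient_eq_one q p hqp hcov
    have h2 := ringKrullDim_quotient_add_one_of_height_eq_one (k := k) (A ⧸ q)
      (p.map (Ideal.Quotient.mk q)) h1
    have h3 := ih A q hqh'
    have h4 : ringKrullDim ((A ⧸ q) ⧸ p.map (Ideal.Quotient.mk q)) = ringKrullDim (A ⧸ p) :=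
      ringKrullDim_eq_of_ringEquiv (DoubleQuot.quotQuotEquivQuotOfLE hqp.le)
    rw [← h3, ← h2, h4]
    push_cast
    abel

theorem ringKrullDim_quotient_add_height (A : Type u) [CommRing A] [IsDomain A]
    [Algebra k A] [Algebra.FiniteType k A] (p : Ideal A) [p.IsPrime] :
    ringKrullDim (A ⧸ p) + p.height = ringKrullDim A := by
  haveI : IsNoetherianRing A := Algebra.FiniteType.isNoetherianRing k A
  have hfin : p.height ≠ ⊤ := Ideal.height_ne_top_of_isPrime
  obtain ⟨h, hh⟩ := ENat.ne_top_iff_exists.mp hfin
  have := ringKrullDim_quotient_add_height_aux (k := k) h A p hh.symm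
  rw [← hh]
  exact this

/-- For a finitely generated domain over a field, Krull dimension equals transcendence degree. -/
theorem exists_trdeg_eq_ringKrullDim (A : Type u) [CommRing A] [IsDomain A] [Algebra k A]
    [Algebra.FiniteType k A] :
    ∃ n : ℕ, Algebra.trdeg k A = n ∧ ringKrullDim A = n := by
  obtain ⟨s, g, hinj, hfin⟩ := exists_finite_inj_algHom_of_fg k A
  let R := MvPolynomial (Fin s) k
  letI : Algebra R A := g.toRingHom.toAlgebra
  haveI : Module.Finite R A := hfin
  haveI : FaithfulSMul R A := (faithfulSMul_iff_algebraMap_injective R A).mpr hinj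
  haveI : Algebra.IsIntegral R A := inferInstance
  haveI : IsScalarTower k R A := IsScalarTower.of_algebraMap_eq' g.comp_algebraMap.symm
  refine ⟨s, ?_, ?_⟩
  · have h1 := trdeg_add_eq k R (A := A)
    have h2 : Algebra.trdeg R A = 0 := trdeg_eq_zero
    have h3 : Algebra.trdeg k R = s := by
      rw [MvPolynomial.trdeg_of_isDomain]; simp
    rw [← h1, h2, h3, add_zero]
  · rw [← Groth.Agent.Lib.helper9.IntegralDim.ringKrullDim_eq_of_isIntegral_of_injective R A hinj,
      ringKrullDim_mvPolynomial]

theorem trdeg_fractionRing (A : Type u) [CommRing A] [IsDomain A] [Algebra k A] :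
    Algebra.trdeg k (FractionRing A) = Algebra.trdeg k A := by
  haveI : Algebra.IsAlgebraic A (FractionRing A) :=
    IsLocalization.isAlgebraic _ (nonZeroDivisors A)
  have h1 := trdeg_add_eq k A (A := FractionRing A)
  have h2 : Algebra.trdeg A (FractionRing A) = 0 := trdeg_eq_zero
  rw [← h1, h2, add_zero]

/-- Every maximal ideal of a finitely generated domain over a field has height `dim A`. -/
theorem height_of_isMaximal (A : Type u) [CommRing A] [IsDomain A] [Algebra k A]
    [Algebra.FiniteType k A] (m : Ideal A) [m.IsMaximal] :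
    (m.height : WithBot ℕ∞) = ringKrullDim A := by
  have h := ringKrullDim_quotient_add_height (k := k) A m
  letI : Field (A ⧸ m) := Ideal.Quotient.field m
  have h0 : ringKrullDim (A ⧸ m) = 0 := ringKrullDim_eq_zero_of_field _
  rw [h0, zero_add] at h
  exact h

end Groth.Agent.Lib.helper7.DimFT
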