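import Mathlib
import Groth.Prelude.Def_Curv2
import Groth.Agent.Lib.helper7.DimFT

/-!
Helper lemmas (helper7): bridging schemes locally of finite type over a field `k`
(`[X.Over (Spec (.of k))]`, `Curv2.resAlgebra`) to finitely generated `k`-algebras.
-/

set_option autoImplicit false

namespace Groth.Agent.Lib.helper7.DimSch

universe u

open AlgebraicGeometry CategoryTheory

variable (k : Type u) [Field k] (X : Scheme.{u}) [X.Over (Spec (CommRingCat.of k))]

/-- The structure ring hom `k → Γ(X, U)`. -/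
noncomputable def sectionMap (U : X.Opens) : k →+* Γ(X, U) :=
  (X.presheaf.map (homOfLE (le_top : U ≤ ⊤)).op).hom.comp
    (Coh.toGlobal (X ↘ Spec (CommRingCat.of k)))

theorem sectionMap_finiteType [LocallyOfFiniteType (X ↘ Spec (CommRingCat.of k))] {U : X.Opens}
    (hU : IsAffineOpen U) : (sectionMap k X U).FiniteType := by
  have h1 : ((X ↘ Spec (CommRingCat.of k)).appLE ⊤ U le_top).hom.FiniteType :=
    HasRingHomProperty.appLE (P := @LocallyOfFiniteType) _ inferInstance
      ⟨⊤, isAffineOpen_top _⟩ ⟨U, hU⟩ le_top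
  have h2 : sectionMap k X U = ((X ↘ Spec (CommRingCat.of k)).appLE ⊤ U le_top).hom.comp
      (Scheme.ΓSpecIso (CommRingCat.of k)).inv.hom := by
    ext a
    simp [sectionMap, Coh.toGlobal, Scheme.Hom.appLE]
  rw [h2]
  refine h1.comp ?_
  apply RingHom.FiniteType.of_surjective
  exact (ConcreteCategory.bijective_of_isIso (Scheme.ΓSpecIso (CommRingCat.of k)).inv).2

theorem resMap_eq (U : X.Opens) (x : X) (hx : x ∈ U) :
    Curv2.resMap k X x = (X.evaluation U x hx).hom.comp (sectionMap k X U) := by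
  ext a
  simp only [Curv2.resMap, Curv2.stalkMap, sectionMap, RingHom.coe_comp, Function.comp_apply,
    Scheme.evaluation, CommRingCat.hom_comp]
  congr 1
  exact (TopCat.Presheaf.germ_res_apply X.presheaf (homOfLE (le_top : U ≤ ⊤)) x hx _).symm

theorem ker_evaluation {U : X.Opens} (hU : IsAffineOpen U) (x : X) (hx : x ∈ U) :
    RingHom.ker (X.evaluation U x hx).hom = (hU.primeIdealOf ⟨x, hx⟩).asIdeal := by
  rw [hU.primeIdealOf_eq_map_closedPoint]
  ext s
  simp only [RingHom.mem_ker]
  change _ ↔ (X.presheaf.germ U x hx).hom s ∈ IsLocalRing.maximalIdeal _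
  rw [← IsLocalRing.residue_eq_zero_iff]
  rfl

/-- Transcendence degree of the residue field at `x` equals that of `Γ(X,U)/p_x`. -/
theorem trdeg_residueField {U : X.Opens} (hU : IsAffineOpen U) (x : X) (hx : x ∈ U) :
    letI := (sectionMap k X U).toAlgebra
    @Algebra.trdeg k (X.residueField x) _ _ (Curv2.resAlgebra k X x) =
      Algebra.trdeg k (Γ(X, U) ⧸ (hU.primeIdealOf ⟨x, hx⟩).asIdeal) := by
  letI := (sectionMap k X U).toAlgebra
  letI := Curv2.resAlgebra k X x
  set p := (hU.primeIdealOf ⟨x, hx⟩).asIdeal with hp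
  set ev := (X.evaluation U x hx).hom with hev
  have hker : RingHom.ker ev = p := ker_evaluation X hU x hx
  let ψ : Γ(X, U) ⧸ p →+* X.residueField x :=
    Ideal.Quotient.lift p ev (fun a ha => by rw [← hker] at ha; exact ha)
  have hψinj : Function.Injective ψ := by
    rw [injective_iff_map_eq_zero]
    intro a ha
    obtain ⟨a, rfl⟩ := Ideal.Quotient.mk_surjective a
    rw [Ideal.Quotient.eq_zero_iff_mem, ← hker]
    exact ha
  letI : Algebra (Γ(X, U) ⧸ p) (X.residueField x) := ψ.toAlgebra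
  haveI : IsScalarTower k (Γ(X, U) ⧸ p) (X.residueField x) := by
    apply IsScalarTower.of_algebraMap_eq'
    have := resMap_eq k X U x hx
    ext a
    have h1 := congrArg (fun f => f a) this
    exact h1
  haveI : FaithfulSMul (Γ(X, U) ⧸ p) (X.residueField x) :=
    (faithfulSMul_iff_algebraMap_injective _ _).mpr hψinj
  haveI : Algebra.IsAlgebraic (Γ(X, U) ⧸ p) (X.residueField x) := by
    constructor
    intro e
    obtain ⟨t, rfl⟩ := X.residue_surjective x e
    letI := X.presheaf.algebra_section_stalk ⟨x, hx⟩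
    haveI := hU.isLocalization_stalk ⟨x, hx⟩
    obtain ⟨a, s, rfl⟩ := IsLocalization.exists_mk'_eq p.primeCompl t
    have h1 : (X.residue x).hom (IsLocalization.mk' (X.presheaf.stalk x) a s) =
        ψ (Ideal.Quotient.mk p a) * (ψ (Ideal.Quotient.mk p (s : Γ(X, U))))⁻¹ := by
      have hs : ψ (Ideal.Quotient.mk p (s : Γ(X, U))) ≠ 0 := by
        intro h0
        have := hψinj (h0.trans (map_zero ψ).symm)
        rw [Ideal.Quotient.eq_zero_iff_mem] at this
        exact s.2 this
      rw [eq_mul_inv_iff_mul_eq₀ hs]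
      have h2 : IsLocalization.mk' (X.presheaf.stalk x) a s *
          algebraMap Γ(X, U) (X.presheaf.stalk x) (s : Γ(X, U)) =
          algebraMap Γ(X, U) (X.presheaf.stalk x) a := IsLocalization.mk'_spec _ a s
      have h3 := congrArg (X.residue x).hom h2
      rw [map_mul] at h3
      exact h3
    rw [h1]
    exact (isAlgebraic_algebraMap (R := Γ(X, U) ⧸ p) (A := X.residueField x) _).mul
      (isAlgebraic_algebraMap (R := Γ(X, U) ⧸ p) (A := X.residueField x) _).inv
  have h1 := trdeg_add_eq k (Γ(X, U) ⧸ p) (A := X.residueField x)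
  have h2 : Algebra.trdeg (Γ(X, U) ⧸ p) (X.residueField x) = 0 := trdeg_eq_zero
  rw [← h1, h2, add_zero]

section order

variable {X}

theorem primeIdealOf_le_iff {U : X.Opens} (hU : IsAffineOpen U) (x y : U) :
    hU.primeIdealOf x ≤ hU.primeIdealOf y ↔ (x : X) ⤳ (y : X) := by
  rw [PrimeSpectrum.le_iff_specializes]
  have h1 : hU.primeIdealOf x ⤳ hU.primeIdealOf y ↔ x ⤳ y :=
    (hU.isoSpec.hom.homeomorph).isInducing.specializes_iff
  rw [h1]
  exact (Topology.IsInducing.subtypeVal.specializes_iff (x := x) (y := y)).symm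

theorem primeIdealOf_injective {U : X.Opens} (hU : IsAffineOpen U) :
    Function.Injective hU.primeIdealOf :=
  (hU.isoSpec.hom.homeomorph).injective

theorem exists_primeIdealOf_eq {U : X.Opens} (hU : IsAffineOpen U) (q : PrimeSpectrum Γ(X, U)) :
    ∃ x : U, hU.primeIdealOf x = q :=
  (hU.isoSpec.hom.homeomorph).surjective q

end order

/-- For `X` locally of finite type over `k` and an affine open `U ∋ x`: the transcendence degree
of `κ(x)` is a natural number equal to `dim Γ(X,U)/p_x`. -/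
theorem exists_trdeg_residueField_eq [LocallyOfFiniteType (X ↘ Spec (CommRingCat.of k))]
    {U : X.Opens} (hU : IsAffineOpen U) (x : X) (hx : x ∈ U) :
    ∃ n : ℕ, @Algebra.trdeg k (X.residueField x) _ _ (Curv2.resAlgebra k X x) = n ∧
      ringKrullDim (Γ(X, U) ⧸ (hU.primeIdealOf ⟨x, hx⟩).asIdeal) = n := by
  letI := (sectionMap k X U).toAlgebra
  haveI : Algebra.FiniteType k Γ(X, U) := sectionMap_finiteType k X hU
  obtain ⟨n, h1, h2⟩ := DimFT.exists_trdeg_eq_ringKrullDim (k := k)
    (Γ(X, U) ⧸ (hU.primeIdealOf ⟨x, hx⟩).asIdeal)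
  exact ⟨n, (trdeg_residueField k X hU x hx).trans h1, h2⟩

/-- Immediate specializations drop the transcendence degree of the residue field by one. -/
theorem trdeg_of_covBy [LocallyOfFiniteType (X ↘ Spec (CommRingCat.of k))] (x x' : X)
    (hne : x ≠ x') (hsp : x ⤳ x') (himm : ∀ y : X, x ⤳ y → y ⤳ x' → y = x ∨ y = x') (n : ℕ)
    (hn : @Algebra.trdeg k (X.residueField x') _ _ (Curv2.resAlgebra k X x') = n) :
    @Algebra.trdeg k (X.residueField x) _ _ (Curv2.resAlgebra k X x) = (n + 1 : ℕ) := by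
  obtain ⟨_, ⟨U, hU, rfl⟩, hx'U, -⟩ :=
    X.isBasis_affineOpens.exists_subset_of_mem_open (Set.mem_univ x') isOpen_univ
  have hU' : IsAffineOpen U := hU
  have hxU : x ∈ U := hsp.mem_open U.isOpen hx'U
  letI := (sectionMap k X U).toAlgebra
  haveI : Algebra.FiniteType k Γ(X, U) := sectionMap_finiteType k X hU'
  set p := hU'.primeIdealOf ⟨x, hxU⟩ with hp
  set q := hU'.primeIdealOf ⟨x', hx'U⟩ with hq
  have hle : p ≤ q := (primeIdealOf_le_iff hU' _ _).mpr hsp
  have hpq : p.asIdeal < q.asIdeal := by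
    refine lt_of_le_of_ne hle ?_
    intro h
    have : p = q := PrimeSpectrum.ext h
    have := primeIdealOf_injective hU' this
    exact hne (congrArg Subtype.val this)
  have hcov : ∀ r : Ideal Γ(X, U), r.IsPrime → p.asIdeal < r → ¬ r < q.asIdeal := by
    intro r hr hpr hrq
    obtain ⟨y, hy⟩ := exists_primeIdealOf_eq hU' ⟨r, hr⟩
    have h1 : (x : X) ⤳ (y : X) := by
      rw [← primeIdealOf_le_iff hU' ⟨x, hxU⟩ y, hy]; exact hpr.le
    have h2 : (y : X) ⤳ x' := by
      rw [← primeIdealOf_le_iff hU' y ⟨x', hx'U⟩, hy]; exact hrq.le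
    rcases himm y h1 h2 with h | h
    · have : y = ⟨x, hxU⟩ := Subtype.ext h
      rw [this] at hy
      exact hpr.ne (congrArg PrimeSpectrum.asIdeal hy)
    · have : y = ⟨x', hx'U⟩ := Subtype.ext h
      rw [this] at hy
      exact hrq.ne (congrArg PrimeSpectrum.asIdeal hy).symm
  haveI : (q.asIdeal.map (Ideal.Quotient.mk p.asIdeal)).IsPrime :=
    Ideal.isPrime_map_quotientMk_of_isPrime hpq.le
  have h1 := DimFT.height_map_quotient_eq_one p.asIdeal q.asIdeal hpq hcov
  have h2 := DimFT.ringKrullDim_quotient_add_one_of_height_eq_one (k := k)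
    (Γ(X, U) ⧸ p.asIdeal) (q.asIdeal.map (Ideal.Quotient.mk p.asIdeal)) h1
  have h4 : ringKrullDim ((Γ(X, U) ⧸ p.asIdeal) ⧸ q.asIdeal.map (Ideal.Quotient.mk p.asIdeal)) =
      ringKrullDim (Γ(X, U) ⧸ q.asIdeal) :=
    ringKrullDim_eq_of_ringEquiv (DoubleQuot.quotQuotEquivQuotOfLE hpq.le)
  obtain ⟨np, hnp1, hnp2⟩ := exists_trdeg_residueField_eq k X hU' x hxU
  obtain ⟨nq, hnq1, hnq2⟩ := exists_trdeg_residueField_eq k X hU' x' hx'U
  rw [h4, hnq2, hnp2] at h2
  have h5 : nq + 1 = np := by exact_mod_cast h2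
  rw [hnq1] at hn
  have h6 : nq = n := by exact_mod_cast hn
  rw [hnp1, ← h5, h6]

end Groth.Agent.Lib.helper7.DimSch
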