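import Mathlib
import Groth.Agent.Lib.helper9.IntegralDim

/-!
# Krull dimension of finite type algebras over a field is invariant under field extension
-/

universe u

open TensorProduct

namespace Groth.Agent.Lib.helper7.DimBC

theorem ringKrullDim_mvPolynomial_field (k : Type*) [Field k] (s : ℕ) :
    ringKrullDim (MvPolynomial (Fin s) k) = s := by
  rw [MvPolynomial.ringKrullDim_of_isNoetherianRing, ringKrullDim_eq_zero_of_field, zero_add]
  simp

/-- `dim (K ⊗_k B) = dim B` for `B` of finite type over the field `k`. -/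
theorem ringKrullDim_tensorProduct_left (k K B : Type*) [Field k] [Field K] [Algebra k K]
    [CommRing B] [Algebra k B] [Algebra.FiniteType k B] :
    ringKrullDim (K ⊗[k] B) = ringKrullDim B := by
  rcases subsingleton_or_nontrivial B with hB | hB
  · haveI : Subsingleton (K ⊗[k] B) := by
      refine ⟨fun x y => ?_⟩
      have h0 : ∀ z : K ⊗[k] B, z = 0 := by
        intro z
        induction z using TensorProduct.induction_on with
        | zero => rfl
        | tmul c b => rw [Subsingleton.elim b 0, TensorProduct.tmul_zero]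
        | add x y hx hy => rw [hx, hy, add_zero]
      rw [h0 x, h0 y]
    rw [ringKrullDim_eq_bot_of_subsingleton, ringKrullDim_eq_bot_of_subsingleton]
  obtain ⟨s, g, hinj, hfin⟩ := exists_finite_inj_algHom_of_fg k B
  let P := MvPolynomial (Fin s) k
  -- dim B = s
  have hB : ringKrullDim B = s := by
    letI : Algebra P B := g.toRingHom.toAlgebra
    haveI : Module.Finite P B := hfin
    haveI : Algebra.IsIntegral P B := Algebra.IsIntegral.of_finite P B
    rw [← Groth.Agent.Lib.helper9.IntegralDim.ringKrullDim_eq_of_isIntegral_of_injective P B hinj]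
    exact ringKrullDim_mvPolynomial_field k s
  -- dim (K ⊗ B) = s
  let T := K ⊗[k] P
  let G : T →ₐ[K] K ⊗[k] B := Algebra.TensorProduct.map (AlgHom.id K K) g
  have hGinj : Function.Injective G := by
    have h1 := Module.Flat.lTensor_preserves_injective_linearMap (M := K) g.toLinearMap hinj
    intro x y hxy
    apply h1
    have h2 : ∀ z : T, LinearMap.lTensor K g.toLinearMap z = G z := by
      intro z
      induction z using TensorProduct.induction_on with
      | zero => simp
      | tmul c p =>
        show c ⊗ₜ[k] g p = (Algebra.TensorProduct.map (AlgHom.id K K) g) (c ⊗ₜ[k] p)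
        rw [Algebra.TensorProduct.map_tmul]; rfl
      | add x y hx hy => rw [map_add, map_add, hx, hy]
    rw [h2, h2, hxy]
  have hT : ringKrullDim T = s := by
    rw [ringKrullDim_eq_of_ringEquiv (MvPolynomial.algebraTensorAlgEquiv k K).toRingEquiv]
    exact ringKrullDim_mvPolynomial_field K s
  have hKB : ringKrullDim (K ⊗[k] B) = s := by
    letI : Algebra P B := g.toRingHom.toAlgebra
    haveI : Module.Finite P B := hfin
    haveI : Algebra.IsIntegral P B := Algebra.IsIntegral.of_finite P B
    letI : Algebra T (K ⊗[k] B) := G.toRingHom.toAlgebra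
    haveI : Algebra.IsIntegral T (K ⊗[k] B) := by
      refine ⟨fun z => ?_⟩
      induction z using TensorProduct.induction_on with
      | zero => exact isIntegral_zero
      | tmul c b =>
        have h1 : c ⊗ₜ[k] b = algebraMap T (K ⊗[k] B) (c ⊗ₜ[k] (1 : P)) *
            (Algebra.TensorProduct.includeRight : B →ₐ[k] K ⊗[k] B) b := by
          show c ⊗ₜ[k] b = (Algebra.TensorProduct.map (AlgHom.id K K) g) (c ⊗ₜ[k] (1 : P)) *
            ((1 : K) ⊗ₜ[k] b)
          rw [Algebra.TensorProduct.map_tmul, map_one, Algebra.TensorProduct.tmul_mul_tmul, mul_one,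
            one_mul]
          rfl
        rw [h1]
        refine IsIntegral.mul isIntegral_algebraMap ?_
        refine IsIntegral.map_of_comp_eq
          (Algebra.TensorProduct.includeRight : P →ₐ[k] K ⊗[k] P).toRingHom
          (Algebra.TensorProduct.includeRight : B →ₐ[k] K ⊗[k] B).toRingHom ?_
          (Algebra.IsIntegral.isIntegral b)
        refine RingHom.ext fun p => ?_
        show (Algebra.TensorProduct.map (AlgHom.id K K) g) ((1 : K) ⊗ₜ[k] p) = (1 : K) ⊗ₜ[k] (g p)
        rw [Algebra.TensorProduct.map_tmul]; rfl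
      | add x y hx hy => exact hx.add hy
    rw [← Groth.Agent.Lib.helper9.IntegralDim.ringKrullDim_eq_of_isIntegral_of_injective T
      (K ⊗[k] B) hGinj]
    exact hT
  rw [hKB, hB]

/-- `dim (B ⊗_k K) = dim B` for `B` of finite type over the field `k`. -/
theorem ringKrullDim_tensorProduct_right (k K B : Type*) [Field k] [Field K] [Algebra k K]
    [CommRing B] [Algebra k B] [Algebra.FiniteType k B] :
    ringKrullDim (B ⊗[k] K) = ringKrullDim B := by
  rw [ringKrullDim_eq_of_ringEquiv (Algebra.TensorProduct.comm k B K).toRingEquiv]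
  exact ringKrullDim_tensorProduct_left k K B

section Scheme

open AlgebraicGeometry CategoryTheory Limits

theorem topologicalKrullDim_eq_krullDim (X : Scheme.{u}) :
    topologicalKrullDim X = Order.krullDim X := by
  letI := specializationOrder X
  exact Order.krullDim_eq_of_orderIso irreducibleSetEquivPoints

theorem ringKrullDim_stalk_le_topologicalKrullDim (Z : Scheme.{u}) (z : Z) :
    ringKrullDim (Z.presheaf.stalk z) ≤ topologicalKrullDim Z := by
  rw [ringKrullDim_stalk_eq_coheight, topologicalKrullDim_eq_krullDim]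
  exact Order.coheight_le_krullDim z

theorem topologicalKrullDim_eq_iSup_stalk (Z : Scheme.{u}) :
    topologicalKrullDim Z = ⨆ z : Z, ringKrullDim (Z.presheaf.stalk z) := by
  rw [topologicalKrullDim_eq_krullDim, Order.krullDim_eq_iSup_coheight]
  exact iSup_congr fun z => (ringKrullDim_stalk_eq_coheight z).symm

theorem topologicalKrullDim_Spec (R : CommRingCat.{u}) :
    topologicalKrullDim (Spec R) = ringKrullDim R :=
  PrimeSpectrum.topologicalKrullDim_eq_ringKrullDim R

/-- For an open immersion, the stalks have the same dimension. -/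
theorem ringKrullDim_stalk_of_isOpenImmersion {Y Z : Scheme.{u}} (φ : Y ⟶ Z) [IsOpenImmersion φ]
    (y : Y) : ringKrullDim (Z.presheaf.stalk (φ y)) = ringKrullDim (Y.presheaf.stalk y) :=
  ringKrullDim_eq_of_ringEquiv (asIso (φ.stalkMap y)).commRingCatIsoToRingEquiv

variable {k K : Type u} [Field k] [Field K] [Algebra k K] {X : Scheme.{u}}
  (f : X ⟶ Spec (CommRingCat.of k)) [LocallyOfFiniteType f]

/-- The chart of `X_K` over an affine open `U` of `X` has the dimension of `Γ(X, U)`. -/
theorem topologicalKrullDim_pullback_chart (U : X.Opens) (hU : IsAffineOpen U) :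
    topologicalKrullDim ↥(pullback (hU.fromSpec ≫ f)
      (Spec.map (CommRingCat.ofHom (algebraMap k K)))) = ringKrullDim Γ(X, U) := by
  obtain ⟨ψ, hψ⟩ := Spec.map_surjective (hU.fromSpec ≫ f)
  algebraize [ψ.hom]
  haveI : Algebra.FiniteType k Γ(X, U) := by
    have h1 : LocallyOfFiniteType (Spec.map ψ) := by rw [hψ]; infer_instance
    rw [HasRingHomProperty.Spec_iff (P := @LocallyOfFiniteType)] at h1
    exact h1
  let e : pullback (hU.fromSpec ≫ f) (Spec.map (CommRingCat.ofHom (algebraMap k K))) ≅
      Spec (CommRingCat.of (TensorProduct k Γ(X, U) K)) :=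
    pullback.congrHom hψ.symm rfl ≪≫ pullbackSpecIso k Γ(X, U) K
  rw [IsHomeomorph.topologicalKrullDim_eq _ e.hom.homeomorph.isHomeomorph, topologicalKrullDim_Spec]
  exact ringKrullDim_tensorProduct_right k K Γ(X, U)

/-- `dim X_K = dim X` for `X` locally of finite type over a field `k`. -/
theorem topologicalKrullDim_pullback_field :
    topologicalKrullDim ↥(pullback f (Spec.map (CommRingCat.ofHom (algebraMap k K)))) =
      topologicalKrullDim X := by
  set g := Spec.map (CommRingCat.ofHom (algebraMap k K)) with hg
  have key : ∀ (U : X.Opens) (hU : IsAffineOpen U),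
      ∃ φ : pullback (hU.fromSpec ≫ f) g ⟶ pullback f g, IsOpenImmersion φ ∧
        Set.range φ = pullback.fst f g ⁻¹' (U : Set X) := by
    intro U hU
    refine ⟨pullback.map (hU.fromSpec ≫ f) g f g hU.fromSpec (𝟙 _) (𝟙 _) (by simp) (by simp),
      inferInstance, ?_⟩
    rw [Scheme.Pullback.range_map, hU.range_fromSpec]
    simp
  apply le_antisymm
  · rw [topologicalKrullDim_eq_iSup_stalk]
    refine iSup_le fun x' => ?_
    obtain ⟨_, ⟨U, hU, rfl⟩, hxU, -⟩ := X.isBasis_affineOpens.exists_subset_of_mem_open
      (Set.mem_univ (pullback.fst f g x')) isOpen_univ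
    obtain ⟨φ, hφ, hφr⟩ := key U hU
    have hx' : x' ∈ Set.range φ := by rw [hφr]; exact hxU
    obtain ⟨p, rfl⟩ := hx'
    rw [ringKrullDim_stalk_of_isOpenImmersion φ p]
    refine (ringKrullDim_stalk_le_topologicalKrullDim _ p).trans ?_
    rw [topologicalKrullDim_pullback_chart f U hU, ← topologicalKrullDim_Spec]
    exact hU.fromSpec.isOpenEmbedding.isInducing.topologicalKrullDim_le
  · rw [topologicalKrullDim_eq_iSup_stalk X]
    refine iSup_le fun x => ?_
    obtain ⟨_, ⟨U, hU, rfl⟩, hxU, -⟩ := X.isBasis_affineOpens.exists_subset_of_mem_open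
      (Set.mem_univ x) isOpen_univ
    obtain ⟨φ, hφ, hφr⟩ := key U hU
    have hx : x ∈ Set.range hU.fromSpec := by rw [hU.range_fromSpec]; exact hxU
    obtain ⟨q, rfl⟩ := hx
    rw [ringKrullDim_stalk_of_isOpenImmersion hU.fromSpec q]
    refine (ringKrullDim_stalk_le_topologicalKrullDim _ q).trans ?_
    rw [topologicalKrullDim_Spec, ← topologicalKrullDim_pullback_chart (K := K) f U hU]
    exact φ.isOpenEmbedding.isInducing.topologicalKrullDim_le

end Scheme

end Groth.Agent.Lib.helper7.DimBC
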