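import Mathlib
import Groth.Agent.Lib.helper7.DimFT

/-!
Helper lemmas (helper7): more dimension theory of finitely generated algebras over a field
(not necessarily domains): local dimension `δ(q) = ht q + dim S/q`.
-/

set_option autoImplicit false

namespace Groth.Agent.Lib.helper7.DimFT

universe u

variable {k : Type u} [Field k]

/-- Heights do not increase when passing to a quotient. -/
theorem height_map_quotient_le {S : Type*} [CommRing S] (I q : Ideal S) [q.IsPrime] (hIq : I ≤ q) :
    (q.map (Ideal.Quotient.mk I)).height ≤ q.height := by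
  haveI : (q.map (Ideal.Quotient.mk I)).IsPrime := Ideal.isPrime_map_quotientMk_of_isPrime hIq
  let e := I.primeSpectrumQuotientOrderIsoZeroLocus
  let f : PrimeSpectrum (S ⧸ I) → PrimeSpectrum S := fun r => (e r).1
  have hf : StrictMono f := fun a b hab => e.strictMono hab
  let qb : PrimeSpectrum (S ⧸ I) := ⟨q.map (Ideal.Quotient.mk I), inferInstance⟩
  have h1 := Order.height_le_height_apply_of_strictMono f hf qb
  have h2 : f qb = ⟨q, inferInstance⟩ := by
    apply PrimeSpectrum.ext
    show (q.map (Ideal.Quotient.mk I)).comap (Ideal.Quotient.mk I) = q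
    rw [Ideal.comap_map_of_surjective _ Ideal.Quotient.mk_surjective,
      ← RingHom.ker_eq_comap_bot, Ideal.mk_ker]
    exact sup_eq_left.mpr hIq
  rw [h2, ← PrimeSpectrum.height_eq_orderHeight, ← PrimeSpectrum.height_eq_orderHeight] at h1
  exact h1

/-- A prime of finite height has its height computed in the quotient by some minimal prime. -/
theorem exists_minimalPrimes_height_le {S : Type*} [CommRing S] (q : Ideal S) [q.IsPrime]
    [q.FiniteHeight] :
    ∃ p₀ ∈ minimalPrimes S, p₀ ≤ q ∧ q.height ≤ (q.map (Ideal.Quotient.mk p₀)).height := by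
  obtain ⟨l, hl, hlen⟩ := q.exists_ltSeries_length_eq_height
  obtain ⟨p₀, hp₀, hp₀le⟩ := Ideal.exists_minimalPrimes_le (I := ⊥) (J := l.head.asIdeal) bot_le
  have hmono : ∀ i, p₀ ≤ (l i).asIdeal := fun i =>
    hp₀le.trans (l.monotone (Fin.zero_le i))
  have hp₀q : p₀ ≤ q := by
    have := hmono (Fin.last _)
    have h2 : (l (Fin.last _)).asIdeal = q := congrArg PrimeSpectrum.asIdeal hl
    rwa [h2] at this
  refine ⟨p₀, hp₀, hp₀q, ?_⟩
  haveI : (q.map (Ideal.Quotient.mk p₀)).IsPrime := Ideal.isPrime_map_quotientMk_of_isPrime hp₀q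
  let e := p₀.primeSpectrumQuotientOrderIsoZeroLocus
  let l' : LTSeries (PrimeSpectrum.zeroLocus (R := S) p₀) :=
    { length := l.length
      toFun := fun i => ⟨l i, hmono i⟩
      step := fun i => l.step i }
  let qb : PrimeSpectrum (S ⧸ p₀) := ⟨q.map (Ideal.Quotient.mk p₀), inferInstance⟩
  have heq : e qb = ⟨⟨q, inferInstance⟩, hp₀q⟩ := by
    apply Subtype.ext
    apply PrimeSpectrum.ext
    show (q.map (Ideal.Quotient.mk p₀)).comap (Ideal.Quotient.mk p₀) = q
    rw [Ideal.comap_map_of_surjective _ Ideal.Quotient.mk_surjective,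
      ← RingHom.ker_eq_comap_bot, Ideal.mk_ker]
    exact sup_eq_left.mpr hp₀q
  have hlast : l'.last ≤ e qb := by
    rw [heq]
    show l.last ≤ ⟨q, inferInstance⟩
    rw [hl]
  have h1 := Order.length_le_height hlast
  rw [Order.height_orderIso e qb] at h1
  calc q.height = (l.length : ℕ∞) := hlen.symm
    _ ≤ _ := h1
    _ = _ := (PrimeSpectrum.height_eq_orderHeight qb).symm

variable (S : Type u) [CommRing S] [Algebra k S] [Algebra.FiniteType k S]

include k in
/-- `dim S/p₀ = dim S/q + ht(q/p₀)` for primes `p₀ ≤ q` of a finite type `k`-algebra. -/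
theorem ringKrullDim_quotient_eq_add_height_map (p₀ q : Ideal S) [p₀.IsPrime] [q.IsPrime]
    (h : p₀ ≤ q) :
    ringKrullDim (S ⧸ p₀) = ringKrullDim (S ⧸ q) + (q.map (Ideal.Quotient.mk p₀)).height := by
  haveI : (q.map (Ideal.Quotient.mk p₀)).IsPrime := Ideal.isPrime_map_quotientMk_of_isPrime h
  have h1 := ringKrullDim_quotient_add_height (k := k) (S ⧸ p₀) (q.map (Ideal.Quotient.mk p₀))
  rw [ringKrullDim_eq_of_ringEquiv (DoubleQuot.quotQuotEquivQuotOfLE h)] at h1
  exact h1.symm

include k in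
theorem ringKrullDim_quotient_le_add_height (p₀ q : Ideal S) [p₀.IsPrime] [q.IsPrime]
    (h : p₀ ≤ q) :
    ringKrullDim (S ⧸ p₀) ≤ ringKrullDim (S ⧸ q) + q.height := by
  rw [ringKrullDim_quotient_eq_add_height_map (k := k) S p₀ q h]
  gcongr
  exact_mod_cast height_map_quotient_le p₀ q h

include k in
theorem exists_minimalPrimes_ringKrullDim_eq (q : Ideal S) [q.IsPrime] :
    ∃ p₀ ∈ minimalPrimes S, p₀ ≤ q ∧
      ringKrullDim (S ⧸ p₀) = ringKrullDim (S ⧸ q) + q.height := by
  haveI : IsNoetherianRing S := Algebra.FiniteType.isNoetherianRing k S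
  obtain ⟨p₀, hp₀, hle, hht⟩ := exists_minimalPrimes_height_le q
  haveI : p₀.IsPrime := hp₀.1.1
  refine ⟨p₀, hp₀, hle, ?_⟩
  rw [ringKrullDim_quotient_eq_add_height_map (k := k) S p₀ q hle]
  congr 2
  exact le_antisymm (height_map_quotient_le p₀ q hle) hht

include k in
theorem exists_isMaximal_height_ge (p₀ : Ideal S) [p₀.IsPrime] :
    ∃ m : Ideal S, m.IsMaximal ∧ p₀ ≤ m ∧ ringKrullDim (S ⧸ p₀) ≤ m.height := by
  obtain ⟨mb, hmb⟩ := Ideal.exists_maximal (S ⧸ p₀)
  have hsurj : Function.Surjective (Ideal.Quotient.mk p₀) := Ideal.Quotient.mk_surjective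
  let m := mb.comap (Ideal.Quotient.mk p₀)
  haveI hm : m.IsMaximal := Ideal.comap_isMaximal_of_surjective _ hsurj
  have hle : p₀ ≤ m := by
    conv_lhs => rw [← Ideal.mk_ker (I := p₀), RingHom.ker_eq_comap_bot]
    exact Ideal.comap_mono bot_le
  refine ⟨m, hm, hle, ?_⟩
  have h1 : m.map (Ideal.Quotient.mk p₀) = mb := Ideal.map_comap_of_surjective _ hsurj mb
  have h2 := height_of_isMaximal (k := k) (S ⧸ p₀) mb
  rw [← h2, ← h1]
  exact_mod_cast height_map_quotient_le p₀ m hle

end Groth.Agent.Lib.helper7.DimFT
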