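import Mathlib
import Groth.Prelude.Def_Curv2
import Groth.Prelude.Def_Flat
import Groth.Agent.Lib.helper7.DimSch
import Groth.Agent.Lib.helper7.DimFT2
import Groth.Agent.Lib.helper7.DimBC

/-!
Helper lemmas (helper7): local dimension of schemes locally of finite type over a field.
-/

set_option autoImplicit false

namespace Groth.Agent.Lib.helper7.DimSch

universe u

open AlgebraicGeometry CategoryTheory

theorem ringKrullDim_stalk_eq_height {X : Scheme.{u}} {U : X.Opens} (hU : IsAffineOpen U) (x : X)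
    (hx : x ∈ U) :
    ringKrullDim (X.presheaf.stalk x) =
      ((hU.primeIdealOf ⟨x, hx⟩).asIdeal.height : WithBot ℕ∞) := by
  letI := X.presheaf.algebra_section_stalk ⟨x, hx⟩
  haveI := hU.isLocalization_stalk ⟨x, hx⟩
  exact IsLocalization.AtPrime.ringKrullDim_eq_height (hU.primeIdealOf ⟨x, hx⟩).asIdeal
    (X.presheaf.stalk x)

theorem topologicalKrullDim_opens {X : Scheme.{u}} (U : X.Opens) :
    topologicalKrullDim ↥(U : Set X) = ⨆ y : U, ringKrullDim (X.presheaf.stalk y.1) := by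
  have h1 := DimBC.topologicalKrullDim_eq_iSup_stalk (U : Scheme.{u})
  refine h1.trans ?_
  refine iSup_congr fun y => ?_
  exact (DimBC.ringKrullDim_stalk_of_isOpenImmersion U.ι y).symm

theorem mem_basicOpen_iff {X : Scheme.{u}} {U : X.Opens} (hU : IsAffineOpen U) (x : X)
    (hx : x ∈ U) (g : Γ(X, U)) :
    x ∈ X.basicOpen g ↔ g ∉ (hU.primeIdealOf ⟨x, hx⟩).asIdeal := by
  rw [← ker_evaluation X hU x hx, RingHom.mem_ker, ← X.evaluation_ne_zero_iff_mem_basicOpen x hx]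

variable (k : Type u) [Field k] (X : Scheme.{u}) [X.Over (Spec (CommRingCat.of k))]
  [LocallyOfFiniteType (X ↘ Spec (CommRingCat.of k))]

/-- Chart data: `dim S/p_x = trdeg κ(x)` and `ht p_x = dim O_{X,x}`. -/
theorem chart_data {U : X.Opens} (hU : IsAffineOpen U) (x : X) (hx : x ∈ U) (a b : ℕ)
    (ha : @Algebra.trdeg k (X.residueField x) _ _ (Curv2.resAlgebra k X x) = a)
    (hb : ringKrullDim (X.presheaf.stalk x) = b) :
    ringKrullDim (Γ(X, U) ⧸ (hU.primeIdealOf ⟨x, hx⟩).asIdeal) = a ∧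
      ((hU.primeIdealOf ⟨x, hx⟩).asIdeal.height : WithBot ℕ∞) = b := by
  obtain ⟨n, h1, h2⟩ := exists_trdeg_residueField_eq k X hU x hx
  rw [h1] at ha
  have : n = a := by exact_mod_cast ha
  refine ⟨by rw [h2, this], ?_⟩
  rw [← ringKrullDim_stalk_eq_height hU x hx, hb]

/-- Upper bound: some open neighbourhood of `x` has all local rings of dimension `≤ a + b`. -/
theorem exists_open_forall_stalk_le (x : X) (a b : ℕ)
    (ha : @Algebra.trdeg k (X.residueField x) _ _ (Curv2.resAlgebra k X x) = a)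
    (hb : ringKrullDim (X.presheaf.stalk x) = b) :
    ∃ U : X.Opens, x ∈ U ∧ ∀ y ∈ U, ringKrullDim (X.presheaf.stalk y) ≤ ((a + b : ℕ) : WithBot ℕ∞) := by
  classical
  obtain ⟨_, ⟨W, hW, rfl⟩, hxW, -⟩ :=
    X.isBasis_affineOpens.exists_subset_of_mem_open (Set.mem_univ x) isOpen_univ
  have hW' : IsAffineOpen W := hW
  letI := (sectionMap k X W).toAlgebra
  haveI : Algebra.FiniteType k Γ(X, W) := sectionMap_finiteType k X hW'
  haveI : IsNoetherianRing Γ(X, W) := Algebra.FiniteType.isNoetherianRing k _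
  set p := (hW'.primeIdealOf ⟨x, hxW⟩).asIdeal with hp
  obtain ⟨hdim, hht⟩ := chart_data k X hW' x hxW a b ha hb
  have hfin : (minimalPrimes Γ(X, W)).Finite := minimalPrimes.finite_of_isNoetherianRing _
  have hchoice : ∀ p₀ : Ideal Γ(X, W), ∃ g : Γ(X, W),
      (p₀ ∈ minimalPrimes Γ(X, W) → ¬ p₀ ≤ p → g ∈ p₀ ∧ g ∉ p) := by
    intro p₀
    by_cases h : p₀ ≤ p
    · exact ⟨0, fun _ h' => (h' h).elim⟩
    · obtain ⟨g, hg1, hg2⟩ := Set.not_subset.mp h
      exact ⟨g, fun _ _ => ⟨hg1, hg2⟩⟩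
  choose gf hgf using hchoice
  let T : Finset (Ideal Γ(X, W)) := hfin.toFinset.filter (fun p₀ => ¬ p₀ ≤ p)
  let g : Γ(X, W) := ∏ p₀ ∈ T, gf p₀
  have hgp : g ∉ p := by
    intro hmem
    haveI : p.IsPrime := (hW'.primeIdealOf ⟨x, hxW⟩).isPrime
    obtain ⟨p₀, hp₀T, hp₀⟩ := Ideal.IsPrime.prod_mem_iff.mp hmem
    rw [Finset.mem_filter, Set.Finite.mem_toFinset] at hp₀T
    exact (hgf p₀ hp₀T.1 hp₀T.2).2 hp₀
  have hgT : ∀ p₀ ∈ minimalPrimes Γ(X, W), ¬ p₀ ≤ p → g ∈ p₀ := by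
    intro p₀ hp₀ hnle
    have hmem : p₀ ∈ T := by
      rw [Finset.mem_filter, Set.Finite.mem_toFinset]; exact ⟨hp₀, hnle⟩
    have : g = gf p₀ * ∏ q ∈ T.erase p₀, gf q := (Finset.mul_prod_erase T gf hmem).symm
    rw [this]
    exact Ideal.mul_mem_right _ _ (hgf p₀ hp₀ hnle).1
  refine ⟨X.basicOpen g, (mem_basicOpen_iff hW' x hxW g).mpr hgp, ?_⟩
  intro y hy
  have hyW : y ∈ W := X.basicOpen_le g hy
  have hgy : g ∉ (hW'.primeIdealOf ⟨y, hyW⟩).asIdeal := (mem_basicOpen_iff hW' y hyW g).mp hy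
  set q := (hW'.primeIdealOf ⟨y, hyW⟩).asIdeal with hq
  obtain ⟨p₀, hp₀, hp₀q, hdimq⟩ := DimFT.exists_minimalPrimes_ringKrullDim_eq (k := k) Γ(X, W) q
  haveI : p₀.IsPrime := hp₀.1.1
  have hp₀p : p₀ ≤ p := by
    by_contra hnle
    exact hgy (hp₀q (hgT p₀ hp₀ hnle))
  have h1 := DimFT.ringKrullDim_quotient_le_add_height (k := k) Γ(X, W) p₀ p hp₀p
  rw [ringKrullDim_stalk_eq_height hW' y hyW]
  have h2 : (q.height : WithBot ℕ∞) ≤ ringKrullDim (Γ(X, W) ⧸ q) + q.height :=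
    le_add_of_nonneg_left ringKrullDim_nonneg_of_nontrivial
  calc (q.height : WithBot ℕ∞) ≤ ringKrullDim (Γ(X, W) ⧸ q) + q.height := h2
    _ = ringKrullDim (Γ(X, W) ⧸ p₀) := hdimq.symm
    _ ≤ ringKrullDim (Γ(X, W) ⧸ p) + p.height := h1
    _ = ((a + b : ℕ) : WithBot ℕ∞) := by rw [hdim, hht]; push_cast; rfl

/-- Lower bound: every open neighbourhood of `x` contains a point whose local ring has dimension
`≥ a + b`. -/
theorem exists_stalk_ge (x : X) (a b : ℕ)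
    (ha : @Algebra.trdeg k (X.residueField x) _ _ (Curv2.resAlgebra k X x) = a)
    (hb : ringKrullDim (X.presheaf.stalk x) = b) (U : X.Opens) (hxU : x ∈ U) :
    ∃ y ∈ U, ((a + b : ℕ) : WithBot ℕ∞) ≤ ringKrullDim (X.presheaf.stalk y) := by
  obtain ⟨_, ⟨W, hW, rfl⟩, hxW, hWU⟩ :=
    X.isBasis_affineOpens.exists_subset_of_mem_open hxU U.isOpen
  have hW' : IsAffineOpen W := hW
  letI := (sectionMap k X W).toAlgebra
  haveI : Algebra.FiniteType k Γ(X, W) := sectionMap_finiteType k X hW'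
  set p := (hW'.primeIdealOf ⟨x, hxW⟩).asIdeal with hp
  obtain ⟨hdim, hht⟩ := chart_data k X hW' x hxW a b ha hb
  obtain ⟨p₀, hp₀, hp₀p, hdimp⟩ := DimFT.exists_minimalPrimes_ringKrullDim_eq (k := k) Γ(X, W) p
  haveI : p₀.IsPrime := hp₀.1.1
  obtain ⟨m, hm, hp₀m, hmh⟩ := DimFT.exists_isMaximal_height_ge (k := k) Γ(X, W) p₀
  obtain ⟨y, hy⟩ := exists_primeIdealOf_eq hW' ⟨m, hm.isPrime⟩
  refine ⟨y.1, hWU y.2, ?_⟩
  rw [ringKrullDim_stalk_eq_height hW' y.1 y.2, hy]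
  refine le_trans ?_ hmh
  rw [hdimp, hdim, hht]
  push_cast
  rfl

/-- The local dimension at `x` is `trdeg κ(x) + dim O_{X,x}`. -/
theorem localDim_eq (x : X) (a b : ℕ)
    (ha : @Algebra.trdeg k (X.residueField x) _ _ (Curv2.resAlgebra k X x) = a)
    (hb : ringKrullDim (X.presheaf.stalk x) = b) :
    FlatMor.localDim X x = ((a + b : ℕ) : WithBot ℕ∞) := by
  unfold FlatMor.localDim
  apply le_antisymm
  · obtain ⟨U, hxU, hU⟩ := exists_open_forall_stalk_le k X x a b ha hb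
    refine iInf_le_of_le ⟨U, hxU⟩ ?_
    rw [topologicalKrullDim_opens]
    exact iSup_le fun y => hU y.1 y.2
  · refine le_iInf fun ⟨U, hxU⟩ => ?_
    obtain ⟨y, hyU, hy⟩ := exists_stalk_ge k X x a b ha hb U hxU
    rw [topologicalKrullDim_opens]
    exact le_trans hy (le_iSup (fun y : U => ringKrullDim (X.presheaf.stalk y.1)) ⟨y, hyU⟩)

end Groth.Agent.Lib.helper7.DimSch
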