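import Mathlib

/-!
# The local ring of a fibre (helper7)

`ker_stalkMap_fiberι`: for `f : X ⟶ S`, `s : S`, `y : f.fiber s` with image `x` in `X`, the kernel
of `𝒪_{X,x} → 𝒪_{X_s,y}` is `𝔪_{S,f x} 𝒪_{X,x}`.
-/

open AlgebraicGeometry CategoryTheory Limits IsLocalRing

universe u

namespace Groth.Agent.Lib.helper7.FibStalk

/-- The stalks of the spectrum of a "field" have zero maximal ideal. -/
theorem eq_zero_of_mem_maximalIdeal_stalk (K : CommRingCat.{u}) (hK : ∀ k : K, k = 0 ∨ IsUnit k)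
    (pt : Spec K) (z : (Spec K).presheaf.stalk pt)
    (hz : z ∈ maximalIdeal ((Spec K).presheaf.stalk pt)) : z = 0 := by
  letI alg : Algebra K ((Spec K).presheaf.stalk pt) := StructureSheaf.stalkAlgebra K pt
  haveI : IsLocalization.AtPrime ((Spec K).presheaf.stalk pt) pt.asIdeal :=
    StructureSheaf.IsLocalization.to_stalk K pt
  obtain ⟨k, σ, rfl⟩ := IsLocalization.exists_mk'_eq pt.asIdeal.primeCompl z
  have hz' : k ∈ pt.asIdeal :=
    (IsLocalization.AtPrime.mk'_mem_maximal_iff ((Spec K).presheaf.stalk pt) pt.asIdeal k σ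
      inferInstance).1 hz
  rcases hK k with rfl | hu
  · exact IsLocalization.mk'_zero _
  · exact absurd (pt.asIdeal.eq_top_of_isUnit_mem hz' hu) pt.2.ne_top

variable {X S : Scheme.{u}} (f : X ⟶ S) (s : S) (y : f.fiber s)

theorem apply_fiberι : f (f.fiberι s y) = s :=
  (f.range_fiberι s).le (Set.mem_range_self y)

/-- `𝔪_s 𝒪_{X,x}` is killed in the local ring of the fibre. -/
theorem map_le_ker :
    Ideal.map (f.stalkMap (f.fiberι s y)).hom
      (maximalIdeal (S.presheaf.stalk (f (f.fiberι s y)))) ≤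
      RingHom.ker ((f.fiberι s).stalkMap y).hom := by
  rw [Ideal.map_le_iff_le_comap]
  intro a ha
  rw [Ideal.mem_comap, RingHom.mem_ker]
  have h1 : (f.fiberι s ≫ f).stalkMap y =
      f.stalkMap (f.fiberι s y) ≫ (f.fiberι s).stalkMap y := Scheme.Hom.stalkMap_comp _ _ _
  have h2 := Scheme.Hom.stalkMap_congr_hom _ _ (f.fiber_fac s) y
  have h3 : (f.fiberToSpecResidueField s ≫ S.fromSpecResidueField s).stalkMap y =
      (S.fromSpecResidueField s).stalkMap (f.fiberToSpecResidueField s y) ≫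
        (f.fiberToSpecResidueField s).stalkMap y := Scheme.Hom.stalkMap_comp _ _ _
  show (f.stalkMap (f.fiberι s y) ≫ (f.fiberι s).stalkMap y).hom a = 0
  rw [← h1, h2, h3]
  set c := S.presheaf.stalkCongr
    (.of_eq (show (f.fiberι s ≫ f) y =
      (f.fiberToSpecResidueField s ≫ S.fromSpecResidueField s) y from f.fiber_fac s ▸ rfl)) with hc
  haveI : IsLocalHom c.hom.hom := isLocalHom_of_iso c
  have h4 : c.hom.hom a ∈ maximalIdeal _ := map_nonunit c.hom.hom a ha
  have h5 := map_nonunit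
    ((S.fromSpecResidueField s).stalkMap (f.fiberToSpecResidueField s y)).hom _ h4
  have h6 := eq_zero_of_mem_maximalIdeal_stalk (S.residueField s)
    (fun k => (em (k = 0)).imp id (fun h => IsUnit.mk0 k h)) _ _ h5
  show ((f.fiberToSpecResidueField s).stalkMap y).hom
    (((S.fromSpecResidueField s).stalkMap (f.fiberToSpecResidueField s y)).hom (c.hom.hom a)) = 0
  rw [h6, map_zero]

/-- Two local presentations of the same morphism `Spec D ⟶ X` agree on germs. -/
theorem germ_eq_of_fromSpecStalk_eq {X : Scheme.{u}} {D : CommRingCat.{u}} {x x' : X} (e : x' = x)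
    (α : X.presheaf.stalk x ⟶ D) (α' : X.presheaf.stalk x' ⟶ D)
    (h : Spec.map α ≫ X.fromSpecStalk x = Spec.map α' ≫ X.fromSpecStalk x')
    (U : X.Opens) (hx : x ∈ U) (β : Γ(X, U)) :
    α (X.presheaf.germ U x hx β) = α' (X.presheaf.germ U x' (e ▸ hx) β) := by
  subst e
  have h1 : Spec.map α = Spec.map α' := (cancel_mono (X.fromSpecStalk x')).1 h
  rw [Spec.map_injective h1]

/-- The kernel of `𝒪_{X,x} → 𝒪_{X_s,y}` is contained in `𝔪_s 𝒪_{X,x}`. -/
theorem ker_le_map :
    RingHom.ker ((f.fiberι s).stalkMap y).hom ≤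
      Ideal.map (f.stalkMap (f.fiberι s y)).hom
        (maximalIdeal (S.presheaf.stalk (f (f.fiberι s y)))) := by
  set x := f.fiberι s y with hx
  set φ := (f.stalkMap x).hom with hφ
  set I : Ideal (X.presheaf.stalk x) := Ideal.map φ (maximalIdeal (S.presheaf.stalk (f x))) with hI
  have hIle : I ≤ maximalIdeal (X.presheaf.stalk x) := by
    rw [hI, Ideal.map_le_iff_le_comap]
    intro a ha
    exact map_nonunit φ a ha
  haveI : Nontrivial (X.presheaf.stalk x ⧸ I) :=
    Ideal.Quotient.nontrivial_iff.2 (fun h =>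
      (maximalIdeal.isMaximal (X.presheaf.stalk x)).ne_top (top_le_iff.1 (h ▸ hIle)))
  haveI : IsLocalRing (X.presheaf.stalk x ⧸ I) :=
    IsLocalRing.of_surjective' (Ideal.Quotient.mk I) Ideal.Quotient.mk_surjective
  let D : CommRingCat.{u} := CommRingCat.of (X.presheaf.stalk x ⧸ I)
  haveI : IsLocalRing D := inferInstanceAs (IsLocalRing (X.presheaf.stalk x ⧸ I))
  let π : X.presheaf.stalk x ⟶ D := CommRingCat.ofHom (Ideal.Quotient.mk I)
  haveI : IsLocalHom π.hom :=
    IsLocalHom.of_surjective (Ideal.Quotient.mk I) Ideal.Quotient.mk_surjective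
  let ρ0 : S.residueField (f x) ⟶ D :=
    CommRingCat.ofHom (Ideal.Quotient.lift (maximalIdeal (S.presheaf.stalk (f x)))
      ((Ideal.Quotient.mk I).comp φ)
      (fun a ha => Ideal.Quotient.eq_zero_iff_mem.2 (Ideal.mem_map_of_mem _ ha)))
  have hρ0 : S.residue (f x) ≫ ρ0 = f.stalkMap x ≫ π := by
    ext a
    rfl
  have hs : f x = s := apply_fiberι f s y
  let ρ : S.residueField s ⟶ D := (S.residueFieldCongr hs).inv ≫ ρ0
  have hcomm : (Spec.map π ≫ X.fromSpecStalk x) ≫ f = Spec.map ρ ≫ S.fromSpecResidueField s := by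
    rw [Category.assoc, ← Scheme.SpecMap_stalkMap_fromSpecStalk, ← Spec.map_comp_assoc, ← hρ0,
      Spec.map_comp_assoc]
    show Spec.map ρ0 ≫ S.fromSpecResidueField (f x) = _
    rw [← Scheme.residueFieldCongr_fromSpecResidueField hs, ← Spec.map_comp_assoc]
    congr 2
    show ρ0 = (Scheme.residueFieldCongr hs).hom ≫ (S.residueFieldCongr hs).inv ≫ ρ0
    rw [Iso.hom_inv_id_assoc]
  let h : Spec D ⟶ f.fiber s :=
    pullback.lift (Spec.map π ≫ X.fromSpecStalk x) (Spec.map ρ) hcomm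
  have hfst : h ≫ f.fiberι s = Spec.map π ≫ X.fromSpecStalk x := pullback.lift_fst _ _ _
  set y' := h (closedPoint D) with hy'
  have hxy' : f.fiberι s y' = x := by
    rw [hy', ← Scheme.Hom.comp_apply, hfst, Scheme.Hom.comp_apply, Spec_closedPoint,
      Scheme.fromSpecStalk_closedPoint]
  have hyy' : y' = y := (f.fiberι s).isEmbedding.injective hxy'
  let τ := Scheme.stalkClosedPointTo h
  have hτ : Spec.map τ ≫ (f.fiber s).fromSpecStalk y' = h :=
    Scheme.Spec_stalkClosedPointTo_fromSpecStalk h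
  have heq : Spec.map π ≫ X.fromSpecStalk x =
      Spec.map ((f.fiberι s).stalkMap y' ≫ τ) ≫ X.fromSpecStalk (f.fiberι s y') := by
    rw [← hfst]
    conv_lhs => rw [← hτ]
    rw [Category.assoc, ← Scheme.SpecMap_stalkMap_fromSpecStalk, ← Spec.map_comp_assoc]
  intro b hb
  rw [RingHom.mem_ker] at hb
  obtain ⟨U, hxU, β, rfl⟩ := X.presheaf.exists_germ_eq b
  have h1 := germ_eq_of_fromSpecStalk_eq hxy' π ((f.fiberι s).stalkMap y' ≫ τ) heq U hxU β
  rw [CommRingCat.comp_apply, Scheme.Hom.germ_stalkMap_apply] at h1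
  have hb' : (f.fiber s).presheaf.germ ((f.fiberι s) ⁻¹ᵁ U) y hxU ((f.fiberι s).app U β) = 0 := by
    rw [← Scheme.Hom.germ_stalkMap_apply]
    exact hb
  have h2 : ∀ (y'' : f.fiber s) (e : y'' = y) (hV : y'' ∈ (f.fiberι s) ⁻¹ᵁ U),
      (f.fiber s).presheaf.germ ((f.fiberι s) ⁻¹ᵁ U) y'' hV ((f.fiberι s).app U β) = 0 := by
    rintro _ rfl _
    exact hb'
  rw [h2 y' hyy', map_zero] at h1
  exact Ideal.Quotient.eq_zero_iff_mem.1 h1

/-- The kernel of `𝒪_{X,x} → 𝒪_{X_s,y}` is `𝔪_s 𝒪_{X,x}`. -/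
theorem ker_stalkMap_fiberι :
    RingHom.ker ((f.fiberι s).stalkMap y).hom =
      Ideal.map (f.stalkMap (f.fiberι s y)).hom
        (maximalIdeal (S.presheaf.stalk (f (f.fiberι s y)))) :=
  le_antisymm (ker_le_map f s y) (map_le_ker f s y)

end Groth.Agent.Lib.helper7.FibStalk
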