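import Mathlib
import Groth.Agent.Lib.helper7.FibStalk

/-!
# Dimension inequality for local rings of fibres (helper7)

`ringKrullDim_stalk_le_add`: `dim 𝒪_{X,x} ≤ dim 𝒪_{Y,f x} + dim 𝒪_{X_{f x},x}`.
-/

open AlgebraicGeometry CategoryTheory Limits IsLocalRing

universe u

namespace Groth.Agent.Lib.helper7.FibDim

/-- The local ring of the fibre is `𝒪_{X,x} / 𝔪_y 𝒪_{X,x}`. -/
noncomputable def fiberStalkEquiv {X Y : Scheme.{u}} (f : X ⟶ Y) (s : Y) (y : f.fiber s) :
    (X.presheaf.stalk (f.fiberι s y) ⧸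
      Ideal.map (f.stalkMap (f.fiberι s y)).hom
        (maximalIdeal (Y.presheaf.stalk (f (f.fiberι s y))))) ≃+*
      (f.fiber s).presheaf.stalk y :=
  (Ideal.quotEquivOfEq (Groth.Agent.Lib.helper7.FibStalk.ker_stalkMap_fiberι f s y).symm).trans
    (RingHom.quotientKerEquivOfSurjective ((f.fiberι s).stalkMap_surjective y))

theorem ringKrullDim_stalk_le_add {X Y : Scheme.{u}} (f : X ⟶ Y) (s : Y) (y : f.fiber s)
    [IsNoetherianRing (X.presheaf.stalk (f.fiberι s y))]
    [IsNoetherianRing (Y.presheaf.stalk (f (f.fiberι s y)))] :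
    ringKrullDim (X.presheaf.stalk (f.fiberι s y)) ≤
      ringKrullDim (Y.presheaf.stalk (f (f.fiberι s y))) +
        ringKrullDim ((f.fiber s).presheaf.stalk y) := by
  set x := f.fiberι s y with hx
  algebraize [(f.stalkMap x).hom]
  haveI : (maximalIdeal (X.presheaf.stalk x)).LiesOver
      (maximalIdeal (Y.presheaf.stalk (f x))) := by
    refine ⟨?_⟩
    rw [Ideal.under_def]
    have hloc : IsLocalHom (algebraMap (Y.presheaf.stalk (f x)) (X.presheaf.stalk x)) :=
      inferInstanceAs (IsLocalHom (f.stalkMap x).hom)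
    have h4 : (maximalIdeal (X.presheaf.stalk x)).comap
        (algebraMap (Y.presheaf.stalk (f x)) (X.presheaf.stalk x)) =
        maximalIdeal (Y.presheaf.stalk (f x)) :=
      ((IsLocalRing.local_hom_TFAE
        (algebraMap (Y.presheaf.stalk (f x)) (X.presheaf.stalk x))).out 0 4).1 hloc
    exact h4.symm
  have h := Ideal.height_le_height_add_of_liesOver (maximalIdeal (Y.presheaf.stalk (f x)))
    (maximalIdeal (X.presheaf.stalk x))
  have h1 : ((maximalIdeal (X.presheaf.stalk x)).height : WithBot ℕ∞) ≤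
      ((maximalIdeal (Y.presheaf.stalk (f x))).height : WithBot ℕ∞) +
        (((maximalIdeal (X.presheaf.stalk x)).map
          (Ideal.Quotient.mk ((maximalIdeal (Y.presheaf.stalk (f x))).map
            (algebraMap (Y.presheaf.stalk (f x)) (X.presheaf.stalk x))))).height : WithBot ℕ∞) := by
    rw [← WithBot.coe_add]
    exact WithBot.coe_le_coe.2 h
  rw [IsLocalRing.maximalIdeal_height_eq_ringKrullDim,
    IsLocalRing.maximalIdeal_height_eq_ringKrullDim] at h1
  refine h1.trans (add_le_add le_rfl ?_)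
  have hne : (maximalIdeal (X.presheaf.stalk x)).map
      (Ideal.Quotient.mk ((maximalIdeal (Y.presheaf.stalk (f x))).map
        (algebraMap (Y.presheaf.stalk (f x)) (X.presheaf.stalk x)))) ≠ ⊤ := by
    intro htop
    have h2 := congrArg (Ideal.comap (Ideal.Quotient.mk ((maximalIdeal
      (Y.presheaf.stalk (f x))).map (algebraMap (Y.presheaf.stalk (f x)) (X.presheaf.stalk x)))))
      htop
    rw [Ideal.comap_map_of_surjective _ Ideal.Quotient.mk_surjective, Ideal.comap_top,
      ← RingHom.ker_eq_comap_bot, Ideal.mk_ker] at h2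
    have hle : (maximalIdeal (Y.presheaf.stalk (f x))).map
        (algebraMap (Y.presheaf.stalk (f x)) (X.presheaf.stalk x)) ≤
        maximalIdeal (X.presheaf.stalk x) := by
      rw [Ideal.map_le_iff_le_comap]
      intro a ha
      exact map_nonunit (f.stalkMap x).hom a ha
    rw [sup_eq_left.2 hle] at h2
    exact (maximalIdeal.isMaximal (X.presheaf.stalk x)).ne_top h2
  refine (Ideal.height_le_ringKrullDim_of_ne_top hne).trans ?_
  exact (ringKrullDim_eq_of_ringEquiv (fiberStalkEquiv f s y)).le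

/-- Pointwise form at `x : X`. -/
theorem ringKrullDim_stalk_le_add' {X Y : Scheme.{u}} (f : X ⟶ Y) (x : X)
    [IsLocallyNoetherian X] [IsLocallyNoetherian Y] :
    ringKrullDim (X.presheaf.stalk x) ≤
      ringKrullDim (Y.presheaf.stalk (f x)) +
        ringKrullDim ((f.fiber (f x)).presheaf.stalk (f.asFiber x)) := by
  have h := ringKrullDim_stalk_le_add f (f x) (f.asFiber x)
  have hx : f.fiberι (f x) (f.asFiber x) = x := f.fiberι_asFiber x
  have h2 : ∀ (x' : X) (e : x' = x), ringKrullDim (X.presheaf.stalk x') =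
      ringKrullDim (X.presheaf.stalk x) ∧ ringKrullDim (Y.presheaf.stalk (f x')) =
      ringKrullDim (Y.presheaf.stalk (f x)) := by
    rintro _ rfl; exact ⟨rfl, rfl⟩
  rw [(h2 _ hx).1, (h2 _ hx).2] at h
  exact h

end Groth.Agent.Lib.helper7.FibDim
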