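import Mathlib
import Groth.Agent.Lib.helper7.GeomRed2

/-! Stalks of base changes via `Spec 𝒪_{X,x}` (helper7). -/

universe u

open AlgebraicGeometry CategoryTheory Limits TensorProduct

namespace Groth.Agent.Lib.helper7.StalkBC

/-- `Spec 𝒪_{X,x} ⟶ X` is flat. -/
theorem flat_fromSpecStalk (X : Scheme.{u}) (x : X) : Flat (X.fromSpecStalk x) := by
  obtain ⟨_, ⟨U, hU, rfl⟩, hxU, -⟩ :=
    X.isBasis_affineOpens.exists_subset_of_mem_open (Set.mem_univ x) isOpen_univ
  rw [← hU.fromSpecStalk_eq_fromSpecStalk hxU, IsAffineOpen.fromSpecStalk]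
  haveI : Flat (Spec.map (X.presheaf.germ U x hxU)) := by
    rw [HasRingHomProperty.Spec_iff (P := @Flat)]
    letI := TopCat.Presheaf.algebra_section_stalk X.presheaf ⟨x, hxU⟩
    haveI := hU.isLocalization_stalk ⟨x, hxU⟩
    exact RingHom.flat_algebraMap_iff.mpr
      (IsLocalization.flat _ (hU.primeIdealOf ⟨x, hxU⟩).asIdeal.primeCompl)
  infer_instance

/-- A flat preimmersion induces isomorphisms on stalks. -/
theorem bijective_stalkMap {Z W : Scheme.{u}} (g : Z ⟶ W) [Flat g] [IsPreimmersion g] (z : Z) :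
    Function.Bijective (g.stalkMap z) := by
  refine ⟨?_, g.stalkMap_surjective z⟩
  algebraize [(g.stalkMap z).hom]
  have : Module.FaithfullyFlat (W.presheaf.stalk (g z)) (Z.presheaf.stalk z) :=
    @Module.FaithfullyFlat.of_flat_of_isLocalHom _ _ _ _ _ _ _
      (Flat.stalkMap g z) (g.toLRSHom.prop z)
  exact ‹RingHom.FaithfullyFlat _›.injective


/-- The structure map of `Spec 𝒪_{X,x}` over `Spec k`. -/
theorem fromSpecStalk_comp {k : Type u} [CommRing k] {X : Scheme.{u}}
    (s : X ⟶ Spec (CommRingCat.of k)) (x : X) :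
    X.fromSpecStalk x ≫ s = Spec.map (CommRingCat.ofHom ((X.presheaf.germ ⊤ x trivial).hom.comp
      (s.appTop.hom.comp (Scheme.ΓSpecIso (CommRingCat.of k)).inv.hom))) := by
  have h1 : s = X.toSpecΓ ≫ Spec.map ((Scheme.ΓSpecIso (CommRingCat.of k)).inv ≫ s.appTop) := by
    rw [Spec.map_comp, ← Scheme.toSpecΓ_naturality_assoc, ← SpecMap_ΓSpecIso_hom,
      ← Spec.map_comp, Iso.inv_hom_id, Spec.map_id, Category.comp_id]
  conv_lhs => rw [h1]
  rw [Scheme.fromSpecStalk_toSpecΓ_assoc, ← Spec.map_comp]
  rfl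

section F1

variable {k : Type u} [Field k] {X : Scheme.{u}} (s : X ⟶ Spec (CommRingCat.of k)) (x : X)
  [Algebra k (X.presheaf.stalk x)]
  (hφ : Spec.map (CommRingCat.ofHom (algebraMap k (X.presheaf.stalk x))) = X.fromSpecStalk x ≫ s)

include hφ in
/-- If `𝒪_{X,x}` is geometrically reduced over `k` and `Y` is a reduced `k`-scheme, the local rings
of `X ×_k Y` at points over `x` are reduced. -/
theorem isReduced_stalk_pullback [Algebra.IsGeometricallyReduced k (X.presheaf.stalk x)]
    {Y : Scheme.{u}} (g : Y ⟶ Spec (CommRingCat.of k)) [AlgebraicGeometry.IsReduced Y]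
    (z : ↥(pullback s g)) (hz : pullback.fst s g z = x) :
    _root_.IsReduced ((pullback s g).presheaf.stalk z) := by
  let j := X.fromSpecStalk x
  haveI : Flat j := flat_fromSpecStalk X x
  let p2 := pullback.snd j (pullback.fst s g)
  have hred0 : AlgebraicGeometry.IsReduced
      (pullback g (Spec.map (CommRingCat.ofHom (algebraMap k (X.presheaf.stalk x))))) :=
    GeomRed2.isReduced_pullback_of_isGeometricallyReduced (X.presheaf.stalk x) g
  let e : pullback j (pullback.fst s g) ≅
      pullback g (Spec.map (CommRingCat.ofHom (algebraMap k (X.presheaf.stalk x)))) :=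
    pullbackRightPullbackFstIso s g j ≪≫ pullback.congrHom hφ.symm rfl ≪≫ pullbackSymmetry _ _
  haveI : AlgebraicGeometry.IsReduced (pullback j (pullback.fst s g)) :=
    isReduced_of_isOpenImmersion e.hom
  have hcl : j (IsLocalRing.closedPoint (X.presheaf.stalk x)) = pullback.fst s g z := by
    rw [hz]; exact Scheme.fromSpecStalk_closedPoint
  obtain ⟨t, -, ht⟩ := Scheme.Pullback.exists_preimage_pullback _ _ hcl
  have hbij := bijective_stalkMap p2 t
  have : _root_.IsReduced ((pullback s g).presheaf.stalk (p2 t)) :=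
    isReduced_of_injective (p2.stalkMap t).hom hbij.1
  have ht' : p2 t = z := ht
  rw [← ht']
  exact this


include hφ in
/-- Variant of `isReduced_stalk_pullback` for points over generizations of `x`. -/
theorem isReduced_stalk_pullback_of_specializes
    [Algebra.IsGeometricallyReduced k (X.presheaf.stalk x)]
    {Y : Scheme.{u}} (g : Y ⟶ Spec (CommRingCat.of k)) [AlgebraicGeometry.IsReduced Y]
    (z : ↥(pullback s g)) (hz : pullback.fst s g z ⤳ x) :
    _root_.IsReduced ((pullback s g).presheaf.stalk z) := by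
  let j := X.fromSpecStalk x
  haveI : Flat j := flat_fromSpecStalk X x
  let p2 := pullback.snd j (pullback.fst s g)
  have hred0 : AlgebraicGeometry.IsReduced
      (pullback g (Spec.map (CommRingCat.ofHom (algebraMap k (X.presheaf.stalk x))))) :=
    GeomRed2.isReduced_pullback_of_isGeometricallyReduced (X.presheaf.stalk x) g
  let e : pullback j (pullback.fst s g) ≅
      pullback g (Spec.map (CommRingCat.ofHom (algebraMap k (X.presheaf.stalk x)))) :=
    pullbackRightPullbackFstIso s g j ≪≫ pullback.congrHom hφ.symm rfl ≪≫ pullbackSymmetry _ _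
  haveI : AlgebraicGeometry.IsReduced (pullback j (pullback.fst s g)) :=
    isReduced_of_isOpenImmersion e.hom
  have hmem : pullback.fst s g z ∈ Set.range j := by
    rw [Scheme.range_fromSpecStalk]; exact hz
  obtain ⟨t₀, ht₀⟩ := hmem
  obtain ⟨t, -, ht⟩ := Scheme.Pullback.exists_preimage_pullback _ _ ht₀
  have hbij := bijective_stalkMap p2 t
  have : _root_.IsReduced ((pullback s g).presheaf.stalk (p2 t)) :=
    isReduced_of_injective (p2.stalkMap t).hom hbij.1
  have ht' : p2 t = z := ht
  rw [← ht']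
  exact this

end F1


section F2

variable {k : Type u} [Field k] {X : Scheme.{u}} (s : X ⟶ Spec (CommRingCat.of k)) (x : X)
  [Algebra k (X.presheaf.stalk x)]
  (hφ : Spec.map (CommRingCat.ofHom (algebraMap k (X.presheaf.stalk x))) = X.fromSpecStalk x ≫ s)

include hφ in
/-- If `K/k` is algebraic and all local rings of `X_K` at points over `x` are reduced, then
`𝒪_{X,x} ⊗_k K` is reduced. -/
theorem isReduced_tensorProduct_of_stalks (K : Type u) [Field K] [Algebra k K]
    [Algebra.IsAlgebraic k K]
    (H : ∀ x' : ↥(pullback s (Spec.map (CommRingCat.ofHom (algebraMap k K)))),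
      pullback.fst s (Spec.map (CommRingCat.ofHom (algebraMap k K))) x' = x →
      _root_.IsReduced ((pullback s (Spec.map (CommRingCat.ofHom (algebraMap k K)))).presheaf.stalk x')) :
    _root_.IsReduced ((X.presheaf.stalk x) ⊗[k] K) := by
  let O := X.presheaf.stalk x
  let q := Spec.map (CommRingCat.ofHom (algebraMap k K))
  let j := X.fromSpecStalk x
  haveI : Flat j := flat_fromSpecStalk X x
  let P := pullback j (pullback.fst s q)
  let p2 : P ⟶ pullback s q := pullback.snd j (pullback.fst s q)
  let E : P ≅ Spec (CommRingCat.of (O ⊗[k] K)) :=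
    pullbackRightPullbackFstIso s q j ≪≫ pullback.congrHom hφ.symm rfl ≪≫ pullbackSpecIso k O K
  have hE : E.inv ≫ pullback.fst j (pullback.fst s q) =
      Spec.map (CommRingCat.ofHom (algebraMap O (O ⊗[k] K))) := by
    simp only [E, Iso.trans_inv, Category.assoc, pullbackRightPullbackFstIso_inv_fst,
      pullback.congrHom_inv]
    erw [pullback.lift_fst]
    rw [Category.comp_id]
    exact pullbackSpecIso_inv_fst' k O K
  haveI : Algebra.IsIntegral k K := Algebra.IsAlgebraic.isIntegral
  haveI : Algebra.IsIntegral O (O ⊗[k] K) := Algebra.IsIntegral.tensorProduct k O K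
  apply isReduced_ofLocalizationMaximal
  intro Q hQ
  let Qp : Spec (CommRingCat.of (O ⊗[k] K)) := ⟨Q, hQ.isPrime⟩
  let t : P := E.inv Qp
  have hfst : pullback.fst j (pullback.fst s q) t = IsLocalRing.closedPoint O := by
    show pullback.fst j (pullback.fst s q) (E.inv Qp) = _
    rw [← Scheme.Hom.comp_apply, hE]
    have hmax : (Q.comap (algebraMap O (O ⊗[k] K))).IsMaximal :=
      Ideal.isMaximal_comap_of_isIntegral_of_isMaximal Q
    apply PrimeSpectrum.ext
    show Q.comap (algebraMap O (O ⊗[k] K)) = IsLocalRing.maximalIdeal O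
    exact IsLocalRing.eq_maximalIdeal hmax
  have hx' : pullback.fst s q (p2 t) = x := by
    rw [← Scheme.Hom.comp_apply]
    show (pullback.snd j (pullback.fst s q) ≫ pullback.fst s q) t = x
    rw [← pullback.condition, Scheme.Hom.comp_apply, hfst]
    exact Scheme.fromSpecStalk_closedPoint
  have hred1 := H (p2 t) hx'
  have hbij := bijective_stalkMap p2 t
  let e1 : (pullback s q).presheaf.stalk (p2 t) ≃+* P.presheaf.stalk t :=
    RingEquiv.ofBijective (p2.stalkMap t).hom hbij
  have hred2 : _root_.IsReduced (P.presheaf.stalk t) :=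
    isReduced_of_injective e1.symm.toRingHom e1.symm.injective
  have hEt : E.hom t = Qp := by
    show E.hom (E.inv Qp) = Qp
    rw [← Scheme.Hom.comp_apply, E.inv_hom_id]; rfl
  have hred3 : _root_.IsReduced ((Spec (CommRingCat.of (O ⊗[k] K))).presheaf.stalk (E.hom t)) :=
    isReduced_of_injective (E.hom.stalkMap t).hom
      (ConcreteCategory.bijective_of_isIso (E.hom.stalkMap t)).1
  rw [hEt] at hred3
  letI alg : Algebra (O ⊗[k] K) ((Spec (CommRingCat.of (O ⊗[k] K))).presheaf.stalk Qp) :=
    StructureSheaf.stalkAlgebra (O ⊗[k] K) Qp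
  haveI : IsLocalization.AtPrime ((Spec (CommRingCat.of (O ⊗[k] K))).presheaf.stalk Qp) Q :=
    StructureSheaf.IsLocalization.to_stalk (O ⊗[k] K) Qp
  exact isReduced_of_injective
    (IsLocalization.algEquiv Q.primeCompl (Localization.AtPrime Q)
      ((Spec (CommRingCat.of (O ⊗[k] K))).presheaf.stalk Qp)).toRingEquiv.toRingHom
    (AlgEquiv.injective _)


include hφ in
/-- The local ring of `X_K` at a point over a generization of `x` is a localization of
`𝒪_{X,x} ⊗_k K` at a prime. -/
theorem exists_equiv_localization (K : Type u) [Field K] [Algebra k K]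
    (z : ↥(pullback s (Spec.map (CommRingCat.ofHom (algebraMap k K)))))
    (hz : pullback.fst s (Spec.map (CommRingCat.ofHom (algebraMap k K))) z ⤳ x) :
    ∃ (Q : Ideal ((X.presheaf.stalk x) ⊗[k] K)) (_ : Q.IsPrime),
      Nonempty (((pullback s (Spec.map (CommRingCat.ofHom (algebraMap k K)))).presheaf.stalk z) ≃+*
        Localization.AtPrime Q) := by
  let O := X.presheaf.stalk x
  let q := Spec.map (CommRingCat.ofHom (algebraMap k K))
  let j := X.fromSpecStalk x
  haveI : Flat j := flat_fromSpecStalk X x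
  let P := pullback j (pullback.fst s q)
  let p2 : P ⟶ pullback s q := pullback.snd j (pullback.fst s q)
  let E : P ≅ Spec (CommRingCat.of (O ⊗[k] K)) :=
    pullbackRightPullbackFstIso s q j ≪≫ pullback.congrHom hφ.symm rfl ≪≫ pullbackSpecIso k O K
  have hmem : pullback.fst s q z ∈ Set.range j := by
    rw [Scheme.range_fromSpecStalk]; exact hz
  obtain ⟨t₀, ht₀⟩ := hmem
  obtain ⟨t, -, ht⟩ := Scheme.Pullback.exists_preimage_pullback _ _ ht₀
  have ht' : p2 t = z := ht
  subst ht'
  have hbij := bijective_stalkMap p2 t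
  let e1 : (pullback s q).presheaf.stalk (p2 t) ≃+* P.presheaf.stalk t :=
    RingEquiv.ofBijective (p2.stalkMap t).hom hbij
  let Qp : Spec (CommRingCat.of (O ⊗[k] K)) := E.hom t
  let e2 : (Spec (CommRingCat.of (O ⊗[k] K))).presheaf.stalk Qp ≃+* P.presheaf.stalk t :=
    RingEquiv.ofBijective (E.hom.stalkMap t).hom
      (ConcreteCategory.bijective_of_isIso (E.hom.stalkMap t))
  letI alg : Algebra (O ⊗[k] K) ((Spec (CommRingCat.of (O ⊗[k] K))).presheaf.stalk Qp) :=
    StructureSheaf.stalkAlgebra (O ⊗[k] K) Qp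
  haveI : IsLocalization.AtPrime ((Spec (CommRingCat.of (O ⊗[k] K))).presheaf.stalk Qp)
      Qp.asIdeal :=
    StructureSheaf.IsLocalization.to_stalk (O ⊗[k] K) Qp
  let e3 : Localization.AtPrime Qp.asIdeal ≃+*
      (Spec (CommRingCat.of (O ⊗[k] K))).presheaf.stalk Qp :=
    (IsLocalization.algEquiv Qp.asIdeal.primeCompl (Localization.AtPrime Qp.asIdeal)
      ((Spec (CommRingCat.of (O ⊗[k] K))).presheaf.stalk Qp)).toRingEquiv
  exact ⟨Qp.asIdeal, Qp.isPrime, ⟨e1.trans (e2.symm.trans e3.symm)⟩⟩

end F2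

end Groth.Agent.Lib.helper7.StalkBC
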