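import Mathlib

/-!
# Heights of primes in `A[X]` lying over a prime of a Noetherian ring
-/

universe u

open Polynomial Ideal

namespace Groth.Agent.Lib.helper7.PolyHt

attribute [local instance] Polynomial.algebra in
/-- In `D[X]` over a domain `D`, a nonzero prime contracting to zero has height one. -/
theorem height_eq_one_of_comap_C_eq_bot {D : Type u} [CommRing D] [IsDomain D]
    (Q : Ideal D[X]) [Q.IsPrime] (hQ0 : Q ≠ ⊥) (hQ : Q.comap (C : D →+* D[X]) = ⊥) :
    Q.height = 1 := by
  have hloc : IsLocalization ((nonZeroDivisors D).map (C : D →+* D[X])) (FractionRing D)[X] :=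
    Polynomial.isLocalization (nonZeroDivisors D) (FractionRing D)
  have disj : Disjoint (((nonZeroDivisors D).map (C : D →+* D[X]) : Submonoid D[X]) : Set D[X])
      (Q : Set D[X]) := by
    refine Set.disjoint_left.mpr ?_
    rintro _ ⟨d, hd, rfl⟩ hdQ
    have hd' : d ∈ Q.comap (C : D →+* D[X]) := hdQ
    rw [hQ, Ideal.mem_bot] at hd'
    exact nonZeroDivisors.ne_zero hd hd'
  have hht := IsLocalization.height_map_of_disjoint (S := (FractionRing D)[X])
    ((nonZeroDivisors D).map (C : D →+* D[X])) Q disj
  have hprime : (Q.map (algebraMap D[X] (FractionRing D)[X])).IsPrime :=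
    IsLocalization.isPrime_of_isPrime_disjoint ((nonZeroDivisors D).map (C : D →+* D[X])) _ Q
      inferInstance disj
  have hne : Q.map (algebraMap D[X] (FractionRing D)[X]) ≠ ⊥ := by
    obtain ⟨f, hfQ, hf0⟩ := Submodule.exists_mem_ne_zero_of_ne_bot hQ0
    intro hbot
    have h1 : algebraMap D[X] (FractionRing D)[X] f ∈
        Q.map (algebraMap D[X] (FractionRing D)[X]) := Ideal.mem_map_of_mem _ hfQ
    rw [hbot, Ideal.mem_bot] at h1
    have hinj : Function.Injective (algebraMap D[X] (FractionRing D)[X]) :=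
      Polynomial.map_injective _ (IsFractionRing.injective D (FractionRing D))
    exact hf0 (hinj (by rw [h1, map_zero]))
  have hmax : (Q.map (algebraMap D[X] (FractionRing D)[X])).IsMaximal := hprime.isMaximal hne
  rw [← hht]
  exact IsPrincipalIdealRing.height_eq_one_of_isMaximal _ (Polynomial.not_isField (FractionRing D))

variable (A : Type u) [CommRing A]

theorem liesOver_map_C (p : Ideal A) [p.IsPrime] : (p.map (C : A →+* A[X])).LiesOver p := by
  refine ⟨?_⟩
  ext a
  rw [Ideal.under_def, Ideal.mem_comap, Polynomial.algebraMap_apply, Algebra.algebraMap_self_apply,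
    Ideal.mem_map_C_iff]
  constructor
  · intro ha n
    rw [Polynomial.coeff_C]
    split_ifs
    · exact ha
    · exact p.zero_mem
  · intro h
    simpa using h 0

variable [IsNoetherianRing A]

theorem height_map_C (p : Ideal A) [p.IsPrime] : (p.map (C : A →+* A[X])).height = p.height := by
  have := liesOver_map_C A p
  rw [Ideal.height_eq_height_add_of_liesOver_of_hasGoingDown p (p.map (C : A →+* A[X]))]
  have h0 : ((p.map (C : A →+* A[X])).map
      (Ideal.Quotient.mk (p.map (algebraMap A A[X])))) = ⊥ := by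
    rw [Polynomial.algebraMap_eq, Ideal.map_quotient_self]
  rw [h0]
  have : Nontrivial (A[X] ⧸ p.map (algebraMap A A[X])) := by
    rw [Polynomial.algebraMap_eq]
    exact Ideal.Quotient.nontrivial_iff.mpr (Ideal.IsPrime.ne_top inferInstance)
  rw [Ideal.height_bot, add_zero]

theorem height_eq_add_one (p : Ideal A) [p.IsPrime] (q : Ideal A[X]) [q.IsPrime] [q.LiesOver p]
    (hne : q ≠ p.map (C : A →+* A[X])) : q.height = p.height + 1 := by
  rw [Ideal.height_eq_height_add_of_liesOver_of_hasGoingDown p q]
  congr 1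
  have hle : p.map (C : A →+* A[X]) ≤ q := by
    rw [Ideal.map_le_iff_le_comap]
    intro a ha
    have := Ideal.LiesOver.over (P := q) (p := p)
    rw [this] at ha
    simpa [Ideal.under_def, Polynomial.algebraMap_eq] using ha
  rw [Polynomial.algebraMap_eq]
  set qb := q.map (Ideal.Quotient.mk (p.map (C : A →+* A[X]))) with hqb
  have hker : RingHom.ker (Ideal.Quotient.mk (p.map (C : A →+* A[X]))) ≤ q := by
    rw [Ideal.mk_ker]; exact hle
  have hqbprime : qb.IsPrime :=
    Ideal.map_isPrime_of_surjective Ideal.Quotient.mk_surjective hker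
  let e : (A[X] ⧸ (p.map (C : A →+* A[X]))) ≃+* (A ⧸ p)[X] :=
    (polynomialQuotientEquivQuotientPolynomial p).symm
  have hQprime : (qb.map e).IsPrime := Ideal.map_isPrime_of_equiv e
  have hQne : qb.map e ≠ ⊥ := by
    intro hbot
    apply hne
    refine le_antisymm ?_ hle
    intro f hf
    have h1 : e (Ideal.Quotient.mk _ f) ∈ qb.map e :=
      Ideal.mem_map_of_mem _ (Ideal.mem_map_of_mem _ hf)
    rw [hbot, Ideal.mem_bot] at h1
    have h2 : Ideal.Quotient.mk (p.map (C : A →+* A[X])) f = 0 :=
      e.injective (by rw [h1, map_zero])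
    exact Ideal.Quotient.eq_zero_iff_mem.mp h2
  have hQcomap : (qb.map e).comap (C : (A ⧸ p) →+* (A ⧸ p)[X]) = ⊥ := by
    rw [eq_bot_iff]
    intro d hd
    obtain ⟨a, rfl⟩ := Ideal.Quotient.mk_surjective d
    rw [Ideal.mem_comap] at hd
    obtain ⟨x, hx, hxe⟩ := (Ideal.mem_map_of_equiv e _).mp hd
    have hx' : x = e.symm (C (Ideal.Quotient.mk p a)) := by rw [← hxe, e.symm_apply_apply]
    rw [hx'] at hx
    have h1 : e.symm (C (Ideal.Quotient.mk p a)) =
        Ideal.Quotient.mk (p.map (C : A →+* A[X])) (C a) := by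
      have := polynomialQuotientEquivQuotientPolynomial_map_mk p (C a)
      rw [Polynomial.map_C] at this
      exact this
    rw [h1, hqb, Ideal.mem_quotient_iff_mem hle] at hx
    have h2 : a ∈ p := by
      rw [Ideal.LiesOver.over (P := q) (p := p), Ideal.under_def, Ideal.mem_comap,
        Polynomial.algebraMap_apply, Algebra.algebraMap_self_apply]
      exact hx
    rw [Ideal.mem_bot]
    exact Ideal.Quotient.eq_zero_iff_mem.mpr h2
  have h1 := height_eq_one_of_comap_C_eq_bot (qb.map e) hQne hQcomap
  rw [e.height_map] at h1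
  exact h1

end Groth.Agent.Lib.helper7.PolyHt
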