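import Mathlib
import Groth.Prelude.Def_Curv2
import Groth.Prelude.Def_Flat
import Groth.Agent.Lib.helper7.DimSch2

/-!
Helper lemmas (helper7): irreducible schemes locally of finite type over a field, generic points,
closed points.
-/

set_option autoImplicit false

namespace Groth.Agent.Lib.helper7.DimSch

universe u

open AlgebraicGeometry CategoryTheory

theorem closure_mem_irreducibleComponents_iff {T : Type*} [TopologicalSpace T] [QuasiSober T]
    [T0Space T] (ξ : T) :
    closure {ξ} ∈ irreducibleComponents T ↔ ∀ η : T, η ⤳ ξ → η = ξ := by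
  constructor
  · intro h η hη
    have h1 : IsIrreducible (closure ({η} : Set T)) := isIrreducible_singleton.closure
    have h2 : closure ({ξ} : Set T) ⊆ closure {η} :=
      closure_minimal (Set.singleton_subset_iff.mpr hη.mem_closure) isClosed_closure
    have h3 : closure ({η} : Set T) ⊆ closure {ξ} := h.2 h1 h2
    have h4 : ξ ⤳ η := specializes_iff_mem_closure.mpr (h3 (subset_closure rfl))
    exact (hη.antisymm h4).eq
  · intro h
    refine ⟨isIrreducible_singleton.closure, ?_⟩
    intro Z hZ hle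
    have hZc : IsIrreducible (closure Z) := hZ.closure
    obtain ⟨η, hη⟩ := QuasiSober.sober hZc isClosed_closure
    have h1 : ξ ∈ closure Z := subset_closure (hle (subset_closure rfl))
    have h2 : η ⤳ ξ := hη.specializes h1
    have h3 := h η h2
    subst h3
    calc Z ⊆ closure Z := subset_closure
      _ = closure {η} := hη.def.symm

theorem primeIdealOf_mem_minimalPrimes_iff {X : Scheme.{u}} {U : X.Opens} (hU : IsAffineOpen U)
    (x : U) :
    (hU.primeIdealOf x).asIdeal ∈ minimalPrimes Γ(X, U) ↔ ∀ η : X, η ⤳ (x : X) → η = x := by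
  constructor
  · intro h η hη
    have hηU : η ∈ U := hη.mem_open U.isOpen x.2
    have h1 : hU.primeIdealOf ⟨η, hηU⟩ ≤ hU.primeIdealOf x := (primeIdealOf_le_iff hU _ _).mpr hη
    have h2 : (hU.primeIdealOf x).asIdeal ≤ (hU.primeIdealOf ⟨η, hηU⟩).asIdeal :=
      h.2 ⟨(hU.primeIdealOf ⟨η, hηU⟩).isPrime, bot_le⟩ h1
    have h3 : hU.primeIdealOf ⟨η, hηU⟩ = hU.primeIdealOf x := PrimeSpectrum.ext (le_antisymm h1 h2)
    exact congrArg Subtype.val (primeIdealOf_injective hU h3)
  · intro h
    refine ⟨⟨(hU.primeIdealOf x).isPrime, bot_le⟩, ?_⟩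
    rintro q ⟨hq, -⟩ hle
    obtain ⟨η, hη⟩ := exists_primeIdealOf_eq hU ⟨q, hq⟩
    have h1 : (η : X) ⤳ (x : X) := by
      rw [← primeIdealOf_le_iff hU η x, hη]; exact hle
    have h2 : η = x := Subtype.ext (h η h1)
    rw [← h2, hη]

variable (k : Type u) [Field k] (X : Scheme.{u}) [X.Over (Spec (CommRingCat.of k))]
  [LocallyOfFiniteType (X ↘ Spec (CommRingCat.of k))]

theorem ringKrullDim_stalk_eq_zero_of_forall_generization (x : X) (h : ∀ η : X, η ⤳ x → η = x) :
    ringKrullDim (X.presheaf.stalk x) = 0 := by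
  obtain ⟨_, ⟨W, hW, rfl⟩, hxW, -⟩ :=
    X.isBasis_affineOpens.exists_subset_of_mem_open (Set.mem_univ x) isOpen_univ
  have hW' : IsAffineOpen W := hW
  rw [ringKrullDim_stalk_eq_height hW' x hxW]
  have hmin := (primeIdealOf_mem_minimalPrimes_iff hW' ⟨x, hxW⟩).mpr h
  haveI := (hW'.primeIdealOf ⟨x, hxW⟩).isPrime
  rw [Ideal.height_eq_zero_iff.mpr hmin]
  rfl

variable [IrreducibleSpace X]

theorem ringKrullDim_stalk_le_of_irreducible (n : ℕ)
    (hn : @Algebra.trdeg k (X.residueField (genericPoint X)) _ _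
      (Curv2.resAlgebra k X (genericPoint X)) = n) (x : X) :
    ringKrullDim (X.presheaf.stalk x) ≤ n := by
  obtain ⟨_, ⟨W, hW, rfl⟩, hxW, -⟩ :=
    X.isBasis_affineOpens.exists_subset_of_mem_open (Set.mem_univ x) isOpen_univ
  have hW' : IsAffineOpen W := hW
  letI := (sectionMap k X W).toAlgebra
  haveI : Algebra.FiniteType k Γ(X, W) := sectionMap_finiteType k X hW'
  have hξW : genericPoint X ∈ W := (genericPoint_specializes x).mem_open W.isOpen hxW
  set q := (hW'.primeIdealOf ⟨x, hxW⟩).asIdeal with hq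
  obtain ⟨p₀, hp₀, hp₀q, hdimq⟩ := DimFT.exists_minimalPrimes_ringKrullDim_eq (k := k) Γ(X, W) q
  haveI : p₀.IsPrime := hp₀.1.1
  have hp₀eq : p₀ = (hW'.primeIdealOf ⟨genericPoint X, hξW⟩).asIdeal := by
    obtain ⟨η, hη⟩ := exists_primeIdealOf_eq hW' ⟨p₀, hp₀.1.1⟩
    have h1 : hW'.primeIdealOf ⟨genericPoint X, hξW⟩ ≤ hW'.primeIdealOf η :=
      (primeIdealOf_le_iff hW' _ _).mpr (genericPoint_specializes _)
    rw [hη] at h1
    exact le_antisymm
      (hp₀.2 ⟨(hW'.primeIdealOf ⟨genericPoint X, hξW⟩).isPrime, bot_le⟩ h1) h1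
  obtain ⟨n', h1, h2⟩ := exists_trdeg_residueField_eq k X hW' (genericPoint X) hξW
  rw [h1] at hn
  have hnn : n' = n := by exact_mod_cast hn
  rw [ringKrullDim_stalk_eq_height hW' x hxW]
  have h3 : (q.height : WithBot ℕ∞) ≤ ringKrullDim (Γ(X, W) ⧸ q) + q.height :=
    le_add_of_nonneg_left ringKrullDim_nonneg_of_nontrivial
  calc (q.height : WithBot ℕ∞) ≤ ringKrullDim (Γ(X, W) ⧸ q) + q.height := h3
    _ = ringKrullDim (Γ(X, W) ⧸ p₀) := hdimq.symm
    _ = n := by rw [hp₀eq, h2, hnn]

theorem exists_stalk_ge_of_irreducible (n : ℕ)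
    (hn : @Algebra.trdeg k (X.residueField (genericPoint X)) _ _
      (Curv2.resAlgebra k X (genericPoint X)) = n) (U : X.Opens) (hU : (U : Set X).Nonempty) :
    ∃ y ∈ U, (n : WithBot ℕ∞) ≤ ringKrullDim (X.presheaf.stalk y) := by
  have hξU : genericPoint X ∈ U := by
    obtain ⟨y, hy⟩ := hU
    exact (genericPoint_specializes y).mem_open U.isOpen hy
  have hb : ringKrullDim (X.presheaf.stalk (genericPoint X)) = ((0 : ℕ) : WithBot ℕ∞) := by
    rw [ringKrullDim_stalk_eq_zero_of_forall_generization X]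
    · rfl
    · intro η hη
      exact (hη.antisymm (genericPoint_specializes η)).eq
  obtain ⟨y, hyU, hy⟩ := exists_stalk_ge k X (genericPoint X) n 0 hn hb U hξU
  exact ⟨y, hyU, by simpa using hy⟩

theorem topologicalKrullDim_opens_of_irreducible (n : ℕ)
    (hn : @Algebra.trdeg k (X.residueField (genericPoint X)) _ _
      (Curv2.resAlgebra k X (genericPoint X)) = n) (U : X.Opens) (hU : (U : Set X).Nonempty) :
    topologicalKrullDim ↥(U : Set X) = n := by
  rw [topologicalKrullDim_opens]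
  apply le_antisymm
  · exact iSup_le fun y => ringKrullDim_stalk_le_of_irreducible k X n hn y.1
  · obtain ⟨y, hyU, hy⟩ := exists_stalk_ge_of_irreducible k X n hn U hU
    exact le_trans hy (le_iSup (fun y : U => ringKrullDim (X.presheaf.stalk y.1)) ⟨y, hyU⟩)

theorem topologicalKrullDim_of_irreducible (n : ℕ)
    (hn : @Algebra.trdeg k (X.residueField (genericPoint X)) _ _
      (Curv2.resAlgebra k X (genericPoint X)) = n) :
    topologicalKrullDim X = n := by
  rw [DimBC.topologicalKrullDim_eq_iSup_stalk]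
  apply le_antisymm
  · exact iSup_le fun y => ringKrullDim_stalk_le_of_irreducible k X n hn y
  · obtain ⟨y, -, hy⟩ := exists_stalk_ge_of_irreducible k X n hn ⊤ ⟨genericPoint X, trivial⟩
    exact le_trans hy (le_iSup (fun y : X => ringKrullDim (X.presheaf.stalk y)) y)

theorem exists_trdeg_genericPoint :
    ∃ n : ℕ, @Algebra.trdeg k (X.residueField (genericPoint X)) _ _
      (Curv2.resAlgebra k X (genericPoint X)) = n := by
  obtain ⟨_, ⟨W, hW, rfl⟩, hxW, -⟩ :=
    X.isBasis_affineOpens.exists_subset_of_mem_open (Set.mem_univ (genericPoint X)) isOpen_univ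
  obtain ⟨n, h1, -⟩ := exists_trdeg_residueField_eq k X hW (genericPoint X) hxW
  exact ⟨n, h1⟩

end Groth.Agent.Lib.helper7.DimSch
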