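import Mathlib

/-!
Helper lemmas (helper7): schemes locally of finite type over locally Noetherian schemes are
locally Noetherian; fibres of LFT morphisms are locally Noetherian; a closed point without proper
generizations in a space with Noetherian neighbourhoods is isolated.
-/

set_option autoImplicit false
universe u
open CategoryTheory CategoryTheory.Limits AlgebraicGeometry TopologicalSpace

namespace Groth.Agent.Lib.helper7.LFTNoeth

theorem isLocallyNoetherian_of_locallyOfFiniteType {X Y : Scheme.{u}} (f : X ⟶ Y)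
    [LocallyOfFiniteType f] [IsLocallyNoetherian Y] : IsLocallyNoetherian X := by
  have H : ∀ x : X, ∃ U : X.affineOpens, x ∈ U.1 ∧ IsNoetherianRing Γ(X, U.1) := by
    intro x
    obtain ⟨V, hV, hxV, -⟩ := exists_isAffineOpen_mem_and_subset (x := f x) (U := ⊤) trivial
    obtain ⟨U, hU, hxU, hUV⟩ := exists_isAffineOpen_mem_and_subset (x := x) (U := f ⁻¹ᵁ V) hxV
    have hft : (f.appLE V U hUV).hom.FiniteType :=
      HasRingHomProperty.appLE @LocallyOfFiniteType f ‹_› ⟨V, hV⟩ ⟨U, hU⟩ hUV
    haveI : IsNoetherianRing Γ(Y, V) := IsLocallyNoetherian.component_noetherian ⟨V, hV⟩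
    algebraize [(f.appLE V U hUV).hom]
    exact ⟨⟨U, hU⟩, hxU, Algebra.FiniteType.isNoetherianRing Γ(Y, V) Γ(X, U)⟩
  choose S hxS hS using H
  refine isLocallyNoetherian_of_affine_cover (S := S) ?_ hS
  rw [eq_top_iff]
  intro x _
  exact Opens.mem_iSup.mpr ⟨x, hxS x⟩

theorem isLocallyNoetherian_fiber {X Y : Scheme.{u}} (f : X ⟶ Y) [LocallyOfFiniteType f] (y : Y) :
    IsLocallyNoetherian (f.fiber y) := by
  haveI : LocallyOfFiniteType (f.fiberToSpecResidueField y) :=
    MorphismProperty.pullback_snd _ _ inferInstance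
  exact isLocallyNoetherian_of_locallyOfFiniteType (f.fiberToSpecResidueField y)

/-- In a quasi-sober T0 space, a closed point without proper generizations which has a
Noetherian open neighbourhood is an isolated point. -/
theorem isOpen_singleton_of_isClosed_of_maximal {T : Type*} [TopologicalSpace T] [QuasiSober T]
    [T0Space T] (x₀ : T) (W : Opens T) (hW : NoetherianSpace W) (hx : x₀ ∈ W)
    (hcl : IsClosed ({x₀} : Set T)) (hmax : ∀ y : T, y ⤳ x₀ → y = x₀) : IsOpen ({x₀} : Set T) := by
  haveI : QuasiSober W := W.isOpen.isOpenEmbedding_subtypeVal.quasiSober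
  have hfin := NoetherianSpace.finite_irreducibleComponents (α := W)
  let Bad : Set (Set W) := {Z | Z ∈ irreducibleComponents W ∧ (⟨x₀, hx⟩ : W) ∉ Z}
  have hBadfin : Bad.Finite := hfin.subset (fun Z hZ => hZ.1)
  have hclosed : IsClosed (⋃₀ Bad) := by
    rw [Set.sUnion_eq_biUnion]
    exact hBadfin.isClosed_biUnion (fun Z hZ => isClosed_of_mem_irreducibleComponents Z hZ.1)
  have hVopen : IsOpen (Subtype.val '' (⋃₀ Bad)ᶜ : Set T) :=
    W.isOpen.isOpenEmbedding_subtypeVal.isOpenMap _ hclosed.isOpen_compl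
  have hV : (Subtype.val '' (⋃₀ Bad)ᶜ : Set T) = {x₀} := by
    apply Set.eq_singleton_iff_unique_mem.mpr
    refine ⟨⟨⟨x₀, hx⟩, ?_, rfl⟩, ?_⟩
    · rintro ⟨Z, hZ, hxZ⟩; exact hZ.2 hxZ
    · rintro _ ⟨⟨y, hyW⟩, hy, rfl⟩
      let yW : W := ⟨y, hyW⟩
      let Z := irreducibleComponent yW
      have hZmem : Z ∈ irreducibleComponents W := irreducibleComponent_mem_irreducibleComponents yW
      have hZcl : IsClosed Z := isClosed_irreducibleComponent
      have hZirr : IsIrreducible Z := isIrreducible_irreducibleComponent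
      obtain ⟨η, hη⟩ := QuasiSober.sober hZirr hZcl
      have hηZ : closure {η} = Z := hη.def
      have hxZ : (⟨x₀, hx⟩ : W) ∈ Z := by
        by_contra hx'
        exact hy ⟨Z, ⟨hZmem, hx'⟩, mem_irreducibleComponent⟩
      have hηx : η ⤳ (⟨x₀, hx⟩ : W) := by
        rw [specializes_iff_mem_closure, hηZ]; exact hxZ
      have hηeq : η = ⟨x₀, hx⟩ := Subtype.ext (hmax _ ((subtype_specializes_iff η _).1 hηx))
      have hxy : (⟨x₀, hx⟩ : W) ⤳ yW := by
        rw [specializes_iff_mem_closure, ← hηeq, hηZ]; exact mem_irreducibleComponent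
      have hxy' : x₀ ⤳ y := (subtype_specializes_iff _ _).1 hxy
      exact hxy'.mem_closed hcl rfl
  rw [← hV]
  exact hVopen

end Groth.Agent.Lib.helper7.LFTNoeth
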