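import Mathlib

/-!
# Lifting chains of irreducible closed sets: `dim Y ≤ dim X` for surjective closed / generalizing maps
-/

set_option autoImplicit false

namespace Groth.Agent.Lib.helper7.DimLift

open TopologicalSpace Set

variable {X Y : Type*} [TopologicalSpace X] [TopologicalSpace Y]

/-- The closure of a point, as an irreducible closed set. -/
def clPt (x : X) : IrreducibleCloseds X :=
  ⟨closure {x}, isIrreducible_singleton.closure, isClosed_closure⟩

@[simp] lemma coe_clPt (x : X) : (clPt x : Set X) = closure {x} := rfl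

lemma clPt_lt [T0Space X] {x x' : X} (h : x' ⤳ x) (hne : x' ≠ x) : clPt x < clPt x' := by
  refine lt_of_le_of_ne ?_ ?_
  · exact specializes_iff_closure_subset.mp h
  · intro heq
    have h1 : closure ({x} : Set X) = closure {x'} := congrArg (fun s : IrreducibleCloseds X => (s : Set X)) heq
    exact hne (IsGenericPoint.eq (h1 : IsGenericPoint x _) (rfl : IsGenericPoint x' _)).symm

theorem topologicalKrullDim_le_of_isClosedMap [QuasiSober Y] [T0Space X] (f : X → Y)
    (hs : Function.Surjective f) (hcl : IsClosedMap f) :
    topologicalKrullDim Y ≤ topologicalKrullDim X := by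
  unfold topologicalKrullDim Order.krullDim
  refine iSup_le fun p => ?_
  suffices h : ∀ p : LTSeries (IrreducibleCloseds Y), ∀ x : X,
      closure {f x} = (p.last : Set Y) →
      ∃ q : LTSeries (IrreducibleCloseds X), q.length = p.length ∧ q.last = clPt x by
    obtain ⟨η, hη⟩ := QuasiSober.sober p.last.isIrreducible p.last.isClosed
    obtain ⟨x, rfl⟩ := hs η
    obtain ⟨q, hq, -⟩ := h p x hη
    exact le_iSup_of_le q (by rw [hq])
  intro p
  induction p using RelSeries.inductionOn' with
  | singleton Z =>
    intro x _
    exact ⟨RelSeries.singleton _ (clPt x), rfl, rfl⟩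
  | snoc p Z hZ ih =>
    intro x hx
    rw [RelSeries.last_snoc] at hx
    have hZ' : p.last < Z := hZ
    obtain ⟨η', hη'⟩ := QuasiSober.sober p.last.isIrreducible p.last.isClosed
    have h1 : η' ∈ f '' closure {x} := by
      have h2 : closure {f x} ⊆ f '' closure {x} :=
        closure_minimal (singleton_subset_iff.mpr ⟨x, subset_closure rfl, rfl⟩)
          (hcl _ isClosed_closure)
      apply h2
      rw [hx]
      exact hZ'.le hη'.mem
    obtain ⟨x', hx'cl, rfl⟩ := h1
    obtain ⟨q', hq'len, hq'last⟩ := ih x' hη'
    have hlt : q'.last < clPt x := by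
      rw [hq'last]
      apply clPt_lt (specializes_iff_mem_closure.mpr hx'cl)
      rintro rfl
      have h3 : (p.last : Set Y) = Z := by rw [← hη'.def, hx]
      exact hZ'.ne (IrreducibleCloseds.ext h3)
    exact ⟨q'.snoc (clPt x) hlt, by simp [hq'len], by simp⟩

theorem topologicalKrullDim_le_of_generalizingMap [QuasiSober Y] [T0Space X] (f : X → Y)
    (hs : Function.Surjective f) (hg : GeneralizingMap f) :
    topologicalKrullDim Y ≤ topologicalKrullDim X := by
  unfold topologicalKrullDim Order.krullDim
  refine iSup_le fun p => ?_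
  suffices h : ∀ p : LTSeries (IrreducibleCloseds Y), ∀ x : X,
      closure {f x} = (p.head : Set Y) →
      ∃ q : LTSeries (IrreducibleCloseds X), q.length = p.length ∧ q.head = clPt x by
    obtain ⟨η, hη⟩ := QuasiSober.sober p.head.isIrreducible p.head.isClosed
    obtain ⟨x, rfl⟩ := hs η
    obtain ⟨q, hq, -⟩ := h p x hη
    exact le_iSup_of_le q (by rw [hq])
  intro p
  induction p using RelSeries.inductionOn with
  | singleton Z =>
    intro x _
    exact ⟨RelSeries.singleton _ (clPt x), rfl, rfl⟩
  | cons p Z hZ ih =>
    intro x hx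
    rw [RelSeries.head_cons] at hx
    have hZ' : Z < p.head := hZ
    obtain ⟨η', hη'⟩ := QuasiSober.sober p.head.isIrreducible p.head.isClosed
    have h1 : η' ⤳ f x := by
      apply hη'.specializes
      apply hZ'.le
      show f x ∈ (Z : Set Y)
      rw [← hx]
      exact subset_closure rfl
    obtain ⟨x', hx'x, rfl⟩ := hg h1
    obtain ⟨q', hq'len, hq'head⟩ := ih x' hη'
    have hlt : clPt x < q'.head := by
      rw [hq'head]
      apply clPt_lt hx'x
      rintro rfl
      have h3 : (Z : Set Y) = p.head := by rw [← hη'.def, hx]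
      exact hZ'.ne (IrreducibleCloseds.ext h3)
    exact ⟨q'.cons (clPt x) hlt, by simp [hq'len], by simp⟩

/-- If no two distinct points of a fibre specialize to one another, `dim X ≤ dim Y`. -/
theorem topologicalKrullDim_le_of_incomparable [QuasiSober X] [T0Space Y] (f : X → Y)
    (hc : Continuous f) (hinc : ∀ x x' : X, x' ⤳ x → f x' = f x → x' = x) :
    topologicalKrullDim X ≤ topologicalKrullDim Y := by
  let φ : IrreducibleCloseds X → IrreducibleCloseds Y := fun Z =>
    ⟨closure (f '' (Z : Set X)), (Z.isIrreducible.image f hc.continuousOn).closure,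
      isClosed_closure⟩
  have hφ : ∀ (Z : IrreducibleCloseds X) (z : X), IsGenericPoint z (Z : Set X) →
      (φ Z : Set Y) = closure {f z} := by
    intro Z z hz
    apply Subset.antisymm
    · apply closure_minimal _ isClosed_closure
      rintro _ ⟨w, hw, rfl⟩
      have : z ⤳ w := hz.specializes hw
      exact specializes_iff_mem_closure.mp (this.map hc)
    · exact closure_mono (singleton_subset_iff.mpr ⟨z, hz.mem, rfl⟩)
  refine Order.krullDim_le_of_strictMono φ ?_
  intro Z Z' hlt
  refine lt_of_le_of_ne ?_ ?_
  · exact closure_mono (image_mono hlt.le)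
  · intro heq
    obtain ⟨z, hz⟩ := QuasiSober.sober Z.isIrreducible Z.isClosed
    obtain ⟨z', hz'⟩ := QuasiSober.sober Z'.isIrreducible Z'.isClosed
    have h1 : closure {f z} = closure {f z'} := by
      rw [← hφ Z z hz, ← hφ Z' z' hz']
      exact congrArg (fun s : IrreducibleCloseds Y => (s : Set Y)) heq
    have h2 : f z = f z' := IsGenericPoint.eq (h1 : IsGenericPoint (f z) _) (rfl : IsGenericPoint _ _)
    have h3 : z' ⤳ z := hz'.specializes (hlt.le hz.mem)
    have h4 : z' = z := hinc z z' h3 h2.symm
    apply hlt.ne
    apply IrreducibleCloseds.ext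
    rw [← hz.def, ← hz'.def, h4]

end Groth.Agent.Lib.helper7.DimLift
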