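import Mathlib
import Groth.Prelude.Def_Curv2
import Groth.Prelude.Def_Flat
import Groth.Agent.Lib.helper7.DimSch3

/-!
Helper lemmas (helper7): closed points of schemes locally of finite type over a field.
-/

set_option autoImplicit false

namespace Groth.Agent.Lib.helper7.DimSch

universe u

open AlgebraicGeometry CategoryTheory

theorem isClosed_singleton_of_isMaximal {X : Scheme.{u}} [JacobsonSpace X] {W : X.Opens}
    (hW : IsAffineOpen W) (y : W) (hmax : (hW.primeIdealOf y).asIdeal.IsMaximal) :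
    IsClosed ({(y : X)} : Set X) := by
  apply isClosed_singleton_of_isLocallyClosed_singleton
  refine ⟨W, closure {(y : X)}, W.isOpen, isClosed_closure, ?_⟩
  apply Set.Subset.antisymm
  · rintro _ rfl
    exact ⟨y.2, subset_closure rfl⟩
  · rintro z ⟨hzW, hz⟩
    have h1 : (y : X) ⤳ z := specializes_iff_mem_closure.mpr hz
    have h2 : hW.primeIdealOf y ≤ hW.primeIdealOf ⟨z, hzW⟩ := (primeIdealOf_le_iff hW _ _).mpr h1
    have h3 : (hW.primeIdealOf y).asIdeal = (hW.primeIdealOf ⟨z, hzW⟩).asIdeal :=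
      hmax.eq_of_le (hW.primeIdealOf ⟨z, hzW⟩).isPrime.ne_top h2
    have h4 := primeIdealOf_injective hW (PrimeSpectrum.ext h3)
    rw [Set.mem_singleton_iff]
    exact (congrArg Subtype.val h4).symm

variable (k : Type u) [Field k] (X : Scheme.{u}) [X.Over (Spec (CommRingCat.of k))]
  [LocallyOfFiniteType (X ↘ Spec (CommRingCat.of k))]

include k in
theorem jacobsonSpace : JacobsonSpace X :=
  LocallyOfFiniteType.jacobsonSpace (X ↘ Spec (CommRingCat.of k))

/-- Lower bound with a closed point. -/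
theorem exists_isClosed_stalk_ge (x : X) (a b : ℕ)
    (ha : @Algebra.trdeg k (X.residueField x) _ _ (Curv2.resAlgebra k X x) = a)
    (hb : ringKrullDim (X.presheaf.stalk x) = b) (U : X.Opens) (hxU : x ∈ U) :
    ∃ y ∈ U, IsClosed ({y} : Set X) ∧
      ((a + b : ℕ) : WithBot ℕ∞) ≤ ringKrullDim (X.presheaf.stalk y) := by
  haveI := jacobsonSpace k X
  obtain ⟨_, ⟨W, hW, rfl⟩, hxW, hWU⟩ :=
    X.isBasis_affineOpens.exists_subset_of_mem_open hxU U.isOpen
  have hW' : IsAffineOpen W := hW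
  letI := (sectionMap k X W).toAlgebra
  haveI : Algebra.FiniteType k Γ(X, W) := sectionMap_finiteType k X hW'
  set p := (hW'.primeIdealOf ⟨x, hxW⟩).asIdeal with hp
  obtain ⟨hdim, hht⟩ := chart_data k X hW' x hxW a b ha hb
  obtain ⟨p₀, hp₀, hp₀p, hdimp⟩ := DimFT.exists_minimalPrimes_ringKrullDim_eq (k := k) Γ(X, W) p
  haveI : p₀.IsPrime := hp₀.1.1
  obtain ⟨m, hm, hp₀m, hmh⟩ := DimFT.exists_isMaximal_height_ge (k := k) Γ(X, W) p₀
  obtain ⟨y, hy⟩ := exists_primeIdealOf_eq hW' ⟨m, hm.isPrime⟩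
  refine ⟨y.1, hWU y.2, ?_, ?_⟩
  · apply isClosed_singleton_of_isMaximal hW' y
    rw [hy]; exact hm
  · rw [ringKrullDim_stalk_eq_height hW' y.1 y.2, hy]
    refine le_trans ?_ hmh
    rw [hdimp, hdim, hht]
    push_cast
    rfl

/-- For a closed point `x`, some generic point `ξ ⤳ x` of an irreducible component has
`trdeg κ(ξ) = dim O_{X,x}`. -/
theorem exists_generic_trdeg_eq_of_isClosed (x : X) (hx : IsClosed ({x} : Set X)) :
    ∃ (ξ : X) (n : ℕ), ξ ⤳ x ∧ (∀ η : X, η ⤳ ξ → η = ξ) ∧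
      @Algebra.trdeg k (X.residueField ξ) _ _ (Curv2.resAlgebra k X ξ) = n ∧
      ringKrullDim (X.presheaf.stalk x) = n := by
  obtain ⟨_, ⟨W, hW, rfl⟩, hxW, -⟩ :=
    X.isBasis_affineOpens.exists_subset_of_mem_open (Set.mem_univ x) isOpen_univ
  have hW' : IsAffineOpen W := hW
  letI := (sectionMap k X W).toAlgebra
  haveI : Algebra.FiniteType k Γ(X, W) := sectionMap_finiteType k X hW'
  set m := (hW'.primeIdealOf ⟨x, hxW⟩).asIdeal with hm
  have hmax : m.IsMaximal := hW'.primeIdealOf_isMaximal_of_isClosed ⟨x, hxW⟩ hx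
  obtain ⟨p₀, hp₀, hp₀m, hdim⟩ := DimFT.exists_minimalPrimes_ringKrullDim_eq (k := k) Γ(X, W) m
  obtain ⟨ξ, hξ⟩ := exists_primeIdealOf_eq hW' ⟨p₀, hp₀.1.1⟩
  obtain ⟨n, h1, h2⟩ := exists_trdeg_residueField_eq k X hW' ξ.1 ξ.2
  refine ⟨ξ.1, n, ?_, ?_, h1, ?_⟩
  · rw [← primeIdealOf_le_iff hW' ξ ⟨x, hxW⟩, hξ]; exact hp₀m
  · apply (primeIdealOf_mem_minimalPrimes_iff hW' ξ).mp
    rw [hξ]; exact hp₀
  · rw [ringKrullDim_stalk_eq_height hW' x hxW]
    letI : Field (Γ(X, W) ⧸ m) := Ideal.Quotient.field m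
    have h0 : ringKrullDim (Γ(X, W) ⧸ m) = 0 := ringKrullDim_eq_zero_of_field _
    rw [h0, zero_add] at hdim
    rw [← hdim]
    have : (hW'.primeIdealOf ξ).asIdeal = p₀ := congrArg PrimeSpectrum.asIdeal hξ
    rw [← this]
    exact h2

end Groth.Agent.Lib.helper7.DimSch
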