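import Mathlib
import Groth.Prelude.Def_Curv2
import Groth.Prelude.Def_Flat
import Groth.Agent.Lib.helper7.DimSch4

/-!
Helper lemmas (helper7): functoriality of residue field transcendence degrees for morphisms of
`k`-schemes.
-/

set_option autoImplicit false

namespace Groth.Agent.Lib.helper7.DimSch

universe u

open AlgebraicGeometry CategoryTheory

variable (k : Type u) [Field k] (X Y : Scheme.{u}) [X.Over (Spec (CommRingCat.of k))]
  [Y.Over (Spec (CommRingCat.of k))]

theorem residueFieldMap_resMap (f : Y ⟶ X)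
    (hf : f ≫ (X ↘ Spec (CommRingCat.of k)) = Y ↘ Spec (CommRingCat.of k)) (y : Y) (a : k) :
    (f.residueFieldMap y).hom (Curv2.resMap k X (f.base y) a) = Curv2.resMap k Y y a := by
  have h1 : Curv2.resMap k X (f.base y) a =
      X.Γevaluation (f.base y) (Coh.toGlobal (X ↘ Spec (CommRingCat.of k)) a) := rfl
  have h2 : Curv2.resMap k Y y a =
      Y.Γevaluation y (Coh.toGlobal (Y ↘ Spec (CommRingCat.of k)) a) := rfl
  rw [h1, h2]
  have h3 := Scheme.Γevaluation_naturality_apply f y
    (Coh.toGlobal (X ↘ Spec (CommRingCat.of k)) a)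
  refine h3.trans ?_
  congr 1
  simp only [Coh.toGlobal, ← hf, Scheme.Hom.comp_appTop, CommRingCat.hom_comp]
  rfl

theorem trdeg_residueField_le (f : Y ⟶ X)
    (hf : f ≫ (X ↘ Spec (CommRingCat.of k)) = Y ↘ Spec (CommRingCat.of k)) (y : Y) :
    @Algebra.trdeg k (X.residueField (f.base y)) _ _ (Curv2.resAlgebra k X (f.base y)) ≤
      @Algebra.trdeg k (Y.residueField y) _ _ (Curv2.resAlgebra k Y y) := by
  letI := Curv2.resAlgebra k X (f.base y)
  letI := Curv2.resAlgebra k Y y
  let φ : X.residueField (f.base y) →ₐ[k] Y.residueField y :=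
    { (f.residueFieldMap y).hom with
      commutes' := fun a => residueFieldMap_resMap k X Y f hf y a }
  exact trdeg_le_of_injective φ (f.residueFieldMap y).hom.injective

end Groth.Agent.Lib.helper7.DimSch
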