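import Mathlib
import Groth.Prelude.Def_Curv2
import Groth.Prelude.Def_Flat
import Groth.Agent.Lib.helper7.DimSch5

/-!
Helper lemmas (helper7): points of irreducible schemes locally of finite type over a field.
-/

set_option autoImplicit false

namespace Groth.Agent.Lib.helper7.DimSch

universe u

open AlgebraicGeometry CategoryTheory

/-- In a Noetherian quasi-sober space, a closed set all of whose points are closed is finite. -/
theorem finite_of_isClosed_of_forall_isClosed {T : Type*} [TopologicalSpace T]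
    [TopologicalSpace.NoetherianSpace T] [QuasiSober T] (Z : Set T) (hZ : IsClosed Z)
    (h : ∀ z ∈ Z, IsClosed ({z} : Set T)) : Z.Finite := by
  obtain ⟨S, hSf, hSc, hSi, hsup⟩ :=
    TopologicalSpace.NoetherianSpace.exists_finite_set_isClosed_irreducible hZ
  rw [hsup]
  refine hSf.sUnion fun t ht => ?_
  obtain ⟨c, hc⟩ := QuasiSober.sober (hSi t ht) (hSc t ht)
  have hcZ : c ∈ Z := by
    rw [hsup]
    exact Set.mem_sUnion.mpr ⟨t, ht, hc.mem⟩
  have : t = {c} := by
    rw [← hc.def, (h c hcZ).closure_eq]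
  rw [this]
  exact Set.finite_singleton c

variable (k : Type u) [Field k] (X : Scheme.{u}) [X.Over (Spec (CommRingCat.of k))]
  [LocallyOfFiniteType (X ↘ Spec (CommRingCat.of k))]

/-- A point whose residue field is algebraic over `k` is closed. -/
theorem isClosed_of_trdeg_eq_zero (x : X)
    (h : @Algebra.trdeg k (X.residueField x) _ _ (Curv2.resAlgebra k X x) = 0) :
    IsClosed ({x} : Set X) := by
  haveI := jacobsonSpace k X
  obtain ⟨_, ⟨W, hW, rfl⟩, hxW, -⟩ :=
    X.isBasis_affineOpens.exists_subset_of_mem_open (Set.mem_univ x) isOpen_univ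
  have hW' : IsAffineOpen W := hW
  obtain ⟨n, h1, h2⟩ := exists_trdeg_residueField_eq k X hW' x hxW
  rw [h1] at h
  have hn : n = 0 := by exact_mod_cast h
  rw [hn] at h2
  haveI := (hW'.primeIdealOf ⟨x, hxW⟩).isPrime
  haveI : Ring.KrullDimLE 0 (Γ(X, W) ⧸ (hW'.primeIdealOf ⟨x, hxW⟩).asIdeal) := by
    rw [Ring.krullDimLE_iff]; exact h2.le
  have hfield : IsField (Γ(X, W) ⧸ (hW'.primeIdealOf ⟨x, hxW⟩).asIdeal) :=
    Ring.KrullDimLE.isField_of_isDomain
  have hmax : (hW'.primeIdealOf ⟨x, hxW⟩).asIdeal.IsMaximal :=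
    Ideal.Quotient.maximal_of_isField _ hfield
  exact isClosed_singleton_of_isMaximal hW' ⟨x, hxW⟩ hmax

variable [IrreducibleSpace X]

/-- In an irreducible scheme of dimension `n` over `k`, residue fields have transcendence degree
`≤ n`, with equality only at the generic point. -/
theorem trdeg_le_of_irreducible (n : ℕ)
    (hn : @Algebra.trdeg k (X.residueField (genericPoint X)) _ _
      (Curv2.resAlgebra k X (genericPoint X)) = n) (x : X) :
    ∃ m : ℕ, @Algebra.trdeg k (X.residueField x) _ _ (Curv2.resAlgebra k X x) = m ∧ m ≤ n ∧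
      (m = n → x = genericPoint X) := by
  obtain ⟨_, ⟨W, hW, rfl⟩, hxW, -⟩ :=
    X.isBasis_affineOpens.exists_subset_of_mem_open (Set.mem_univ x) isOpen_univ
  have hW' : IsAffineOpen W := hW
  letI := (sectionMap k X W).toAlgebra
  haveI : Algebra.FiniteType k Γ(X, W) := sectionMap_finiteType k X hW'
  have hξW : genericPoint X ∈ W := (genericPoint_specializes x).mem_open W.isOpen hxW
  obtain ⟨m, h1, h2⟩ := exists_trdeg_residueField_eq k X hW' x hxW
  obtain ⟨n', h3, h4⟩ := exists_trdeg_residueField_eq k X hW' (genericPoint X) hξW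
  rw [h3] at hn
  have hnn : n' = n := by exact_mod_cast hn
  set p₀ := (hW'.primeIdealOf ⟨genericPoint X, hξW⟩).asIdeal with hp₀
  set q := (hW'.primeIdealOf ⟨x, hxW⟩).asIdeal with hq
  haveI : p₀.IsPrime := (hW'.primeIdealOf ⟨genericPoint X, hξW⟩).isPrime
  haveI : q.IsPrime := (hW'.primeIdealOf ⟨x, hxW⟩).isPrime
  have hle : p₀ ≤ q := (primeIdealOf_le_iff hW' ⟨genericPoint X, hξW⟩ ⟨x, hxW⟩).mpr
    (genericPoint_specializes x)
  have hdim := DimFT.ringKrullDim_quotient_eq_add_height_map (k := k) Γ(X, W) p₀ q hle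
  rw [h4, h2, hnn] at hdim
  haveI : (q.map (Ideal.Quotient.mk p₀)).IsPrime := Ideal.isPrime_map_quotientMk_of_isPrime hle
  haveI : IsNoetherianRing Γ(X, W) := Algebra.FiniteType.isNoetherianRing k _
  have hfin : (q.map (Ideal.Quotient.mk p₀)).height ≠ ⊤ := Ideal.height_ne_top_of_isPrime
  obtain ⟨h, hh⟩ := ENat.ne_top_iff_exists.mp hfin
  rw [← hh] at hdim
  have hnat : n = m + h := by exact_mod_cast hdim
  refine ⟨m, h1, by omega, ?_⟩
  intro hmn
  have h0 : h = 0 := by omega
  rw [h0] at hh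
  have hbot : q.map (Ideal.Quotient.mk p₀) = ⊥ :=
    Ideal.height_eq_zero_iff_eq_bot.mp (by rw [← hh]; rfl)
  have hqp : q ≤ p₀ := by
    rw [Ideal.map_eq_bot_iff_le_ker, Ideal.mk_ker] at hbot
    exact hbot
  have heq : hW'.primeIdealOf ⟨x, hxW⟩ = hW'.primeIdealOf ⟨genericPoint X, hξW⟩ :=
    PrimeSpectrum.ext (le_antisymm hqp hle)
  exact congrArg Subtype.val (primeIdealOf_injective hW' heq)

end Groth.Agent.Lib.helper7.DimSch
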