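import Mathlib
import Groth.Prelude.Def_Curv2
import Groth.Prelude.Def_Flat
import Groth.Agent.Lib.helper7.DimSch6
import Groth.Agent.Lib.helper7.DimFT2
import Groth.Agent.Lib.helper9.TopDim

/-!
Helper lemmas (helper7): dimension of closed subsets of a scheme locally of finite type over a
field in terms of transcendence degrees of residue fields.
-/

set_option autoImplicit false

namespace Groth.Agent.Lib.helper7.DimSch

universe u

open AlgebraicGeometry CategoryTheory TopologicalSpace

variable (k : Type u) [Field k] (X : Scheme.{u}) [X.Over (Spec (CommRingCat.of k))]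
  [LocallyOfFiniteType (X ↘ Spec (CommRingCat.of k))]

/-- The transcendence degree of `κ(x)` over `k` as a natural number. -/
noncomputable def trdegNat (x : X) : ℕ :=
  Cardinal.toNat (@Algebra.trdeg k (X.residueField x) _ _ (Curv2.resAlgebra k X x))

theorem trdegNat_spec (x : X) :
    @Algebra.trdeg k (X.residueField x) _ _ (Curv2.resAlgebra k X x) = (trdegNat k X x : Cardinal) := by
  obtain ⟨_, ⟨U, hU, rfl⟩, hxU, -⟩ :=
    X.isBasis_affineOpens.exists_subset_of_mem_open (Set.mem_univ x) isOpen_univ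
  obtain ⟨n, hn, -⟩ := exists_trdeg_residueField_eq k X hU x hxU
  rw [trdegNat, hn, Cardinal.toNat_natCast]

theorem ringKrullDim_quotient_primeIdealOf {U : X.Opens} (hU : IsAffineOpen U) (x : X)
    (hx : x ∈ U) :
    ringKrullDim (Γ(X, U) ⧸ (hU.primeIdealOf ⟨x, hx⟩).asIdeal) = (trdegNat k X x : ℕ) := by
  obtain ⟨n, hn, h2⟩ := exists_trdeg_residueField_eq k X hU x hx
  rw [h2, trdegNat, hn, Cardinal.toNat_natCast]

theorem trdegNat_lt_of_specializes (x y : X) (h : x ⤳ y) (hne : x ≠ y) :
    trdegNat k X y < trdegNat k X x := by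
  obtain ⟨_, ⟨U, hU, rfl⟩, hyU, -⟩ :=
    X.isBasis_affineOpens.exists_subset_of_mem_open (Set.mem_univ y) isOpen_univ
  have hU' : IsAffineOpen U := hU
  have hxU : x ∈ U := h.mem_open U.isOpen hyU
  letI := (sectionMap k X U).toAlgebra
  haveI : Algebra.FiniteType k Γ(X, U) := sectionMap_finiteType k X hU'
  set p := hU'.primeIdealOf ⟨x, hxU⟩ with hp
  set q := hU'.primeIdealOf ⟨y, hyU⟩ with hq
  have hle : p ≤ q := (primeIdealOf_le_iff hU' _ _).mpr h
  have hnle : ¬ q.asIdeal ≤ p.asIdeal := by
    intro h'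
    have : p = q := PrimeSpectrum.ext (le_antisymm hle h')
    have := primeIdealOf_injective hU' this
    exact hne (congrArg Subtype.val this)
  haveI : (q.asIdeal.map (Ideal.Quotient.mk p.asIdeal)).IsPrime :=
    Ideal.isPrime_map_quotientMk_of_isPrime hle
  have h1 := DimFT.ringKrullDim_quotient_eq_add_height_map (k := k) Γ(X, U) p.asIdeal q.asIdeal hle
  rw [ringKrullDim_quotient_primeIdealOf k X hU' x hxU,
    ringKrullDim_quotient_primeIdealOf k X hU' y hyU] at h1
  have h2 : (q.asIdeal.map (Ideal.Quotient.mk p.asIdeal)).height ≠ 0 := by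
    intro h0
    rw [Ideal.height_eq_zero_iff, IsDomain.minimalPrimes_eq_singleton_bot, Set.mem_singleton_iff,
      Ideal.map_eq_bot_iff_le_ker, Ideal.mk_ker] at h0
    exact hnle h0
  have h3 : ((trdegNat k X x : ℕ) : ℕ∞) = (trdegNat k X y : ℕ) +
      (q.asIdeal.map (Ideal.Quotient.mk p.asIdeal)).height := by exact_mod_cast h1
  have h4 : (1 : ℕ∞) ≤ (q.asIdeal.map (Ideal.Quotient.mk p.asIdeal)).height :=
    Order.one_le_iff_ne_zero.mpr h2
  have h5 : ((trdegNat k X y : ℕ) : ℕ∞) + 1 ≤ (trdegNat k X x : ℕ) := by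
    rw [h3]; gcongr
  have h6 : trdegNat k X y + 1 ≤ trdegNat k X x := by exact_mod_cast h5
  omega

theorem trdegNat_le_of_specializes (x y : X) (h : x ⤳ y) :
    trdegNat k X y ≤ trdegNat k X x := by
  by_cases hne : x = y
  · rw [hne]
  · exact (trdegNat_lt_of_specializes k X x y h hne).le

/-- The height of an irreducible closed subset is at most the transcendence degree of its
generic point. -/
theorem height_le_trdegNat (C : IrreducibleCloseds X) (ξ : X)
    (hξ : IsGenericPoint ξ (C : Set X)) :
    Order.height C ≤ (trdegNat k X ξ : ℕ∞) := by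
  let φ : IrreducibleCloseds X → ℕ := fun C => trdegNat k X C.2.genericPoint
  have hgp : ∀ C : IrreducibleCloseds X, IsGenericPoint C.2.genericPoint (C : Set X) := fun C =>
    C.2.isGenericPoint_genericPoint C.3
  have hφ : StrictMono φ := by
    intro C C' hlt
    have h1 : (C : Set X) ⊆ C' := hlt.le
    have h2 : C'.2.genericPoint ⤳ C.2.genericPoint := (hgp C').specializes (h1 (hgp C).mem)
    have h3 : C'.2.genericPoint ≠ C.2.genericPoint := by
      intro he
      have : (C' : Set X) = C := by rw [← (hgp C').def, ← (hgp C).def, he]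
      exact hlt.ne (IrreducibleCloseds.ext this.symm)
    exact trdegNat_lt_of_specializes k X _ _ h2 h3
  have h1 := Order.height_le_height_apply_of_strictMono φ hφ C
  rw [Order.height_nat] at h1
  have h2 : C.2.genericPoint = ξ := (hgp C).eq hξ
  rw [← h2]
  exact h1

theorem topologicalKrullDim_le_iSup_trdegNat (Z : Set X) (hZ : IsClosed Z) :
    topologicalKrullDim Z ≤ ⨆ z : Z, ((trdegNat k X z : ℕ∞) : WithBot ℕ∞) := by
  have hemb : Topology.IsClosedEmbedding (Subtype.val : ↥Z → X) := hZ.isClosedEmbedding_subtypeVal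
  rw [topologicalKrullDim, Order.krullDim_eq_iSup_height]
  refine iSup_le fun T => ?_
  rw [← Groth.Agent.H9TopDim.height_map_of_isClosedEmbedding hemb T]
  set C := IrreducibleCloseds.map Subtype.val hemb.continuous T with hC
  have hgp : IsGenericPoint C.2.genericPoint (C : Set X) := C.2.isGenericPoint_genericPoint C.3
  have hmem : C.2.genericPoint ∈ Z := by
    have h1 : C.2.genericPoint ∈ (C : Set X) := hgp.mem
    rw [hC, IrreducibleCloseds.coe_map] at h1
    have h2 : closure (Subtype.val '' (T : Set ↥Z)) ⊆ Z := by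
      refine closure_minimal ?_ hZ
      rintro _ ⟨z, -, rfl⟩
      exact z.2
    exact h2 h1
  have h1 := height_le_trdegNat k X C _ hgp
  calc ((Order.height C : ℕ∞) : WithBot ℕ∞) ≤ ((trdegNat k X C.2.genericPoint : ℕ∞) : WithBot ℕ∞) := by
        exact_mod_cast h1
    _ ≤ _ := le_iSup (fun z : Z => ((trdegNat k X z : ℕ∞) : WithBot ℕ∞)) ⟨_, hmem⟩

theorem topologicalKrullDim_le_of_forall_trdegNat_le (Z : Set X) (hZ : IsClosed Z) (n : ℕ)
    (h : ∀ z ∈ Z, trdegNat k X z ≤ n) : topologicalKrullDim Z ≤ n := by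
  refine (topologicalKrullDim_le_iSup_trdegNat k X Z hZ).trans (iSup_le fun z => ?_)
  exact_mod_cast h z z.2

/-- `trdeg κ(z) ≤ dim Z` whenever `closure {z} ⊆ Z`. -/
theorem trdegNat_le_topologicalKrullDim (Z : Set X) (z : X) (hz : closure {z} ⊆ Z) :
    ((trdegNat k X z : ℕ) : WithBot ℕ∞) ≤ topologicalKrullDim Z := by
  obtain ⟨_, ⟨U, hU, rfl⟩, hzU, -⟩ :=
    X.isBasis_affineOpens.exists_subset_of_mem_open (Set.mem_univ z) isOpen_univ
  have hU' : IsAffineOpen U := hU
  set p := hU'.primeIdealOf ⟨z, hzU⟩ with hp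
  let g : PrimeSpectrum (Γ(X, U) ⧸ p.asIdeal) → X := fun P =>
    hU'.fromSpec (PrimeSpectrum.comap (Ideal.Quotient.mk p.asIdeal) P)
  have h1 : Topology.IsInducing g := by
    have ha : Topology.IsInducing (PrimeSpectrum.comap (Ideal.Quotient.mk p.asIdeal)) :=
      (PrimeSpectrum.isClosedEmbedding_comap_of_surjective _ _
        Ideal.Quotient.mk_surjective).isInducing
    have hb : Topology.IsInducing hU'.fromSpec := hU'.fromSpec.isOpenEmbedding.isInducing
    exact hb.comp ha
  have h2 : ∀ P, g P ∈ Z := by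
    intro P
    apply hz
    have h3 : p ≤ PrimeSpectrum.comap (Ideal.Quotient.mk p.asIdeal) P := by
      show p.asIdeal ≤ (P.asIdeal.comap (Ideal.Quotient.mk p.asIdeal))
      conv_lhs => rw [← Ideal.mk_ker (I := p.asIdeal), RingHom.ker_eq_comap_bot]
      exact Ideal.comap_mono bot_le
    have h4 : p ⤳ PrimeSpectrum.comap (Ideal.Quotient.mk p.asIdeal) P :=
      (PrimeSpectrum.le_iff_specializes _ _).mp h3
    have h5 := h4.map hU'.fromSpec.continuous
    have h6 : hU'.fromSpec p = z := hU'.fromSpec_primeIdealOf ⟨z, hzU⟩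
    rw [h6] at h5
    exact h5.mem_closure
  have h3 : Topology.IsInducing (Set.codRestrict g Z h2) := h1.codRestrict h2
  have h4 := h3.topologicalKrullDim_le
  rw [PrimeSpectrum.topologicalKrullDim_eq_ringKrullDim,
    ringKrullDim_quotient_primeIdealOf k X hU' z hzU] at h4
  exact h4

/-- The dimension of a closed subset of a scheme locally of finite type over a field is the
supremum of the transcendence degrees of the residue fields of its points. -/
theorem topologicalKrullDim_closed_eq_iSup (Z : Set X) (hZ : IsClosed Z) :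
    topologicalKrullDim Z = ⨆ z : Z, ((trdegNat k X z : ℕ∞) : WithBot ℕ∞) := by
  refine le_antisymm (topologicalKrullDim_le_iSup_trdegNat k X Z hZ) (iSup_le fun z => ?_)
  have := trdegNat_le_topologicalKrullDim k X Z z
    (closure_minimal (Set.singleton_subset_iff.mpr z.2) hZ)
  exact_mod_cast this

end Groth.Agent.Lib.helper7.DimSch
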