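import Mathlib
import Groth.Prelude.Def_Curv2
import Groth.Prelude.Def_Flat
import Groth.Agent.Lib.helper7.DimSch7
import Groth.Agent.Lib.helper7.DimSch5
import Groth.Agent.Lib.helper7.FibStalk

/-!
Helper lemmas (helper7): residue fields of points of fibres; additivity of transcendence degrees
`trdeg_k κ(x) = trdeg_k κ(y) + trdeg_{κ(y)} κ(x)` for a point `x` of the fibre `X_y`.
-/

set_option autoImplicit false

namespace Groth.Agent.Lib.helper7.DimSch

universe u

open AlgebraicGeometry CategoryTheory

theorem fromSpecResidueField_appTop_ΓSpecIso (Z : Scheme.{u}) (z : Z) :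
    (Z.fromSpecResidueField z).appTop ≫ (Scheme.ΓSpecIso (Z.residueField z)).hom =
      Z.Γevaluation z := by
  rw [Scheme.fromSpecResidueField, Scheme.Hom.comp_appTop, Category.assoc,
    Scheme.ΓSpecIso_naturality, Scheme.fromSpecStalk_appTop]
  simp only [Category.assoc]
  have : (Spec (Z.presheaf.stalk z)).presheaf.map
      (homOfLE (le_top : (⊤ : (Spec (Z.presheaf.stalk z)).Opens) ≤ ⊤)).op = 𝟙 _ := by
    rw [← (Spec (Z.presheaf.stalk z)).presheaf.map_id]; rfl
  rw [this, Category.id_comp, Iso.inv_hom_id_assoc]
  rfl

theorem residueFieldCongr_resMap (k : Type u) [Field k] (Y : Scheme.{u})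
    [Y.Over (Spec (CommRingCat.of k))] {y y' : Y} (e : y = y') (a : k) :
    (Y.residueFieldCongr e).hom.hom (Curv2.resMap k Y y a) = Curv2.resMap k Y y' a := by
  subst e
  simp

section fiber

variable {X Y : Scheme.{u}} (f : X ⟶ Y) (y : Y) (x' : f.fiber y)

/-- The ring hom `κ(y) → κ(x)` for a point `x'` of the fibre `X_y` with image `x` in `X`. -/
noncomputable def fiberResMap : Y.residueField y →+* X.residueField (f.fiberι y x') :=
  (f.residueFieldMap (f.fiberι y x')).hom.comp
    (Y.residueFieldCongr (FibStalk.apply_fiberι f y x').symm).hom.hom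

theorem SpecMap_fiberResMap :
    Spec.map (CommRingCat.ofHom (fiberResMap f y x')) ≫ Y.fromSpecResidueField y =
      X.fromSpecResidueField (f.fiberι y x') ≫ f := by
  have h1 : CommRingCat.ofHom (fiberResMap f y x') =
      (Y.residueFieldCongr (FibStalk.apply_fiberι f y x').symm).hom ≫
        f.residueFieldMap (f.fiberι y x') := rfl
  rw [h1, Spec.map_comp, Category.assoc, Scheme.residueFieldCongr_fromSpecResidueField,
    Scheme.Hom.SpecMap_residueFieldMap_fromSpecResidueField]

/-- The residue field map of `X_y → X` at `x'` is `κ(y)`-linear. -/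
theorem residueFieldMap_fiberι_comp_fiberResMap :
    letI : (f.fiber y).Over (Spec (CommRingCat.of (Y.residueField y))) :=
      ⟨f.fiberToSpecResidueField y⟩
    ((f.fiberι y).residueFieldMap x').hom.comp (fiberResMap f y x') =
      Curv2.resMap (Y.residueField y) (f.fiber y) x' := by
  letI inst : (f.fiber y).Over (Spec (CommRingCat.of (Y.residueField y))) :=
    ⟨f.fiberToSpecResidueField y⟩
  have h1 : Spec.map (CommRingCat.ofHom
      (((f.fiberι y).residueFieldMap x').hom.comp (fiberResMap f y x'))) ≫
        Y.fromSpecResidueField y =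
      (f.fiber y).fromSpecResidueField x' ≫ f.fiberToSpecResidueField y ≫
        Y.fromSpecResidueField y := by
    have h0 : CommRingCat.ofHom
        (((f.fiberι y).residueFieldMap x').hom.comp (fiberResMap f y x')) =
        CommRingCat.ofHom (fiberResMap f y x') ≫ (f.fiberι y).residueFieldMap x' := rfl
    rw [h0, Spec.map_comp, Category.assoc, SpecMap_fiberResMap, ← Category.assoc,
      Scheme.Hom.SpecMap_residueFieldMap_fromSpecResidueField, Category.assoc, f.fiber_fac]
  have h2 : Spec.map (CommRingCat.ofHom (Curv2.resMap (Y.residueField y) (f.fiber y) x')) =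
      (f.fiber y).fromSpecResidueField x' ≫ f.fiberToSpecResidueField y := by
    obtain ⟨φ, hφ⟩ := Spec.map_surjective
      ((f.fiber y).fromSpecResidueField x' ≫ f.fiberToSpecResidueField y)
    rw [← hφ]
    congr 1
    have h3 := Scheme.ΓSpecIso_naturality φ
    rw [hφ, Scheme.Hom.comp_appTop, Category.assoc, fromSpecResidueField_appTop_ΓSpecIso] at h3
    have h4 : φ = (Scheme.ΓSpecIso (Y.residueField y)).inv ≫
        (f.fiberToSpecResidueField y).appTop ≫ (f.fiber y).Γevaluation x' := by
      rw [h3, Iso.inv_hom_id_assoc]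
    rw [h4]
    rfl
  have h3 : Spec.map (CommRingCat.ofHom
      (((f.fiberι y).residueFieldMap x').hom.comp (fiberResMap f y x'))) =
      Spec.map (CommRingCat.ofHom (Curv2.resMap (Y.residueField y) (f.fiber y) x')) := by
    rw [← cancel_mono (Y.fromSpecResidueField y), h1, h2, Category.assoc]
  have h4 := Spec.map_injective h3
  exact congrArg CommRingCat.Hom.hom h4

theorem residueFieldMap_fiberι_bijective :
    Function.Bijective ((f.fiberι y).residueFieldMap x').hom := by
  refine ⟨((f.fiberι y).residueFieldMap x').hom.injective, ?_⟩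
  intro l
  obtain ⟨b, rfl⟩ := (f.fiber y).residue_surjective x' l
  obtain ⟨a, rfl⟩ := (f.fiberι y).stalkMap_surjective x' b
  refine ⟨(X.residue _).hom a, ?_⟩
  have := Scheme.residue_residueFieldMap (f.fiberι y) x'
  exact congrArg (fun φ => φ.hom a) this

variable (k : Type u) [Field k] [X.Over (Spec (CommRingCat.of k))]
  [Y.Over (Spec (CommRingCat.of k))]

/-- Additivity of transcendence degrees for a point of a fibre. -/
theorem trdeg_fiber (hf : f ≫ (Y ↘ Spec (CommRingCat.of k)) = X ↘ Spec (CommRingCat.of k)) :
    letI : (f.fiber y).Over (Spec (CommRingCat.of (Y.residueField y))) :=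
      ⟨f.fiberToSpecResidueField y⟩
    @Algebra.trdeg k (X.residueField (f.fiberι y x')) _ _ (Curv2.resAlgebra k X _) =
      @Algebra.trdeg k (Y.residueField y) _ _ (Curv2.resAlgebra k Y y) +
        @Algebra.trdeg (Y.residueField y) ((f.fiber y).residueField x') _ _
          (Curv2.resAlgebra (Y.residueField y) (f.fiber y) x') := by
  letI inst : (f.fiber y).Over (Spec (CommRingCat.of (Y.residueField y))) :=
    ⟨f.fiberToSpecResidueField y⟩
  letI a1 : Algebra k (Y.residueField y) := Curv2.resAlgebra k Y y
  letI a2 : Algebra (Y.residueField y) ((f.fiber y).residueField x') :=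
    Curv2.resAlgebra (Y.residueField y) (f.fiber y) x'
  letI a3 : Algebra k (X.residueField (f.fiberι y x')) := Curv2.resAlgebra k X _
  letI a4 : Algebra k ((f.fiber y).residueField x') :=
    ((algebraMap (Y.residueField y) ((f.fiber y).residueField x')).comp
      (algebraMap k (Y.residueField y))).toAlgebra
  haveI : IsScalarTower k (Y.residueField y) ((f.fiber y).residueField x') :=
    IsScalarTower.of_algebraMap_eq (fun _ => rfl)
  have h1 := trdeg_add_eq k (Y.residueField y) (A := (f.fiber y).residueField x')
  have hcomm : ∀ a : k, ((f.fiberι y).residueFieldMap x').hom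
      (algebraMap k (X.residueField (f.fiberι y x')) a) =
      algebraMap k ((f.fiber y).residueField x') a := by
    intro a
    have e1 : Curv2.resMap k X (f.fiberι y x') a =
        fiberResMap f y x' (Curv2.resMap k Y y a) := by
      rw [fiberResMap, RingHom.comp_apply, residueFieldCongr_resMap]
      exact (residueFieldMap_resMap k Y X f hf (f.fiberι y x') a).symm
    show ((f.fiberι y).residueFieldMap x').hom (Curv2.resMap k X (f.fiberι y x') a) =
      Curv2.resMap (Y.residueField y) (f.fiber y) x' (Curv2.resMap k Y y a)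
    rw [e1, ← residueFieldMap_fiberι_comp_fiberResMap]
    rfl
  let Ψ : X.residueField (f.fiberι y x') ≃ₐ[k] (f.fiber y).residueField x' :=
    AlgEquiv.ofBijective
      { ((f.fiberι y).residueFieldMap x').hom with commutes' := hcomm }
      (residueFieldMap_fiberι_bijective f y x')
  rw [Ψ.trdeg_eq, ← h1]

end fiber

end Groth.Agent.Lib.helper7.DimSch
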