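import Mathlib
import Groth.Prelude.Def_Curv2
import Groth.Prelude.Def_Flat
import Groth.Agent.Lib.helper7.DimSch8

/-!
Helper lemmas (helper7): dimension of fibres of morphisms of schemes locally of finite type over a
field, via transcendence degrees.
-/

set_option autoImplicit false

namespace Groth.Agent.Lib.helper7.DimSch

universe u

open AlgebraicGeometry CategoryTheory

/-- `dim X = sup_x trdeg κ(x)`. -/
theorem topologicalKrullDim_eq_iSup_trdegNat (k : Type u) [Field k] (X : Scheme.{u})
    [X.Over (Spec (CommRingCat.of k))] [LocallyOfFiniteType (X ↘ Spec (CommRingCat.of k))] :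
    topologicalKrullDim X = ⨆ x : X, ((trdegNat k X x : ℕ∞) : WithBot ℕ∞) := by
  have h1 := topologicalKrullDim_closed_eq_iSup k X Set.univ isClosed_univ
  have h2 : topologicalKrullDim (Set.univ : Set X) = topologicalKrullDim X :=
    IsHomeomorph.topologicalKrullDim_eq _ (Homeomorph.Set.univ X).isHomeomorph
  rw [← h2, h1]
  apply le_antisymm
  · exact iSup_le fun z => le_iSup (fun x : X => ((trdegNat k X x : ℕ∞) : WithBot ℕ∞)) z.1
  · exact iSup_le fun x => le_iSup (fun z : (Set.univ : Set X) =>
      ((trdegNat k X z : ℕ∞) : WithBot ℕ∞)) ⟨x, trivial⟩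

section fiber

variable {X Y : Scheme.{u}} (f : X ⟶ Y) [LocallyOfFiniteType f] (y : Y)

/-- The transcendence degree over `κ(y)` of the residue field of a point of the fibre `X_y`. -/
noncomputable def fiberTrdegNat (x' : f.fiber y) : ℕ :=
  letI : (f.fiber y).Over (Spec (CommRingCat.of (Y.residueField y))) :=
    ⟨f.fiberToSpecResidueField y⟩
  haveI : LocallyOfFiniteType ((f.fiber y) ↘ Spec (CommRingCat.of (Y.residueField y))) :=
    (MorphismProperty.pullback_snd _ _ inferInstance : LocallyOfFiniteType (f.fiberToSpecResidueField y))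
  trdegNat (Y.residueField y) (f.fiber y) x'

theorem topologicalKrullDim_fiber :
    topologicalKrullDim (f.fiber y) =
      ⨆ x' : f.fiber y, ((fiberTrdegNat f y x' : ℕ∞) : WithBot ℕ∞) := by
  letI : (f.fiber y).Over (Spec (CommRingCat.of (Y.residueField y))) :=
    ⟨f.fiberToSpecResidueField y⟩
  haveI : LocallyOfFiniteType ((f.fiber y) ↘ Spec (CommRingCat.of (Y.residueField y))) :=
    (MorphismProperty.pullback_snd _ _ inferInstance : LocallyOfFiniteType (f.fiberToSpecResidueField y))
  exact topologicalKrullDim_eq_iSup_trdegNat (Y.residueField y) (f.fiber y)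

theorem topologicalKrullDim_preimage_singleton :
    topologicalKrullDim (f.base ⁻¹' {y}) =
      ⨆ x' : f.fiber y, ((fiberTrdegNat f y x' : ℕ∞) : WithBot ℕ∞) := by
  rw [← topologicalKrullDim_fiber]
  exact (IsHomeomorph.topologicalKrullDim_eq _ (f.fiberHomeo y).isHomeomorph).symm

theorem fiberTrdegNat_le_dim (x' : f.fiber y) :
    ((fiberTrdegNat f y x' : ℕ) : WithBot ℕ∞) ≤ topologicalKrullDim (f.base ⁻¹' {y}) := by
  rw [topologicalKrullDim_preimage_singleton]
  exact le_iSup (fun x' : f.fiber y => ((fiberTrdegNat f y x' : ℕ∞) : WithBot ℕ∞)) x'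

theorem exists_fiberTrdegNat_ge (r : ℕ)
    (h : (r : WithBot ℕ∞) ≤ topologicalKrullDim (f.base ⁻¹' {y})) :
    ∃ x' : f.fiber y, r ≤ fiberTrdegNat f y x' := by
  by_contra hcon
  push Not at hcon
  rw [topologicalKrullDim_preimage_singleton] at h
  rcases Nat.eq_zero_or_pos r with h0 | hpos
  · subst h0
    rcases isEmpty_or_nonempty (f.fiber y) with he | ⟨⟨x'⟩⟩
    · rw [iSup_of_empty] at h
      exact absurd h (by simp)
    · exact absurd (hcon x') (by omega)
  · obtain ⟨m, rfl⟩ := Nat.exists_eq_succ_of_ne_zero hpos.ne'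
    have h1 : (⨆ x' : f.fiber y, ((fiberTrdegNat f y x' : ℕ∞) : WithBot ℕ∞)) ≤
        ((m : ℕ) : WithBot ℕ∞) := by
      refine iSup_le fun x' => ?_
      have := hcon x'
      have h2 : fiberTrdegNat f y x' ≤ m := by omega
      exact_mod_cast h2
    have h2 := h.trans h1
    have h3 : m + 1 ≤ m := by exact_mod_cast h2
    omega

variable (k : Type u) [Field k] [X.Over (Spec (CommRingCat.of k))]
  [Y.Over (Spec (CommRingCat.of k))] [LocallyOfFiniteType (X ↘ Spec (CommRingCat.of k))]
  [LocallyOfFiniteType (Y ↘ Spec (CommRingCat.of k))]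

theorem trdegNat_eq_add_fiberTrdegNat
    (hf : f ≫ (Y ↘ Spec (CommRingCat.of k)) = X ↘ Spec (CommRingCat.of k)) (x' : f.fiber y) :
    trdegNat k X (f.fiberι y x') = trdegNat k Y y + fiberTrdegNat f y x' := by
  letI : (f.fiber y).Over (Spec (CommRingCat.of (Y.residueField y))) :=
    ⟨f.fiberToSpecResidueField y⟩
  haveI : LocallyOfFiniteType ((f.fiber y) ↘ Spec (CommRingCat.of (Y.residueField y))) :=
    (MorphismProperty.pullback_snd _ _ inferInstance : LocallyOfFiniteType (f.fiberToSpecResidueField y))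
  have h1 := trdeg_fiber f y x' k hf
  rw [trdegNat_spec k X, trdegNat_spec k Y, trdegNat_spec (Y.residueField y) (f.fiber y)] at h1
  have h2 : ((trdegNat k X (f.fiberι y x') : ℕ) : Cardinal) =
      ((trdegNat k Y y + trdegNat (Y.residueField y) (f.fiber y) x' : ℕ) : Cardinal) := by
    rw [h1]; push_cast; rfl
  exact_mod_cast h2

/-- Every point `x` of `X`: `trdeg κ(x) = trdeg κ(f x) + (fibre transcendence degree)`. -/
theorem trdegNat_eq_add_fiberTrdegNat'
    (hf : f ≫ (Y ↘ Spec (CommRingCat.of k)) = X ↘ Spec (CommRingCat.of k)) (x : X) :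
    trdegNat k X x = trdegNat k Y (f.base x) + fiberTrdegNat f (f.base x) (f.asFiber x) := by
  have h := trdegNat_eq_add_fiberTrdegNat f (f.base x) k hf (f.asFiber x)
  rw [f.fiberι_asFiber] at h
  exact h

end fiber

end Groth.Agent.Lib.helper7.DimSch
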