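import Mathlib
import Groth.Prelude.Def_Curv2
import Groth.Prelude.Def_Flat
import Groth.Agent.Lib.helper7.DimSch9

/-!
Helper lemmas (helper7): bounds for `dim X` in terms of `dim Y` and fibre dimensions for a morphism
`f : X ⟶ Y` locally of finite type with `Y` locally of finite type over a field.
-/

set_option autoImplicit false

namespace Groth.Agent.Lib.helper7.DimSch

universe u

open AlgebraicGeometry CategoryTheory

/-- Every point has a maximal generization (quasi-sober space). -/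
theorem exists_maximal_generization {T : Type*} [TopologicalSpace T] [QuasiSober T] [T0Space T]
    (y : T) : ∃ η : T, η ⤳ y ∧ ∀ z : T, z ⤳ η → z = η := by
  obtain ⟨η, hη⟩ := QuasiSober.sober (isIrreducible_irreducibleComponent (x := y))
    isClosed_irreducibleComponent
  refine ⟨η, hη.specializes mem_irreducibleComponent, ?_⟩
  refine (closure_mem_irreducibleComponents_iff η).mp ?_
  rw [hη.def]
  exact irreducibleComponent_mem_irreducibleComponents y


theorem add_dim_le_of_le_fiber (k : Type u) [Field k] {X Y : Scheme.{u}}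
    (q : Y ⟶ Spec (CommRingCat.of k)) [LocallyOfFiniteType q] (f : X ⟶ Y)
    [LocallyOfFiniteType f] (r : ℕ)
    (hfib : ∀ η : Y, (∀ y : Y, y ⤳ η → y = η) →
      (r : WithBot ℕ∞) ≤ topologicalKrullDim (f.base ⁻¹' {η})) :
    (r : WithBot ℕ∞) + topologicalKrullDim Y ≤ topologicalKrullDim X := by
  letI : Y.Over (Spec (CommRingCat.of k)) := ⟨q⟩
  letI : X.Over (Spec (CommRingCat.of k)) := ⟨f ≫ q⟩
  haveI : LocallyOfFiniteType (Y ↘ Spec (CommRingCat.of k)) := ‹LocallyOfFiniteType q›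
  haveI : LocallyOfFiniteType (X ↘ Spec (CommRingCat.of k)) :=
    (inferInstance : LocallyOfFiniteType (f ≫ q))
  have hf : f ≫ (Y ↘ Spec (CommRingCat.of k)) = X ↘ Spec (CommRingCat.of k) := rfl
  have key : ∀ y : Y, (((r : ℕ∞) + (trdegNat k Y y : ℕ∞) : ℕ∞) : WithBot ℕ∞) ≤
      topologicalKrullDim X := by
    intro y
    obtain ⟨η, hηy, hmax⟩ := exists_maximal_generization y
    obtain ⟨x', hx'⟩ := exists_fiberTrdegNat_ge f η r (hfib η hmax)
    have h1 := trdegNat_eq_add_fiberTrdegNat f η k hf x'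
    have h2 : trdegNat k Y y ≤ trdegNat k Y η := trdegNat_le_of_specializes k Y η y hηy
    have h3 := le_iSup (fun x : X => ((trdegNat k X x : ℕ∞) : WithBot ℕ∞)) (f.fiberι η x')
    rw [← topologicalKrullDim_eq_iSup_trdegNat k X] at h3
    refine le_trans ?_ h3
    have h4 : r + trdegNat k Y y ≤ trdegNat k X (f.fiberι η x') := by omega
    exact_mod_cast h4
  rw [topologicalKrullDim_eq_iSup_trdegNat k Y]
  rcases isEmpty_or_nonempty Y with hE | hN
  · rw [iSup_of_empty]
    simp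
  · have e : (⨆ y : Y, ((trdegNat k Y y : ℕ∞) : WithBot ℕ∞)) =
        ((⨆ y : Y, (trdegNat k Y y : ℕ∞) : ℕ∞) : WithBot ℕ∞) :=
      (WithBot.coe_iSup (OrderTop.bddAbove _)).symm
    have e2 : (r : WithBot ℕ∞) = ((r : ℕ∞) : WithBot ℕ∞) := rfl
    rw [e, e2, ← WithBot.coe_add, ENat.add_iSup, WithBot.coe_iSup (OrderTop.bddAbove _)]
    exact iSup_le key

theorem dim_le_add_of_fiber_le (k : Type u) [Field k] {X Y : Scheme.{u}}
    (q : Y ⟶ Spec (CommRingCat.of k)) [LocallyOfFiniteType q] (f : X ⟶ Y)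
    [LocallyOfFiniteType f] (r : ℕ)
    (hfib : ∀ y : Y, topologicalKrullDim (f.base ⁻¹' {y}) ≤ r) :
    topologicalKrullDim X ≤ (r : WithBot ℕ∞) + topologicalKrullDim Y := by
  letI : Y.Over (Spec (CommRingCat.of k)) := ⟨q⟩
  letI : X.Over (Spec (CommRingCat.of k)) := ⟨f ≫ q⟩
  haveI : LocallyOfFiniteType (Y ↘ Spec (CommRingCat.of k)) := ‹LocallyOfFiniteType q›
  haveI : LocallyOfFiniteType (X ↘ Spec (CommRingCat.of k)) :=
    (inferInstance : LocallyOfFiniteType (f ≫ q))
  have hf : f ≫ (Y ↘ Spec (CommRingCat.of k)) = X ↘ Spec (CommRingCat.of k) := rfl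
  rw [topologicalKrullDim_eq_iSup_trdegNat k X]
  refine iSup_le fun x => ?_
  have h1 := trdegNat_eq_add_fiberTrdegNat' f k hf x
  have h2 : ((fiberTrdegNat f (f.base x) (f.asFiber x) : ℕ) : WithBot ℕ∞) ≤ r :=
    (fiberTrdegNat_le_dim f (f.base x) (f.asFiber x)).trans (hfib _)
  have h3 : ((trdegNat k Y (f.base x) : ℕ) : WithBot ℕ∞) ≤ topologicalKrullDim Y := by
    rw [topologicalKrullDim_eq_iSup_trdegNat k Y]
    exact le_iSup (fun y : Y => ((trdegNat k Y y : ℕ∞) : WithBot ℕ∞)) (f.base x)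
  have h4 : ((trdegNat k X x : ℕ∞) : WithBot ℕ∞) =
      ((fiberTrdegNat f (f.base x) (f.asFiber x) : ℕ) : WithBot ℕ∞) +
        ((trdegNat k Y (f.base x) : ℕ) : WithBot ℕ∞) := by
    rw [h1, add_comm]; push_cast; rfl
  rw [h4]
  exact add_le_add h2 h3

end Groth.Agent.Lib.helper7.DimSch
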