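import Mathlib
import Groth.Prelude.Def_Curv2
import Groth.Prelude.Def_Flat
import Groth.Agent.Lib.helper7.DimSch10
import Groth.Agent.Lib.helper7.FibDim

/-!
Helper lemmas (helper7): dimensions of irreducible components of fibres of flat morphisms between
equidimensional schemes locally of finite type over a field.
-/

set_option autoImplicit false

namespace Groth.Agent.Lib.helper7.DimSch

universe u

open AlgebraicGeometry CategoryTheory IsLocalRing

section single

variable (k : Type u) [Field k] (X : Scheme.{u}) [X.Over (Spec (CommRingCat.of k))]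
  [LocallyOfFiniteType (X ↘ Spec (CommRingCat.of k))]

theorem topologicalKrullDim_closure_singleton (z : X) :
    topologicalKrullDim (closure ({z} : Set X)) = ((trdegNat k X z : ℕ) : WithBot ℕ∞) := by
  apply le_antisymm
  · exact topologicalKrullDim_le_of_forall_trdegNat_le k X _ isClosed_closure _
      (fun w hw => trdegNat_le_of_specializes k X z w (specializes_iff_mem_closure.mpr hw))
  · exact trdegNat_le_topologicalKrullDim k X _ z le_rfl

theorem trdegNat_eq_of_forall_irreducibleComponents (e : ℕ)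
    (h : ∀ Z ∈ irreducibleComponents (X : Type u), topologicalKrullDim Z = (e : WithBot ℕ∞))
    (ξ : X) (hξ : ∀ η : X, η ⤳ ξ → η = ξ) : trdegNat k X ξ = e := by
  have h1 := (closure_mem_irreducibleComponents_iff ξ).mpr hξ
  have h2 := h _ h1
  rw [topologicalKrullDim_closure_singleton k X ξ] at h2
  exact_mod_cast h2

/-- In an equidimensional scheme of dimension `e` locally of finite type over a field,
`dim O_{X,x} + trdeg κ(x) = e` for every point. -/
theorem ringKrullDim_stalk_add_trdegNat (e : ℕ)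
    (h : ∀ Z ∈ irreducibleComponents (X : Type u), topologicalKrullDim Z = (e : WithBot ℕ∞))
    (x : X) :
    ringKrullDim (X.presheaf.stalk x) + ((trdegNat k X x : ℕ) : WithBot ℕ∞) = (e : ℕ) := by
  obtain ⟨_, ⟨U, hU, rfl⟩, hxU, -⟩ :=
    X.isBasis_affineOpens.exists_subset_of_mem_open (Set.mem_univ x) isOpen_univ
  have hU' : IsAffineOpen U := hU
  letI := (sectionMap k X U).toAlgebra
  haveI : Algebra.FiniteType k Γ(X, U) := sectionMap_finiteType k X hU'
  haveI := (hU'.primeIdealOf ⟨x, hxU⟩).isPrime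
  obtain ⟨p₀, hp₀, hle, hdim⟩ := DimFT.exists_minimalPrimes_ringKrullDim_eq (k := k) Γ(X, U)
    (hU'.primeIdealOf ⟨x, hxU⟩).asIdeal
  obtain ⟨ξ₀, hξ₀⟩ := exists_primeIdealOf_eq hU' ⟨p₀, hp₀.1.1⟩
  have hmax : ∀ η : X, η ⤳ (ξ₀ : X) → η = ξ₀ :=
    (primeIdealOf_mem_minimalPrimes_iff hU' ξ₀).mp (by rw [hξ₀]; exact hp₀)
  have h1 := trdegNat_eq_of_forall_irreducibleComponents k X e h ξ₀ hmax
  have h2 := ringKrullDim_quotient_primeIdealOf k X hU' ξ₀ ξ₀.2
  have h2' : hU'.primeIdealOf ⟨ξ₀, ξ₀.2⟩ = ⟨p₀, hp₀.1.1⟩ := hξ₀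
  rw [h2', h1] at h2
  have h3 := ringKrullDim_quotient_primeIdealOf k X hU' x hxU
  have h4 := ringKrullDim_stalk_eq_height hU' x hxU
  rw [h4, ← h3, add_comm, ← hdim]
  exact h2

end single

/-- For a flat morphism, `dim O_{X,x} = dim O_{Y,f x} + dim O_{X_{f x},x}`. -/
theorem ringKrullDim_stalk_eq_add_of_flat {X Y : Scheme.{u}} (f : X ⟶ Y) [Flat f] (s : Y)
    (y : f.fiber s)
    [IsNoetherianRing (X.presheaf.stalk (f.fiberι s y))]
    [IsNoetherianRing (Y.presheaf.stalk (f (f.fiberι s y)))] :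
    ringKrullDim (X.presheaf.stalk (f.fiberι s y)) =
      ringKrullDim (Y.presheaf.stalk (f (f.fiberι s y))) +
        ringKrullDim ((f.fiber s).presheaf.stalk y) := by
  set x := f.fiberι s y with hx
  have hflat : (f.stalkMap x).hom.Flat := Flat.stalkMap f x
  algebraize [(f.stalkMap x).hom]
  haveI : (maximalIdeal (X.presheaf.stalk x)).LiesOver
      (maximalIdeal (Y.presheaf.stalk (f x))) := by
    refine ⟨?_⟩
    rw [Ideal.under_def]
    have hloc : IsLocalHom (algebraMap (Y.presheaf.stalk (f x)) (X.presheaf.stalk x)) :=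
      inferInstanceAs (IsLocalHom (f.stalkMap x).hom)
    have h4 : (maximalIdeal (X.presheaf.stalk x)).comap
        (algebraMap (Y.presheaf.stalk (f x)) (X.presheaf.stalk x)) =
        maximalIdeal (Y.presheaf.stalk (f x)) :=
      ((IsLocalRing.local_hom_TFAE
        (algebraMap (Y.presheaf.stalk (f x)) (X.presheaf.stalk x))).out 0 4).1 hloc
    exact h4.symm
  have h := Ideal.height_eq_height_add_of_liesOver_of_hasGoingDown
    (maximalIdeal (Y.presheaf.stalk (f x))) (maximalIdeal (X.presheaf.stalk x))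
  set I := (maximalIdeal (Y.presheaf.stalk (f x))).map
    (algebraMap (Y.presheaf.stalk (f x)) (X.presheaf.stalk x)) with hI
  have hle : I ≤ maximalIdeal (X.presheaf.stalk x) := by
    rw [hI, Ideal.map_le_iff_le_comap]
    intro a ha
    exact map_nonunit (f.stalkMap x).hom a ha
  have hne : I ≠ ⊤ := fun htop =>
    (maximalIdeal.isMaximal (X.presheaf.stalk x)).ne_top (top_le_iff.mp (htop ▸ hle))
  haveI : Nontrivial (X.presheaf.stalk x ⧸ I) := Ideal.Quotient.nontrivial_iff.mpr hne
  haveI : IsLocalRing (X.presheaf.stalk x ⧸ I) :=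
    IsLocalRing.of_surjective' (Ideal.Quotient.mk I) Ideal.Quotient.mk_surjective
  have hmaxl : ((maximalIdeal (X.presheaf.stalk x)).map (Ideal.Quotient.mk I)).IsMaximal :=
    Ideal.IsMaximal.map_of_surjective_of_ker_le Ideal.Quotient.mk_surjective
      (by rw [Ideal.mk_ker]; exact hle)
  have hmeq : (maximalIdeal (X.presheaf.stalk x)).map (Ideal.Quotient.mk I) =
      maximalIdeal (X.presheaf.stalk x ⧸ I) := IsLocalRing.eq_maximalIdeal hmaxl
  have h1 : ((maximalIdeal (X.presheaf.stalk x)).height : WithBot ℕ∞) =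
      ((maximalIdeal (Y.presheaf.stalk (f x))).height : WithBot ℕ∞) +
        (((maximalIdeal (X.presheaf.stalk x)).map (Ideal.Quotient.mk I)).height : WithBot ℕ∞) := by
    rw [← WithBot.coe_add]
    exact congrArg _ h
  rw [hmeq, IsLocalRing.maximalIdeal_height_eq_ringKrullDim,
    IsLocalRing.maximalIdeal_height_eq_ringKrullDim,
    IsLocalRing.maximalIdeal_height_eq_ringKrullDim] at h1
  rw [h1]
  congr 1
  exact ringKrullDim_eq_of_ringEquiv (FibDim.fiberStalkEquiv f s y)

theorem exists_nat_of_add_eq {D : WithBot ℕ∞} {t e : ℕ}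
    (h : D + ((t : ℕ) : WithBot ℕ∞) = ((e : ℕ) : WithBot ℕ∞)) : ∃ a : ℕ, D = (a : ℕ) ∧ a + t = e := by
  induction D using WithBot.recBotCoe with
  | bot => simp at h
  | coe m =>
    induction m using ENat.recTopCoe with
    | top =>
      exfalso
      have : ((⊤ : ℕ∞) : WithBot ℕ∞) + ((t : ℕ) : WithBot ℕ∞) = ((⊤ : ℕ∞) : WithBot ℕ∞) := by
        rw [show ((t : ℕ) : WithBot ℕ∞) = (((t : ℕ) : ℕ∞) : WithBot ℕ∞) from rfl, ← WithBot.coe_add,
          top_add]
      rw [this] at h
      have h2 : (⊤ : ℕ∞) = (e : ℕ) := by exact_mod_cast h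
      exact absurd h2 (by simp)
    | coe a =>
      refine ⟨a, rfl, ?_⟩
      exact_mod_cast h

section core

variable (k : Type u) [Field k] {X Y : Scheme.{u}} [X.Over (Spec (CommRingCat.of k))]
  [Y.Over (Spec (CommRingCat.of k))] [LocallyOfFiniteType (X ↘ Spec (CommRingCat.of k))]
  [LocallyOfFiniteType (Y ↘ Spec (CommRingCat.of k))] (f : X ⟶ Y) [LocallyOfFiniteType f]

/-- The dimension of an irreducible closed subset of a fibre with generic point `z'`. -/
theorem topologicalKrullDim_fiber_closure_singleton (y : Y) (z' : f.fiber y) :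
    topologicalKrullDim (closure ({z'} : Set (f.fiber y))) =
      ((fiberTrdegNat f y z' : ℕ) : WithBot ℕ∞) := by
  letI : (f.fiber y).Over (Spec (CommRingCat.of (Y.residueField y))) :=
    ⟨f.fiberToSpecResidueField y⟩
  haveI : LocallyOfFiniteType ((f.fiber y) ↘ Spec (CommRingCat.of (Y.residueField y))) :=
    (MorphismProperty.pullback_snd _ _ inferInstance :
      LocallyOfFiniteType (f.fiberToSpecResidueField y))
  exact topologicalKrullDim_closure_singleton (Y.residueField y) (f.fiber y) z'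

variable [Flat f]

theorem fiber_component_dim_of_flat
    (hf : f ≫ (Y ↘ Spec (CommRingCat.of k)) = X ↘ Spec (CommRingCat.of k)) (e d : ℕ)
    (hX : ∀ Z ∈ irreducibleComponents (X : Type u), topologicalKrullDim Z = (e : WithBot ℕ∞))
    (hY : ∀ Z ∈ irreducibleComponents (Y : Type u), topologicalKrullDim Z = (d : WithBot ℕ∞))
    (y : Y) (Z : Set (f.fiber y)) (hZ : Z ∈ irreducibleComponents (f.fiber y : Type u)) :
    ∃ m : ℕ, topologicalKrullDim Z = ((m : ℕ) : WithBot ℕ∞) ∧ m + d = e := by
  haveI : IsLocallyNoetherian X :=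
    LocallyOfFiniteType.isLocallyNoetherian (X ↘ Spec (CommRingCat.of k))
  haveI : IsLocallyNoetherian Y :=
    LocallyOfFiniteType.isLocallyNoetherian (Y ↘ Spec (CommRingCat.of k))
  obtain ⟨z', hz'⟩ := QuasiSober.sober hZ.1 (isClosed_of_mem_irreducibleComponents Z hZ)
  have hmax' : ∀ w : f.fiber y, w ⤳ z' → w = z' :=
    (closure_mem_irreducibleComponents_iff z').mp (by rw [hz'.def]; exact hZ)
  refine ⟨fiberTrdegNat f y z', ?_, ?_⟩
  · rw [← hz'.def]
    exact topologicalKrullDim_fiber_closure_singleton f y z'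
  · have h0 : ringKrullDim ((f.fiber y).presheaf.stalk z') = 0 :=
      ringKrullDim_stalk_eq_zero_of_forall_generization (f.fiber y) z' hmax'
    have hflat := ringKrullDim_stalk_eq_add_of_flat f y z'
    rw [h0, add_zero] at hflat
    have hx := ringKrullDim_stalk_add_trdegNat k X e hX (f.fiberι y z')
    have hy := ringKrullDim_stalk_add_trdegNat k Y d hY (f (f.fiberι y z'))
    have htr := trdegNat_eq_add_fiberTrdegNat f y k hf z'
    have hfx : f (f.fiberι y z') = y := FibStalk.apply_fiberι f y z'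
    rw [hfx] at hy
    rw [hflat] at hx
    obtain ⟨a, ha, hae⟩ := exists_nat_of_add_eq hx
    obtain ⟨b, hb, hbd⟩ := exists_nat_of_add_eq hy
    rw [hfx] at ha
    have hab : a = b := by
      have : ((a : ℕ) : WithBot ℕ∞) = ((b : ℕ) : WithBot ℕ∞) := by rw [← ha, ← hb]
      exact_mod_cast this
    omega

theorem component_dim_of_flat_of_fiber
    (hf : f ≫ (Y ↘ Spec (CommRingCat.of k)) = X ↘ Spec (CommRingCat.of k)) (d n : ℕ)
    (hY : ∀ Z ∈ irreducibleComponents (Y : Type u), topologicalKrullDim Z = (d : WithBot ℕ∞))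
    (hfib : ∀ (y : Y), ∀ Z ∈ irreducibleComponents (f.fiber y : Type u),
      topologicalKrullDim Z = (n : WithBot ℕ∞))
    (Z : Set X) (hZ : Z ∈ irreducibleComponents (X : Type u)) :
    topologicalKrullDim Z = ((d + n : ℕ) : WithBot ℕ∞) := by
  obtain ⟨ξ, hξ⟩ := QuasiSober.sober hZ.1 (isClosed_of_mem_irreducibleComponents Z hZ)
  have hmax : ∀ η : X, η ⤳ ξ → η = ξ :=
    (closure_mem_irreducibleComponents_iff ξ).mp (by rw [hξ.def]; exact hZ)
  rw [← hξ.def, topologicalKrullDim_closure_singleton k X ξ]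
  have hmax' : ∀ w : f.fiber (f.base ξ), w ⤳ f.asFiber ξ → w = f.asFiber ξ := by
    intro w hw
    have h1 := hw.map (f.fiberι (f.base ξ)).continuous
    rw [f.fiberι_asFiber] at h1
    have h2 := hmax _ h1
    apply (f.fiberι (f.base ξ)).isEmbedding.injective
    rw [h2, f.fiberι_asFiber]
  have h1 := (closure_mem_irreducibleComponents_iff (f.asFiber ξ)).mpr hmax'
  have h2 := hfib _ _ h1
  rw [topologicalKrullDim_fiber_closure_singleton f (f.base ξ) (f.asFiber ξ)] at h2
  have h3 : fiberTrdegNat f (f.base ξ) (f.asFiber ξ) = n := by exact_mod_cast h2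
  have hymax : ∀ η : Y, η ⤳ f.base ξ → η = f.base ξ := by
    intro η hη
    obtain ⟨x', hx', rfl⟩ := Flat.generalizingMap f hη
    rw [hmax x' hx']
  have h4 := trdegNat_eq_of_forall_irreducibleComponents k Y d hY (f.base ξ) hymax
  have h5 := trdegNat_eq_add_fiberTrdegNat' f k hf ξ
  rw [h5, h4, h3]

end core

end Groth.Agent.Lib.helper7.DimSch

namespace Groth.Agent.Lib.helper7.DimSch

universe u

open AlgebraicGeometry CategoryTheory

/-- An irreducible scheme locally of finite type over a field has a finite dimension `e`, and its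
only irreducible component has dimension `e`. -/
theorem exists_dim_of_irreducible (k : Type u) [Field k] (X : Scheme.{u})
    [X.Over (Spec (CommRingCat.of k))] [LocallyOfFiniteType (X ↘ Spec (CommRingCat.of k))]
    [IrreducibleSpace X] :
    ∃ e : ℕ, topologicalKrullDim X = ((e : ℕ) : WithBot ℕ∞) ∧
      ∀ Z ∈ irreducibleComponents (X : Type u), topologicalKrullDim Z = (e : WithBot ℕ∞) := by
  have h1 := topologicalKrullDim_of_irreducible k X (trdegNat k X (genericPoint X))
    (trdegNat_spec k X _)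
  refine ⟨trdegNat k X (genericPoint X), h1, ?_⟩
  intro Z hZ
  rw [irreducibleComponents_eq_singleton, Set.mem_singleton_iff] at hZ
  subst hZ
  rw [← h1]
  exact IsHomeomorph.topologicalKrullDim_eq _ (Homeomorph.Set.univ X).isHomeomorph

end Groth.Agent.Lib.helper7.DimSch
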