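import Mathlib
import Groth.Prelude.Def_Curv2
import Groth.Prelude.Def_Flat
import Groth.Agent.Lib.helper7.DimSch11

/-!
Helper lemmas (helper7): refined dimension inequality and the lower bound for fibre dimensions of
morphisms of schemes locally of finite type over a field.
-/

set_option autoImplicit false
universe u
open AlgebraicGeometry CategoryTheory

namespace Groth.Agent.Lib.helper7.DimSch

/-- Refined dimension inequality: if `Q` is minimal among the primes `Q₁` with `P ≤ Q₁ ≤ Q`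
lying over `q = φ⁻¹ Q`, then `ht(Q/P) ≤ ht(q/p)` where `p = φ⁻¹ P`. -/
theorem height_map_quotient_le_of_forall {S R : Type*} [CommRing S] [CommRing R]
    [IsNoetherianRing R] [IsNoetherianRing S] (φ : S →+* R) (P Q : Ideal R) [P.IsPrime] [Q.IsPrime] (hPQ : P ≤ Q)
    (hmin : ∀ Q₁ : Ideal R, Q₁.IsPrime → P ≤ Q₁ → Q₁ ≤ Q → Q.comap φ ≤ Q₁.comap φ → Q₁ = Q) :
    (Q.map (Ideal.Quotient.mk P)).height ≤
      ((Q.comap φ).map (Ideal.Quotient.mk (P.comap φ))).height := by
  set p := P.comap φ with hp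
  set q := Q.comap φ with hq
  have hpq : p ≤ q := Ideal.comap_mono hPQ
  let ψ : S ⧸ p →+* R ⧸ P := Ideal.quotientMap P φ le_rfl
  letI : Algebra (S ⧸ p) (R ⧸ P) := ψ.toAlgebra
  haveI hQ' : (Q.map (Ideal.Quotient.mk P)).IsPrime := Ideal.isPrime_map_quotientMk_of_isPrime hPQ
  haveI hq' : (q.map (Ideal.Quotient.mk p)).IsPrime := Ideal.isPrime_map_quotientMk_of_isPrime hpq
  have hψ : ∀ a : S, ψ (Ideal.Quotient.mk p a) = Ideal.Quotient.mk P (φ a) := fun a => rfl
  haveI : (Q.map (Ideal.Quotient.mk P)).LiesOver (q.map (Ideal.Quotient.mk p)) := by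
    refine ⟨?_⟩
    rw [Ideal.under_def]
    ext a
    obtain ⟨a, rfl⟩ := Ideal.Quotient.mk_surjective a
    rw [Ideal.mem_comap]
    show _ ↔ ψ (Ideal.Quotient.mk p a) ∈ _
    rw [hψ, Ideal.mem_quotient_iff_mem hpq, Ideal.mem_quotient_iff_mem hPQ]
    rfl
  have h := Ideal.height_le_height_add_of_liesOver (q.map (Ideal.Quotient.mk p))
    (Q.map (Ideal.Quotient.mk P))
  set I := (q.map (Ideal.Quotient.mk p)).map (algebraMap (S ⧸ p) (R ⧸ P)) with hI
  have hIle : I ≤ Q.map (Ideal.Quotient.mk P) := by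
    rw [hI, Ideal.map_le_iff_le_comap]
    have := Ideal.LiesOver.over (P := Q.map (Ideal.Quotient.mk P))
      (p := q.map (Ideal.Quotient.mk p))
    rw [Ideal.under_def] at this
    rw [← this]
  haveI hQ'' : ((Q.map (Ideal.Quotient.mk P)).map (Ideal.Quotient.mk I)).IsPrime :=
    Ideal.isPrime_map_quotientMk_of_isPrime hIle
  have hzero : ((Q.map (Ideal.Quotient.mk P)).map (Ideal.Quotient.mk I)).height = 0 := by
    rw [Ideal.height_eq_zero_iff]
    refine ⟨⟨hQ'', bot_le⟩, ?_⟩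
    rintro J ⟨hJ, -⟩ hJle
    set Q₁ := (J.comap (Ideal.Quotient.mk I)).comap (Ideal.Quotient.mk P) with hQ₁
    haveI : Q₁.IsPrime := inferInstance
    have h1 : P ≤ Q₁ := by
      intro r hr
      rw [hQ₁, Ideal.mem_comap, Ideal.mem_comap, Ideal.Quotient.eq_zero_iff_mem.mpr hr, map_zero]
      exact J.zero_mem
    have h2 : Q₁ ≤ Q := by
      intro r hr
      rw [hQ₁, Ideal.mem_comap, Ideal.mem_comap] at hr
      have := hJle hr
      rw [Ideal.mem_quotient_iff_mem hIle, Ideal.mem_quotient_iff_mem hPQ] at this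
      exact this
    have h3 : q ≤ Q₁.comap φ := by
      intro a ha
      rw [Ideal.mem_comap, hQ₁, Ideal.mem_comap, Ideal.mem_comap]
      have : Ideal.Quotient.mk P (φ a) ∈ I := by
        rw [hI, ← hψ]
        exact Ideal.mem_map_of_mem _ (Ideal.mem_map_of_mem _ ha)
      rw [Ideal.Quotient.eq_zero_iff_mem.mpr this]
      exact J.zero_mem
    have h4 := hmin Q₁ inferInstance h1 h2 h3
    have h5 : (Q₁.map (Ideal.Quotient.mk P)).map (Ideal.Quotient.mk I) = J := by
      rw [hQ₁, Ideal.map_comap_of_surjective _ Ideal.Quotient.mk_surjective,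
        Ideal.map_comap_of_surjective _ Ideal.Quotient.mk_surjective]
    rw [← h5, h4]
  rw [hzero, add_zero] at h
  exact h


section fiber

variable {X Y : Scheme.{u}} (f : X ⟶ Y) [LocallyOfFiniteType f] (y : Y)

theorem fiberTrdegNat_lt_of_specializes (z z' : f.fiber y) (h : z ⤳ z') (hne : z ≠ z') :
    fiberTrdegNat f y z' < fiberTrdegNat f y z := by
  letI : (f.fiber y).Over (Spec (CommRingCat.of (Y.residueField y))) :=
    ⟨f.fiberToSpecResidueField y⟩
  haveI : LocallyOfFiniteType ((f.fiber y) ↘ Spec (CommRingCat.of (Y.residueField y))) :=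
    (MorphismProperty.pullback_snd _ _ inferInstance :
      LocallyOfFiniteType (f.fiberToSpecResidueField y))
  exact trdegNat_lt_of_specializes (Y.residueField y) (f.fiber y) z z' h hne

end fiber

/-- Lower bound for fibre dimensions: if `x` has no proper generization inside its fibre and `ξ`
is a generization of `x`, then the relative transcendence degree at `ξ` is at most that at `x`. -/
theorem trdegNat_add_le_of_maximal_in_fiber (k : Type u) [Field k] {X Y : Scheme.{u}}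
    [X.Over (Spec (CommRingCat.of k))] [Y.Over (Spec (CommRingCat.of k))]
    [LocallyOfFiniteType (X ↘ Spec (CommRingCat.of k))]
    [LocallyOfFiniteType (Y ↘ Spec (CommRingCat.of k))] (f : X ⟶ Y) (x ξ : X) (hξ : ξ ⤳ x)
    (hmax : ∀ x₁ : X, x₁ ⤳ x → f.base x₁ = f.base x → x₁ = x) :
    trdegNat k X ξ + trdegNat k Y (f.base x) ≤ trdegNat k Y (f.base ξ) + trdegNat k X x := by
  obtain ⟨_, ⟨V, hV, rfl⟩, hyV, -⟩ :=
    Y.isBasis_affineOpens.exists_subset_of_mem_open (Set.mem_univ (f.base x)) isOpen_univ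
  have hV' : IsAffineOpen V := hV
  obtain ⟨_, ⟨U, hU, rfl⟩, hxU, hUV⟩ :=
    X.isBasis_affineOpens.exists_subset_of_mem_open (show x ∈ (f ⁻¹ᵁ V : Set X) from hyV)
      (f ⁻¹ᵁ V).isOpen
  have hU' : IsAffineOpen U := hU
  have hUV' : U ≤ f ⁻¹ᵁ V := hUV
  have hξU : ξ ∈ U := hξ.mem_open U.isOpen hxU
  letI := (sectionMap k X U).toAlgebra
  haveI : Algebra.FiniteType k Γ(X, U) := sectionMap_finiteType k X hU'
  haveI : IsNoetherianRing Γ(X, U) := Algebra.FiniteType.isNoetherianRing k _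
  letI := (sectionMap k Y V).toAlgebra
  haveI : Algebra.FiniteType k Γ(Y, V) := sectionMap_finiteType k Y hV'
  haveI : IsNoetherianRing Γ(Y, V) := Algebra.FiniteType.isNoetherianRing k _
  set φ := (f.appLE V U hUV').hom with hφ
  set P := (hU'.primeIdealOf ⟨ξ, hξU⟩).asIdeal with hP
  set Q := (hU'.primeIdealOf ⟨x, hxU⟩).asIdeal with hQ
  have hcomap : ∀ (w : X) (hw : w ∈ U),
      (hU'.primeIdealOf ⟨w, hw⟩).asIdeal.comap φ = (hV'.primeIdealOf ⟨f.base w, hUV' hw⟩).asIdeal :=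
    fun w hw => congrArg PrimeSpectrum.asIdeal
      (IsAffineOpen.comap_primeIdealOf_appLE (f := f) V hV' U hU' hUV' hw)
  have hPQ : P ≤ Q := (primeIdealOf_le_iff hU' ⟨ξ, hξU⟩ ⟨x, hxU⟩).mpr hξ
  have hmin : ∀ Q₁ : Ideal Γ(X, U), Q₁.IsPrime → P ≤ Q₁ → Q₁ ≤ Q → Q.comap φ ≤ Q₁.comap φ →
      Q₁ = Q := by
    intro Q₁ hQ₁ _ h2 h3
    obtain ⟨x₁, hx₁⟩ := exists_primeIdealOf_eq hU' ⟨Q₁, hQ₁⟩
    have hx₁' : (hU'.primeIdealOf ⟨x₁, x₁.2⟩).asIdeal = Q₁ := congrArg PrimeSpectrum.asIdeal hx₁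
    have hsp : (x₁ : X) ⤳ x := by
      rw [← primeIdealOf_le_iff hU' x₁ ⟨x, hxU⟩, hx₁]
      exact h2
    have hfeq : f.base x₁ = f.base x := by
      have e1 : (hV'.primeIdealOf ⟨f.base x₁, hUV' x₁.2⟩) =
          (hV'.primeIdealOf ⟨f.base x, hUV' hxU⟩) := by
        apply PrimeSpectrum.ext
        rw [← hcomap x₁ x₁.2, ← hcomap x hxU, hx₁']
        exact le_antisymm (Ideal.comap_mono h2) h3
      exact congrArg Subtype.val (primeIdealOf_injective hV' e1)
    have hxx := hmax x₁ hsp hfeq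
    have e : x₁ = ⟨x, hxU⟩ := Subtype.ext hxx
    have e2 : hU'.primeIdealOf x₁ = hU'.primeIdealOf ⟨x, hxU⟩ := by rw [e]
    rw [hx₁] at e2
    exact congrArg PrimeSpectrum.asIdeal e2
  have hRI := height_map_quotient_le_of_forall φ P Q hPQ hmin
  have h1 := DimFT.ringKrullDim_quotient_eq_add_height_map (k := k) Γ(X, U) P Q hPQ
  have hpq : P.comap φ ≤ Q.comap φ := Ideal.comap_mono hPQ
  have h2 := DimFT.ringKrullDim_quotient_eq_add_height_map (k := k) Γ(Y, V) (P.comap φ)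
    (Q.comap φ) hpq
  rw [ringKrullDim_quotient_primeIdealOf k X hU' ξ hξU,
    ringKrullDim_quotient_primeIdealOf k X hU' x hxU] at h1
  have e3 : ringKrullDim (Γ(Y, V) ⧸ P.comap φ) = (trdegNat k Y (f.base ξ) : ℕ) := by
    rw [hP, hcomap ξ hξU]
    exact ringKrullDim_quotient_primeIdealOf k Y hV' (f.base ξ) (hUV' hξU)
  have e4 : ringKrullDim (Γ(Y, V) ⧸ Q.comap φ) = (trdegNat k Y (f.base x) : ℕ) := by
    rw [hQ, hcomap x hxU]
    exact ringKrullDim_quotient_primeIdealOf k Y hV' (f.base x) (hUV' hxU)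
  rw [e3, e4] at h2
  have h1' : ((trdegNat k X ξ : ℕ) : ℕ∞) = (trdegNat k X x : ℕ) +
      (Q.map (Ideal.Quotient.mk P)).height := by exact_mod_cast h1
  have h2' : ((trdegNat k Y (f.base ξ) : ℕ) : ℕ∞) = (trdegNat k Y (f.base x) : ℕ) +
      ((Q.comap φ).map (Ideal.Quotient.mk (P.comap φ))).height := by exact_mod_cast h2
  have h3 : ((trdegNat k X ξ + trdegNat k Y (f.base x) : ℕ) : ℕ∞) ≤
      ((trdegNat k Y (f.base ξ) + trdegNat k X x : ℕ) : ℕ∞) := by
    push_cast
    rw [h1', h2']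
    calc ((trdegNat k X x : ℕ) : ℕ∞) + (Q.map (Ideal.Quotient.mk P)).height +
          (trdegNat k Y (f.base x) : ℕ)
        ≤ (trdegNat k X x : ℕ) + ((Q.comap φ).map (Ideal.Quotient.mk (P.comap φ))).height +
          (trdegNat k Y (f.base x) : ℕ) := by gcongr
      _ = _ := by ring
  exact_mod_cast h3

end Groth.Agent.Lib.helper7.DimSch
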