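import Mathlib
import Groth.Prelude.Def_Curv2
import Groth.Prelude.Def_Flat
import Groth.Agent.Lib.helper7.DimSch12

/-!
Helper lemmas (helper7): relative transcendence degree `trdeg_{κ(f x)} κ(x)` via the residue field
map equals the transcendence degree of the corresponding point of the fibre.
-/

set_option autoImplicit false

namespace Groth.Agent.Lib.helper7.DimSch

universe u

open AlgebraicGeometry CategoryTheory

theorem trdeg_le_of_ringEquiv {R S A B : Type u} [CommRing R] [CommRing S] [Nontrivial S]
    [CommRing A] [CommRing B] [Algebra R A] [Algebra S B] (σ : R ≃+* S) (g : A →+* B)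
    (hg : Function.Injective g)
    (h : (algebraMap S B).comp (σ : R →+* S) = g.comp (algebraMap R A)) :
    Algebra.trdeg R A ≤ Algebra.trdeg S B := by
  rw [Algebra.trdeg]
  refine ciSup_le' fun i => ?_
  have h1 : AlgebraicIndependent S (g ∘ ((↑) : i.1 → A)) :=
    (algebraicIndependent_ringHom_iff_of_comp_eq σ g hg h).mpr i.2
  exact h1.cardinalMk_le_trdeg

theorem trdeg_eq_of_ringEquiv {R S A B : Type u} [CommRing R] [CommRing S] [Nontrivial R]
    [Nontrivial S] [CommRing A] [CommRing B] [Algebra R A] [Algebra S B] (σ : R ≃+* S)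
    (g : A ≃+* B)
    (h : (algebraMap S B).comp (σ : R →+* S) = (g : A →+* B).comp (algebraMap R A)) :
    Algebra.trdeg R A = Algebra.trdeg S B := by
  apply le_antisymm
  · exact trdeg_le_of_ringEquiv σ (g : A →+* B) g.injective h
  · refine trdeg_le_of_ringEquiv σ.symm (g.symm : B →+* A) g.symm.injective ?_
    ext s
    obtain ⟨r, rfl⟩ := σ.surjective s
    have := congrArg (fun φ => φ r) h
    simp only [RingHom.comp_apply, RingHom.coe_coe] at this ⊢
    rw [RingEquiv.symm_apply_apply, this, RingEquiv.symm_apply_apply]

section fiber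

variable {X Y : Scheme.{u}} (f : X ⟶ Y) [LocallyOfFiniteType f] (y : Y)

/-- `trdeg_{κ(f x)} κ(x)` (via the residue field map of `f`) for `x` the image of a point `z` of the
fibre over `y` equals the transcendence degree over `κ(y)` of the residue field of the fibre at
`z`. -/
theorem trdeg_residueFieldMap_eq_fiberTrdegNat (z : f.fiber y) :
    @Algebra.trdeg (Y.residueField (f.base (f.fiberι y z))) (X.residueField (f.fiberι y z)) _ _
      (f.residueFieldMap (f.fiberι y z)).hom.toAlgebra = (fiberTrdegNat f y z : Cardinal) := by
  letI inst : (f.fiber y).Over (Spec (CommRingCat.of (Y.residueField y))) :=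
    ⟨f.fiberToSpecResidueField y⟩
  haveI : LocallyOfFiniteType ((f.fiber y) ↘ Spec (CommRingCat.of (Y.residueField y))) :=
    (MorphismProperty.pullback_snd _ _ inferInstance :
      LocallyOfFiniteType (f.fiberToSpecResidueField y))
  have h0 : (fiberTrdegNat f y z : Cardinal) =
      @Algebra.trdeg (Y.residueField y) ((f.fiber y).residueField z) _ _
        (Curv2.resAlgebra (Y.residueField y) (f.fiber y) z) :=
    (trdegNat_spec (Y.residueField y) (f.fiber y) z).symm
  rw [h0]
  letI a1 : Algebra (Y.residueField (f.base (f.fiberι y z))) (X.residueField (f.fiberι y z)) :=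
    (f.residueFieldMap (f.fiberι y z)).hom.toAlgebra
  letI a2 : Algebra (Y.residueField y) ((f.fiber y).residueField z) :=
    Curv2.resAlgebra (Y.residueField y) (f.fiber y) z
  let τ := Y.residueFieldCongr (FibStalk.apply_fiberι f y z).symm
  let σ : Y.residueField (f.base (f.fiberι y z)) ≃+* Y.residueField y :=
    τ.commRingCatIsoToRingEquiv.symm
  let g : X.residueField (f.fiberι y z) ≃+* (f.fiber y).residueField z :=
    RingEquiv.ofBijective ((f.fiberι y).residueFieldMap z).hom
      (residueFieldMap_fiberι_bijective f y z)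
  refine trdeg_eq_of_ringEquiv σ g ?_
  have key := residueFieldMap_fiberι_comp_fiberResMap f y z
  ext a
  have h1 := congrArg (fun φ => φ (σ a)) key
  simp only [RingHom.comp_apply] at h1
  show Curv2.resMap (Y.residueField y) (f.fiber y) z (σ a) =
    ((f.fiberι y).residueFieldMap z).hom ((f.residueFieldMap (f.fiberι y z)).hom a)
  rw [← h1]
  congr 1
  show (f.residueFieldMap (f.fiberι y z)).hom (τ.hom.hom (τ.inv.hom a)) = _
  congr 1
  exact congrArg (fun φ => φ.hom a) τ.inv_hom_id

end fiber

end Groth.Agent.Lib.helper7.DimSch
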