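import Mathlib
import Groth.Agent.Lib.helper22.TorsionFreeEmbed
import Groth.Agent.Lib.helper9.IntegralDim

/-!
Helper lemmas (helper7): minimal primes of `A ⊗[k] B` for `A` a finitely generated domain over a
field `k` and `B` a `k`-domain: all quotients by minimal primes have the dimension of
`B[x_1, …, x_n]`, `n = dim A`.
-/

set_option autoImplicit false

open TensorProduct

namespace Groth.Agent.Lib.helper7.TensorDim

universe u

section base

variable {R₀ : Type u} [CommRing R₀] [IsDomain R₀] (R₀' : Type u) [CommRing R₀'] [IsDomain R₀']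
  [Algebra R₀ R₀'] [Module.Flat R₀ R₀'] (A : Type u) [CommRing A] [Algebra R₀ A]
  [Module.Finite R₀ A] [NoZeroSMulDivisors R₀ A]

/-- Torsion-freeness after flat base change to a domain. -/
theorem eq_zero_of_smul_eq_zero (r : R₀') (a : R₀' ⊗[R₀] A) (h : r • a = 0) : r = 0 ∨ a = 0 := by
  classical
  obtain ⟨m, χ, hχ⟩ := Groth.Agent.Lib.helper22.TorsionFreeEmbed.exists_injective_to_free R₀ A
  let J : R₀' ⊗[R₀] A →ₗ[R₀'] (Fin m → R₀') :=
    (TensorProduct.piScalarRight R₀ R₀' R₀' (Fin m)).toLinearMap ∘ₗ (χ.baseChange R₀')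
  have hJ : Function.Injective J := by
    refine (TensorProduct.piScalarRight R₀ R₀' R₀' (Fin m)).injective.comp ?_
    rw [LinearMap.baseChange_eq_ltensor]
    exact Module.Flat.lTensor_preserves_injective_linearMap χ hχ
  by_cases hr : r = 0
  · exact Or.inl hr
  · right
    apply hJ
    rw [map_zero]
    funext i
    have h1 : J (r • a) = 0 := by rw [h, map_zero]
    rw [map_smul] at h1
    have h2 := congrFun h1 i
    simp only [Pi.smul_apply, smul_eq_mul, Pi.zero_apply] at h2
    rcases mul_eq_zero.mp h2 with h3 | h3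
    · exact absurd h3 hr
    · exact h3

theorem comap_eq_bot_of_mem_minimalPrimes (P : Ideal (R₀' ⊗[R₀] A))
    (hP : P ∈ minimalPrimes (R₀' ⊗[R₀] A)) :
    P.comap (algebraMap R₀' (R₀' ⊗[R₀] A)) = ⊥ := by
  rw [eq_bot_iff]
  intro r hr
  rw [Ideal.mem_comap] at hr
  rw [Ideal.mem_bot]
  by_contra hne
  have hnzd : algebraMap R₀' (R₀' ⊗[R₀] A) r ∈ nonZeroDivisors (R₀' ⊗[R₀] A) := by
    rw [mem_nonZeroDivisors_iff_left]
    intro a ha
    rw [← Algebra.smul_def] at ha
    rcases eq_zero_of_smul_eq_zero R₀' A r a ha with h | h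
    · exact absurd h hne
    · exact h
  exact Set.disjoint_left.mp (Ideal.disjoint_nonZeroDivisors_of_mem_minimalPrimes hP) hr hnzd

theorem ringKrullDim_quotient_eq (P : Ideal (R₀' ⊗[R₀] A))
    (hP : P ∈ minimalPrimes (R₀' ⊗[R₀] A)) :
    ringKrullDim ((R₀' ⊗[R₀] A) ⧸ P) = ringKrullDim R₀' := by
  haveI : Module.Finite R₀' (R₀' ⊗[R₀] A) := inferInstance
  haveI : Module.Finite R₀' ((R₀' ⊗[R₀] A) ⧸ P) := inferInstance
  haveI : Algebra.IsIntegral R₀' ((R₀' ⊗[R₀] A) ⧸ P) := Algebra.IsIntegral.of_finite _ _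
  have hinj : Function.Injective (algebraMap R₀' ((R₀' ⊗[R₀] A) ⧸ P)) := by
    rw [RingHom.injective_iff_ker_eq_bot]
    have h1 : RingHom.ker (algebraMap R₀' ((R₀' ⊗[R₀] A) ⧸ P)) =
        P.comap (algebraMap R₀' (R₀' ⊗[R₀] A)) := by
      ext r
      rw [RingHom.mem_ker, Ideal.mem_comap]
      show Ideal.Quotient.mk P (algebraMap R₀' (R₀' ⊗[R₀] A) r) = 0 ↔ _
      rw [Ideal.Quotient.eq_zero_iff_mem]
    rw [h1]
    exact comap_eq_bot_of_mem_minimalPrimes R₀' A P hP
  exact (Groth.Agent.Lib.helper9.IntegralDim.ringKrullDim_eq_of_isIntegral_of_injective R₀'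
    ((R₀' ⊗[R₀] A) ⧸ P) hinj).symm

end base

theorem ringKrullDim_quotient_of_ringEquiv {A' A'' : Type u} [CommRing A'] [CommRing A'']
    (e : A' ≃+* A'') (d : WithBot ℕ∞)
    (h : ∀ P' ∈ minimalPrimes A', ringKrullDim (A' ⧸ P') = d) (P : Ideal A'')
    (hP : P ∈ minimalPrimes A'') : ringKrullDim (A'' ⧸ P) = d := by
  have hsurj : Function.Surjective (e : A' →+* A'') := e.surjective
  have hinj : Function.Injective (e : A' →+* A'') := e.injective
  have h1 := Ideal.minimalPrimes_comap_of_surjective (f := (e : A' →+* A'')) hsurj hP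
  have h2 : (⊥ : Ideal A'').comap (e : A' →+* A'') = ⊥ := by
    rw [← RingHom.ker_eq_comap_bot]
    exact (RingHom.injective_iff_ker_eq_bot _).mp hinj
  rw [h2] at h1
  have h3 := h _ h1
  rw [← h3]
  exact (ringKrullDim_eq_of_ringEquiv (Ideal.quotientEquiv _ _ e
    (Ideal.map_comap_of_surjective (e : A' →+* A'') hsurj P).symm)).symm

section main

variable (k : Type u) [Field k] (A : Type u) [CommRing A] [IsDomain A] [Algebra k A]
  [Algebra.FiniteType k A] (B : Type u) [CommRing B] [IsDomain B] [Algebra k B]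

/-- For `A` a finitely generated `k`-domain of dimension `n` and `B` a `k`-domain, the quotient of
`A ⊗[k] B` by any minimal prime has the dimension of `B[x_1, …, x_n]`. -/
theorem exists_ringKrullDim_quotient_minimalPrimes :
    ∃ n : ℕ, ringKrullDim A = n ∧ ∀ P ∈ minimalPrimes (A ⊗[k] B),
      ringKrullDim ((A ⊗[k] B) ⧸ P) = ringKrullDim (MvPolynomial (Fin n) B) := by
  obtain ⟨n, g, hinj, hfin⟩ := exists_finite_inj_algHom_of_fg k A
  letI : Algebra (MvPolynomial (Fin n) k) A := g.toRingHom.toAlgebra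
  haveI : IsScalarTower k (MvPolynomial (Fin n) k) A :=
    IsScalarTower.of_algebraMap_eq (fun c => (g.commutes c).symm)
  haveI : Module.Finite (MvPolynomial (Fin n) k) A := hfin
  haveI : NoZeroSMulDivisors (MvPolynomial (Fin n) k) A :=
    ⟨fun {c x} h => by
      rw [Algebra.smul_def] at h
      rcases mul_eq_zero.mp h with h1 | h1
      · left
        exact (injective_iff_map_eq_zero (algebraMap (MvPolynomial (Fin n) k) A)).mp hinj c h1
      · right
        exact h1⟩
  haveI : Algebra.IsIntegral (MvPolynomial (Fin n) k) A := Algebra.IsIntegral.of_finite _ _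
  have hdimA : ringKrullDim A = n := by
    rw [← Groth.Agent.Lib.helper9.IntegralDim.ringKrullDim_eq_of_isIntegral_of_injective
      (MvPolynomial (Fin n) k) A hinj, MvPolynomial.ringKrullDim_of_isNoetherianRing,
      ringKrullDim_eq_zero_of_field, zero_add]
    simp
  refine ⟨n, hdimA, ?_⟩
  obtain ⟨e₀⟩ : Nonempty ((MvPolynomial (Fin n) k ⊗[k] B) ≃+* MvPolynomial (Fin n) B) :=
    ⟨(Algebra.TensorProduct.comm k (MvPolynomial (Fin n) k) B).toRingEquiv.trans
      (MvPolynomial.scalarRTensorAlgEquiv (R := k) (N := B) (σ := Fin n)).toRingEquiv⟩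
  haveI : IsDomain (MvPolynomial (Fin n) k ⊗[k] B) := e₀.toMulEquiv.isDomain _
  obtain ⟨e⟩ : Nonempty
      ((MvPolynomial (Fin n) k ⊗[k] B) ⊗[MvPolynomial (Fin n) k] A ≃+* A ⊗[k] B) :=
    ⟨(Algebra.TensorProduct.comm (MvPolynomial (Fin n) k) (MvPolynomial (Fin n) k ⊗[k] B)
      A).toRingEquiv.trans
      (Algebra.TensorProduct.cancelBaseChange k (MvPolynomial (Fin n) k) (MvPolynomial (Fin n) k)
        A B).toRingEquiv⟩
  intro P hP
  refine ringKrullDim_quotient_of_ringEquiv
    (A' := (MvPolynomial (Fin n) k ⊗[k] B) ⊗[MvPolynomial (Fin n) k] A) (A'' := A ⊗[k] B)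
    e _ (fun P' hP' => ?_) P hP
  rw [ringKrullDim_quotient_eq (MvPolynomial (Fin n) k ⊗[k] B) A P' hP']
  exact ringKrullDim_eq_of_ringEquiv e₀

end main

end Groth.Agent.Lib.helper7.TensorDim
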