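import Mathlib
import Groth.Prelude.Def_Curv2
import Groth.Prelude.Def_Flat
import Groth.Agent.Lib.helper7.TensorDim
import Groth.Agent.Lib.helper7.DimBC
import Groth.Agent.Lib.helper7.DimSch13

/-!
Helper lemmas (helper7): consequences of `TensorDim` for base change to a field extension, and
auxiliary lemmas (open immersions preserve `trdegNat`; dimension of the closure of a point of
a prime spectrum).
-/

set_option autoImplicit false

open TensorProduct

namespace Groth.Agent.Lib.helper7.TensorDim

universe u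

/-- For `A` a finitely generated `k`-domain and `K/k` a field extension, all quotients of
`A ⊗[k] K` by minimal primes have dimension `dim A`. -/
theorem ringKrullDim_quotient_minimalPrimes_field (k : Type u) [Field k] (A : Type u) [CommRing A]
    [IsDomain A] [Algebra k A] [Algebra.FiniteType k A] (K : Type u) [Field K] [Algebra k K]
    (P : Ideal (A ⊗[k] K)) (hP : P ∈ minimalPrimes (A ⊗[k] K)) :
    ringKrullDim ((A ⊗[k] K) ⧸ P) = ringKrullDim A := by
  obtain ⟨n, hn, h⟩ := exists_ringKrullDim_quotient_minimalPrimes k A K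
  rw [h P hP, hn, Groth.Agent.Lib.helper7.DimBC.ringKrullDim_mvPolynomial_field K n]

/-- For `A` of finite type over `k`, `p` a prime of `A` and `q` a minimal prime over
`p (A ⊗[k] K)`: `dim (A ⊗[k] K)/q = dim A/p`. -/
theorem ringKrullDim_quotient_of_mem_minimalPrimes_map (k : Type u) [Field k] (A : Type u)
    [CommRing A] [Algebra k A] [Algebra.FiniteType k A] (K : Type u) [Field K] [Algebra k K]
    (p : Ideal A) [p.IsPrime] (q : Ideal (A ⊗[k] K))
    (hq : q ∈ (p.map (algebraMap A (A ⊗[k] K))).minimalPrimes) :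
    ringKrullDim ((A ⊗[k] K) ⧸ q) = ringKrullDim (A ⧸ p) := by
  set I := p.map (algebraMap A (A ⊗[k] K)) with hI
  have hIq : I ≤ q := hq.1.2
  have hq' : q.map (Ideal.Quotient.mk I) ∈ minimalPrimes ((A ⊗[k] K) ⧸ I) := by
    have h1 := Ideal.minimalPrimes_map_of_surjective (f := Ideal.Quotient.mk I)
      Ideal.Quotient.mk_surjective (I := I)
    have h2 : q.map (Ideal.Quotient.mk I) ∈ (I.map (Ideal.Quotient.mk I)).minimalPrimes := by
      rw [h1]
      refine ⟨q, ?_, rfl⟩
      have h5 : I ⊔ RingHom.ker (Ideal.Quotient.mk I) = I := by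
        rw [Ideal.mk_ker, sup_idem]
      rw [h5]
      exact hq
    rwa [Ideal.map_quotient_self] at h2
  have h3 : ringKrullDim (((A ⊗[k] K) ⧸ I) ⧸ q.map (Ideal.Quotient.mk I)) =
      ringKrullDim ((A ⊗[k] K) ⧸ q) :=
    ringKrullDim_eq_of_ringEquiv (DoubleQuot.quotQuotEquivQuotOfLE hIq)
  rw [← h3]
  obtain ⟨e⟩ : Nonempty ((A ⧸ p) ⊗[k] K ≃+* (A ⊗[k] K) ⧸ I) :=
    ⟨(Algebra.TensorProduct.quotientTensorEquiv (R := k) k K A p).toRingEquiv⟩
  exact ringKrullDim_quotient_of_ringEquiv (A' := (A ⧸ p) ⊗[k] K) (A'' := (A ⊗[k] K) ⧸ I) e _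
    (fun P' hP' => ringKrullDim_quotient_minimalPrimes_field k (A ⧸ p) K P' hP') _ hq'

/-- The dimension of the closure of a point of a prime spectrum. -/
theorem topologicalKrullDim_closure_singleton_primeSpectrum (R : Type u) [CommRing R]
    (q : PrimeSpectrum R) :
    topologicalKrullDim (closure ({q} : Set (PrimeSpectrum R))) = ringKrullDim (R ⧸ q.asIdeal) := by
  rw [PrimeSpectrum.closure_singleton, ← PrimeSpectrum.topologicalKrullDim_eq_ringKrullDim]
  have hemb := PrimeSpectrum.isClosedEmbedding_comap_of_surjective (R ⧸ q.asIdeal)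
    (Ideal.Quotient.mk q.asIdeal) Ideal.Quotient.mk_surjective
  have hrange : Set.range (PrimeSpectrum.comap (Ideal.Quotient.mk q.asIdeal)) =
      PrimeSpectrum.zeroLocus (q.asIdeal : Set R) := by
    rw [range_comap_of_surjective _ _ Ideal.Quotient.mk_surjective, Ideal.mk_ker]
  rw [← hrange]
  exact (IsHomeomorph.topologicalKrullDim_eq _
    hemb.isEmbedding.toHomeomorph.isHomeomorph).symm

end Groth.Agent.Lib.helper7.TensorDim

namespace Groth.Agent.Lib.helper7.DimSch

universe u

open AlgebraicGeometry CategoryTheory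

/-- Open immersions of `k`-schemes preserve the transcendence degree of residue fields. -/
theorem trdegNat_of_isOpenImmersion (k : Type u) [Field k] {T X : Scheme.{u}}
    [T.Over (Spec (CommRingCat.of k))] [X.Over (Spec (CommRingCat.of k))]
    [LocallyOfFiniteType (T ↘ Spec (CommRingCat.of k))]
    [LocallyOfFiniteType (X ↘ Spec (CommRingCat.of k))] (j : T ⟶ X) [IsOpenImmersion j]
    (hj : j ≫ (X ↘ Spec (CommRingCat.of k)) = T ↘ Spec (CommRingCat.of k)) (t : T) :
    trdegNat k T t = trdegNat k X (j.base t) := by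
  letI := Curv2.resAlgebra k X (j.base t)
  letI := Curv2.resAlgebra k T t
  let ε : X.residueField (j.base t) ≃+* T.residueField t :=
    (asIso (j.residueFieldMap t)).commRingCatIsoToRingEquiv
  let Ψ : X.residueField (j.base t) ≃ₐ[k] T.residueField t :=
    { ε with commutes' := fun a => residueFieldMap_resMap k X T j hj t a }
  unfold trdegNat
  rw [Ψ.trdeg_eq]

end Groth.Agent.Lib.helper7.DimSch
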