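import Mathlib
import Groth.Agent.Lib.helper7.TensorDim2
import Groth.Agent.Lib.helper7.DimSch11
import Groth.Agent.Lib.helper7.DimBC
import Groth.Agent.Lib.helper7.DimSch10
import Groth.Agent.Lib.helper7.DimSch3

/-!
# Dimension of point closures under extension of the base field
-/

universe u

open TensorProduct AlgebraicGeometry CategoryTheory Limits

namespace Groth.Agent.Lib.helper7.TensorDim

open Groth.Agent.Lib.helper7.DimSch

variable {k K : Type u} [Field k] [Field K] [Algebra k K] {X : Scheme.{u}}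
  (f : X ⟶ Spec (CommRingCat.of k)) [LocallyOfFiniteType f]

set_option backward.isDefEq.respectTransparency false in
theorem topologicalKrullDim_closure_singleton_pullback_aux
    (g : Spec (CommRingCat.of K) ⟶ Spec (CommRingCat.of k))
    (hg : g = Spec.map (CommRingCat.ofHom (algebraMap k K))) (ζ : X)
    (w : ↥(pullback f g))
    (hζ : ζ ⤳ (pullback.fst f g) w)
    (hmax : ∀ w' : ↥(pullback f g), w' ⤳ w → ζ ⤳ (pullback.fst f g) w' → w ⤳ w') :
    topologicalKrullDim (closure ({w} : Set ↥(pullback f g))) =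
      topologicalKrullDim (closure ({ζ} : Set X)) := by
  letI : X.Over (Spec (CommRingCat.of k)) := ⟨f⟩
  haveI : LocallyOfFiniteType (X ↘ Spec (CommRingCat.of k)) := ‹LocallyOfFiniteType f›
  letI : (pullback f g).Over (Spec (CommRingCat.of K)) := ⟨pullback.snd f g⟩
  haveI : LocallyOfFiniteType ((pullback f g) ↘ Spec (CommRingCat.of K)) :=
    (MorphismProperty.pullback_snd _ _ inferInstance : LocallyOfFiniteType (pullback.snd f g))
  rw [topologicalKrullDim_closure_singleton K (pullback f g) w,
    topologicalKrullDim_closure_singleton k X ζ]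
  obtain ⟨_, ⟨U, hU, rfl⟩, hxU, -⟩ := X.isBasis_affineOpens.exists_subset_of_mem_open
      (Set.mem_univ (pullback.fst f g w)) isOpen_univ
  have hζU : ζ ∈ U := hζ.mem_open U.2 hxU
  obtain ⟨ψ, hψ⟩ := Spec.map_surjective (hU.fromSpec ≫ f)
  algebraize [ψ.hom]
  haveI : Algebra.FiniteType k Γ(X, U) := by
    have h1 : LocallyOfFiniteType (Spec.map ψ) := by rw [hψ]; infer_instance
    rw [HasRingHomProperty.Spec_iff (P := @LocallyOfFiniteType)] at h1
    exact h1
  let φ : pullback (hU.fromSpec ≫ f) g ⟶ pullback f g :=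
    pullback.map (hU.fromSpec ≫ f) g f g hU.fromSpec (𝟙 _) (𝟙 _) (by simp) (by simp)
  have hφr : Set.range φ = pullback.fst f g ⁻¹' (U : Set X) := by
    rw [Scheme.Pullback.range_map, hU.range_fromSpec]
    simp
  have hw : w ∈ Set.range φ := by rw [hφr]; exact hxU
  obtain ⟨t, rfl⟩ := hw
  letI : (pullback (hU.fromSpec ≫ f) g).Over (Spec (CommRingCat.of K)) :=
    ⟨pullback.snd (hU.fromSpec ≫ f) g⟩
  haveI : LocallyOfFiniteType ((pullback (hU.fromSpec ≫ f) g) ↘ Spec (CommRingCat.of K)) :=
    (MorphismProperty.pullback_snd _ _ inferInstance :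
      LocallyOfFiniteType (pullback.snd (hU.fromSpec ≫ f) g))
  have hφK : φ ≫ ((pullback f g) ↘ Spec (CommRingCat.of K)) =
      (pullback (hU.fromSpec ≫ f) g) ↘ Spec (CommRingCat.of K) := by
    show φ ≫ pullback.snd f g = pullback.snd (hU.fromSpec ≫ f) g
    simp [φ]
  rw [← trdegNat_of_isOpenImmersion K φ hφK t]
  rw [← topologicalKrullDim_closure_singleton K _ t,
    ← ringKrullDim_quotient_primeIdealOf k X hU ζ hζU]
  let e : pullback (hU.fromSpec ≫ f) g ≅
      Spec (CommRingCat.of (TensorProduct k Γ(X, U) K)) :=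
    pullback.congrHom hψ.symm hg ≪≫ pullbackSpecIso k Γ(X, U) K
  have hfst : e.hom ≫ Spec.map (CommRingCat.ofHom (algebraMap Γ(X, U) (Γ(X, U) ⊗[k] K))) =
      pullback.fst (hU.fromSpec ≫ f) _ := by
    simp only [e, Iso.trans_hom, Category.assoc, pullbackSpecIso_hom_fst', pullback.congrHom_hom]
    exact (pullback.lift_fst _ _ _).trans (Category.comp_id _)
  have h1 : topologicalKrullDim (closure ({t} : Set _)) =
      topologicalKrullDim (closure ({e.hom t} : Set _)) := by
    let hh := e.hom.homeomorph
    rw [IsHomeomorph.topologicalKrullDim_eq _ (hh.image (closure {t})).isHomeomorph]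
    have : hh '' closure {t} = closure {e.hom t} := by
      rw [hh.image_closure, Set.image_singleton]; rfl
    rw [this]
  rw [h1, topologicalKrullDim_closure_singleton_primeSpectrum]
  have hπ : ∀ t', pullback.fst f g (φ t') = hU.fromSpec
      (PrimeSpectrum.comap (algebraMap Γ(X, U) (Γ(X, U) ⊗[k] K)) (e.hom t')) := by
    intro t'
    have h2 : φ ≫ pullback.fst f g = pullback.fst (hU.fromSpec ≫ f) g ≫ hU.fromSpec := by
      simp [φ]
    rw [← Scheme.Hom.comp_apply, h2, ← hfst]
    rfl
  have hζeq : hU.fromSpec (hU.primeIdealOf ⟨ζ, hζU⟩) = ζ := hU.fromSpec_primeIdealOf ⟨ζ, hζU⟩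
  have hspec : ∀ t', ζ ⤳ pullback.fst f g (φ t') ↔
      (hU.primeIdealOf ⟨ζ, hζU⟩).asIdeal ≤
        ((e.hom t').asIdeal).comap (algebraMap Γ(X, U) (Γ(X, U) ⊗[k] K)) := by
    intro t'
    rw [hπ]
    constructor
    · intro h
      rw [← hζeq, hU.fromSpec.isOpenEmbedding.isInducing.specializes_iff,
        ← PrimeSpectrum.le_iff_specializes] at h
      exact h
    · intro h
      rw [← hζeq, hU.fromSpec.isOpenEmbedding.isInducing.specializes_iff,
        ← PrimeSpectrum.le_iff_specializes]
      exact h
  apply ringKrullDim_quotient_of_mem_minimalPrimes_map k Γ(X, U) K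
  refine ⟨⟨(e.hom t).isPrime, Ideal.map_le_iff_le_comap.mpr ((hspec t).mp hζ)⟩, ?_⟩
  rintro q' ⟨hq'prime, hq'le⟩ hq'q
  let Q' : PrimeSpectrum (Γ(X, U) ⊗[k] K) := ⟨q', hq'prime⟩
  let t' := e.inv Q'
  have ht' : e.hom t' = Q' := by
    show e.hom (e.inv Q') = Q'
    rw [← Scheme.Hom.comp_apply, Iso.inv_hom_id]
    rfl
  have hsp : t' ⤳ t := by
    rw [← e.hom.homeomorph.isInducing.specializes_iff]
    show e.hom t' ⤳ e.hom t
    rw [ht', ← PrimeSpectrum.le_iff_specializes]
    exact hq'q
  have h3 := hmax (φ t') (hsp.map φ.continuous)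
    ((hspec t').mpr (by rw [ht']; exact Ideal.map_le_iff_le_comap.mp hq'le))
  rw [φ.isOpenEmbedding.isInducing.specializes_iff] at h3
  have h4 := h3.map e.hom.continuous
  rw [ht', ← PrimeSpectrum.le_iff_specializes] at h4
  exact h4

/-- Let `w` be a point of `X_K` lying over a specialisation of `ζ ∈ X` which is maximal
(for generisation) among such points. Then `dim closure {w} = dim closure {ζ}`. -/
theorem topologicalKrullDim_closure_singleton_pullback (ζ : X)
    (w : ↥(pullback f (Spec.map (CommRingCat.ofHom (algebraMap k K)))))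
    (hζ : ζ ⤳ (pullback.fst f (Spec.map (CommRingCat.ofHom (algebraMap k K)))) w)
    (hmax : ∀ w' : ↥(pullback f (Spec.map (CommRingCat.ofHom (algebraMap k K)))), w' ⤳ w →
      ζ ⤳ (pullback.fst f (Spec.map (CommRingCat.ofHom (algebraMap k K)))) w' → w ⤳ w') :
    topologicalKrullDim
      (closure ({w} : Set ↥(pullback f (Spec.map (CommRingCat.ofHom (algebraMap k K)))))) =
      topologicalKrullDim (closure ({ζ} : Set X)) :=
  topologicalKrullDim_closure_singleton_pullback_aux f _ rfl ζ w hζ hmax

theorem surjective_SpecMap_algebraMap_field (k K : Type u) [Field k] [Field K] [Algebra k K] :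
    Surjective (Spec.map (CommRingCat.ofHom (algebraMap k K))) := by
  refine ⟨fun x => ?_⟩
  haveI : Subsingleton (PrimeSpectrum k) := inferInstance
  exact ⟨(⊥ : PrimeSpectrum K), Subsingleton.elim (α := PrimeSpectrum k) _ _⟩

theorem flat_SpecMap_algebraMap_field (k K : Type u) [Field k] [Field K] [Algebra k K] :
    Flat (Spec.map (CommRingCat.ofHom (algebraMap k K))) := by
  rw [HasRingHomProperty.Spec_iff (P := @Flat)]
  show (algebraMap k K).Flat
  rw [RingHom.flat_algebraMap_iff]
  infer_instance

/-- Components of the inverse image in `X_K` of an irreducible closed subset `Z` of `X` have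
the dimension of `Z`. -/
theorem topologicalKrullDim_irreducibleComponent_preimage (Z : Set X) (hZc : IsClosed Z)
    (hZi : IsIrreducible Z)
    (W : Set ↥((pullback.fst f (Spec.map (CommRingCat.ofHom (algebraMap k K)))) ⁻¹' Z))
    (hW : W ∈ irreducibleComponents
      ↥((pullback.fst f (Spec.map (CommRingCat.ofHom (algebraMap k K)))) ⁻¹' Z)) :
    topologicalKrullDim ↥W = topologicalKrullDim ↥Z := by
  have hC : IsClosed ((pullback.fst f (Spec.map (CommRingCat.ofHom (algebraMap k K)))) ⁻¹' Z) :=
    hZc.preimage (pullback.fst f (Spec.map (CommRingCat.ofHom (algebraMap k K)))).continuous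
  haveI : QuasiSober ↥((pullback.fst f (Spec.map (CommRingCat.ofHom (algebraMap k K)))) ⁻¹' Z) :=
    hC.isClosedEmbedding_subtypeVal.quasiSober
  obtain ⟨ζ, hζ⟩ := QuasiSober.sober hZi hZc
  have hWc : IsClosed W := isClosed_of_mem_irreducibleComponents W hW
  obtain ⟨w₀, hw₀⟩ := QuasiSober.sober hW.1 hWc
  have hemb := hC.isClosedEmbedding_subtypeVal
  have h1 : topologicalKrullDim ↥W = topologicalKrullDim ↥(closure ({w₀.val} : Set _)) := by
    rw [IsHomeomorph.topologicalKrullDim_eq _
      (hemb.isEmbedding.homeomorphImage W).isHomeomorph]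
    have : Subtype.val '' W = closure ({w₀.val} : Set _) := by
      rw [← hw₀.def, ← hemb.closure_image_eq, Set.image_singleton]
    rw [this]
  have hmaxw := (Groth.Agent.Lib.helper7.DimSch.closure_mem_irreducibleComponents_iff w₀).mp
    (by rw [hw₀.def]; exact hW)
  have hZeq : topologicalKrullDim ↥Z = topologicalKrullDim ↥(closure ({ζ} : Set X)) := by
    rw [hζ.def]
  rw [h1, hZeq]
  apply topologicalKrullDim_closure_singleton_pullback f ζ w₀.val
  · apply specializes_iff_mem_closure.mpr
    rw [hζ.def]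
    exact w₀.2
  · intro w' h1 h2
    have hw'C : w' ∈ (pullback.fst f (Spec.map (CommRingCat.ofHom (algebraMap k K)))) ⁻¹' Z := by
      show _ ∈ Z
      rw [← hζ.def]
      exact specializes_iff_mem_closure.mp h2
    have h3 : (⟨w', hw'C⟩ : ↥((pullback.fst f
        (Spec.map (CommRingCat.ofHom (algebraMap k K)))) ⁻¹' Z)) ⤳ w₀ :=
      (subtype_specializes_iff _ _).mpr h1
    have h4 := hmaxw _ h3
    rw [← h4]

/-- The irreducible components of `X_K` have the same dimensions as those of `X`. -/
theorem image_topologicalKrullDim_irreducibleComponents_pullback :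
    (fun Z : Set ↥(pullback f (Spec.map (CommRingCat.ofHom (algebraMap k K)))) =>
        topologicalKrullDim ↥Z) ''
      irreducibleComponents ↥(pullback f (Spec.map (CommRingCat.ofHom (algebraMap k K)))) =
    (fun Z : Set ↥X => topologicalKrullDim ↥Z) '' irreducibleComponents ↥X := by
  haveI := surjective_SpecMap_algebraMap_field k K
  haveI := flat_SpecMap_algebraMap_field k K
  ext d
  constructor
  · rintro ⟨W, hW, rfl⟩
    have hWc : IsClosed W := isClosed_of_mem_irreducibleComponents W hW
    obtain ⟨w, hw⟩ := QuasiSober.sober hW.1 hWc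
    have hmaxw := (Groth.Agent.Lib.helper7.DimSch.closure_mem_irreducibleComponents_iff w).mp
      (by rw [hw.def]; exact hW)
    have hπmax : ∀ z : X, z ⤳ (pullback.fst f
        (Spec.map (CommRingCat.ofHom (algebraMap k K)))) w →
        z = (pullback.fst f (Spec.map (CommRingCat.ofHom (algebraMap k K)))) w := by
      intro z hz
      obtain ⟨w', hw', rfl⟩ := Flat.generalizingMap
        (pullback.fst f (Spec.map (CommRingCat.ofHom (algebraMap k K)))) hz
      rw [hmaxw w' hw']
    refine ⟨closure {(pullback.fst f (Spec.map (CommRingCat.ofHom (algebraMap k K)))) w},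
      (Groth.Agent.Lib.helper7.DimSch.closure_mem_irreducibleComponents_iff _).mpr hπmax, ?_⟩
    show topologicalKrullDim _ = topologicalKrullDim _
    rw [← hw.def]
    refine (topologicalKrullDim_closure_singleton_pullback f _ w specializes_rfl ?_).symm
    intro w' h1 _
    rw [hmaxw w' h1]
  · rintro ⟨Z, hZ, rfl⟩
    have hZc : IsClosed Z := isClosed_of_mem_irreducibleComponents Z hZ
    obtain ⟨ζ, hζ⟩ := QuasiSober.sober hZ.1 hZc
    have hmaxζ := (Groth.Agent.Lib.helper7.DimSch.closure_mem_irreducibleComponents_iff ζ).mp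
      (by rw [hζ.def]; exact hZ)
    obtain ⟨w0, hw0⟩ := (inferInstance : Surjective
      (pullback.fst f (Spec.map (CommRingCat.ofHom (algebraMap k K))))).surj ζ
    obtain ⟨w, hw, hwmax⟩ := Groth.Agent.Lib.helper7.DimSch.exists_maximal_generization w0
    have h1 := hw.map (pullback.fst f (Spec.map (CommRingCat.ofHom (algebraMap k K)))).continuous
    rw [hw0] at h1
    have hπw := hmaxζ _ h1
    refine ⟨closure {w},
      (Groth.Agent.Lib.helper7.DimSch.closure_mem_irreducibleComponents_iff w).mpr hwmax, ?_⟩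
    show topologicalKrullDim _ = topologicalKrullDim _
    rw [← hζ.def]
    refine topologicalKrullDim_closure_singleton_pullback f ζ w (by rw [hπw]) ?_
    intro w' h2 _
    rw [hwmax w' h2]

end Groth.Agent.Lib.helper7.TensorDim
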