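import Mathlib
import Groth.Agent.Lib.helper7.DimSch11
import Groth.Agent.Lib.helper7.DimBC
import Groth.Agent.Lib.helper7.DimLift
import Groth.Agent.Lib.helper7.TensorDim3

/-!
# Local dimension under extension of the base field
-/

universe u

open AlgebraicGeometry CategoryTheory Limits IsLocalRing

namespace Groth.Agent.Lib.helper7.DimSch

/-- For a flat morphism, `dim O_{X,x} = dim O_{Y,f x} + dim O_{X,x}/m_{f x} O_{X,x}`. -/
theorem ringKrullDim_stalk_eq_add_quotient_of_flat {X Y : Scheme.{u}} (f : X ⟶ Y) [Flat f] (x : X)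
    [IsNoetherianRing (X.presheaf.stalk x)]
    [IsNoetherianRing (Y.presheaf.stalk (f x))] :
    ringKrullDim (X.presheaf.stalk x) =
      ringKrullDim (Y.presheaf.stalk (f x)) +
        ringKrullDim (X.presheaf.stalk x ⧸
          Ideal.map (f.stalkMap x).hom (maximalIdeal (Y.presheaf.stalk (f x)))) := by
  have hflat : (f.stalkMap x).hom.Flat := Flat.stalkMap f x
  algebraize [(f.stalkMap x).hom]
  haveI : (maximalIdeal (X.presheaf.stalk x)).LiesOver
      (maximalIdeal (Y.presheaf.stalk (f x))) := by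
    refine ⟨?_⟩
    rw [Ideal.under_def]
    have hloc : IsLocalHom (algebraMap (Y.presheaf.stalk (f x)) (X.presheaf.stalk x)) :=
      inferInstanceAs (IsLocalHom (f.stalkMap x).hom)
    have h4 : (maximalIdeal (X.presheaf.stalk x)).comap
        (algebraMap (Y.presheaf.stalk (f x)) (X.presheaf.stalk x)) =
        maximalIdeal (Y.presheaf.stalk (f x)) :=
      ((IsLocalRing.local_hom_TFAE
        (algebraMap (Y.presheaf.stalk (f x)) (X.presheaf.stalk x))).out 0 4).1 hloc
    exact h4.symm
  have h := Ideal.height_eq_height_add_of_liesOver_of_hasGoingDown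
    (maximalIdeal (Y.presheaf.stalk (f x))) (maximalIdeal (X.presheaf.stalk x))
  set I := (maximalIdeal (Y.presheaf.stalk (f x))).map
    (algebraMap (Y.presheaf.stalk (f x)) (X.presheaf.stalk x)) with hI
  have hle : I ≤ maximalIdeal (X.presheaf.stalk x) := by
    rw [hI, Ideal.map_le_iff_le_comap]
    intro a ha
    exact map_nonunit (f.stalkMap x).hom a ha
  have hne : I ≠ ⊤ := fun htop =>
    (maximalIdeal.isMaximal (X.presheaf.stalk x)).ne_top (top_le_iff.mp (htop ▸ hle))
  haveI : Nontrivial (X.presheaf.stalk x ⧸ I) := Ideal.Quotient.nontrivial_iff.mpr hne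
  haveI : IsLocalRing (X.presheaf.stalk x ⧸ I) :=
    IsLocalRing.of_surjective' (Ideal.Quotient.mk I) Ideal.Quotient.mk_surjective
  have hmaxl : ((maximalIdeal (X.presheaf.stalk x)).map (Ideal.Quotient.mk I)).IsMaximal :=
    Ideal.IsMaximal.map_of_surjective_of_ker_le Ideal.Quotient.mk_surjective
      (by rw [Ideal.mk_ker]; exact hle)
  have hmeq : (maximalIdeal (X.presheaf.stalk x)).map (Ideal.Quotient.mk I) =
      maximalIdeal (X.presheaf.stalk x ⧸ I) := IsLocalRing.eq_maximalIdeal hmaxl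
  have h1 : ((maximalIdeal (X.presheaf.stalk x)).height : WithBot ℕ∞) =
      ((maximalIdeal (Y.presheaf.stalk (f x))).height : WithBot ℕ∞) +
        (((maximalIdeal (X.presheaf.stalk x)).map (Ideal.Quotient.mk I)).height : WithBot ℕ∞) := by
    rw [← WithBot.coe_add]
    exact congrArg _ h
  rw [hmeq, IsLocalRing.maximalIdeal_height_eq_ringKrullDim,
    IsLocalRing.maximalIdeal_height_eq_ringKrullDim,
    IsLocalRing.maximalIdeal_height_eq_ringKrullDim] at h1
  exact h1

section

variable (k : Type u) [Field k] (X : Scheme.{u}) [X.Over (Spec (CommRingCat.of k))]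
  [LocallyOfFiniteType (X ↘ Spec (CommRingCat.of k))]

theorem exists_ringKrullDim_stalk_eq_nat (k : Type u) [Field k] (X : Scheme.{u})
    [X.Over (Spec (CommRingCat.of k))] [LocallyOfFiniteType (X ↘ Spec (CommRingCat.of k))] (x : X) :
    ∃ b : ℕ, ringKrullDim (X.presheaf.stalk x) = (b : WithBot ℕ∞) := by
  obtain ⟨_, ⟨W, hW, rfl⟩, hxW, -⟩ :=
    X.isBasis_affineOpens.exists_subset_of_mem_open (Set.mem_univ x) isOpen_univ
  have hW' : IsAffineOpen W := hW
  letI := (sectionMap k X W).toAlgebra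
  haveI : Algebra.FiniteType k Γ(X, W) := sectionMap_finiteType k X hW'
  haveI : IsNoetherianRing Γ(X, W) := Algebra.FiniteType.isNoetherianRing k _
  haveI := (hW'.primeIdealOf ⟨x, hxW⟩).isPrime
  have hfin : (hW'.primeIdealOf ⟨x, hxW⟩).asIdeal.height ≠ ⊤ := Ideal.height_ne_top_of_isPrime
  obtain ⟨b, hb⟩ := ENat.ne_top_iff_exists.mp hfin
  refine ⟨b, ?_⟩
  rw [ringKrullDim_stalk_eq_height hW' x hxW, ← hb]
  rfl

/-- The local dimension at `x` is `dim O_{X,x} + trdeg κ(x)`. -/
theorem localDim_eq_stalk_add_trdegNat (x : X) :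
    FlatMor.localDim X x =
      ringKrullDim (X.presheaf.stalk x) + ((trdegNat k X x : ℕ) : WithBot ℕ∞) := by
  obtain ⟨b, hb⟩ := exists_ringKrullDim_stalk_eq_nat k X x
  rw [localDim_eq k X x (trdegNat k X x) b (trdegNat_spec k X x) hb, hb]
  push_cast
  rw [add_comm]

end

section bc

variable {k K : Type u} [Field k] [Field K] [Algebra k K] {X : Scheme.{u}}
  (f : X ⟶ Spec (CommRingCat.of k)) [LocallyOfFiniteType f]

/-- The inverse image in `X_K` of an open `U ⊆ X` has the dimension of `U`. -/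
theorem topologicalKrullDim_preimage_opens_pullback_field_aux
    (g : Spec (CommRingCat.of K) ⟶ Spec (CommRingCat.of k))
    (hg : g = Spec.map (CommRingCat.ofHom (algebraMap k K))) (U : X.Opens) :
    topologicalKrullDim ↥(((pullback.fst f g) ⁻¹ᵁ U : (pullback f g).Opens) : Set ↥(pullback f g)) =
      topologicalKrullDim ↥(U : Set X) := by
  subst hg
  let e : ((pullback.fst f (Spec.map (CommRingCat.ofHom (algebraMap k K)))) ⁻¹ᵁ U).toScheme ≅
      pullback (U.ι ≫ f) (Spec.map (CommRingCat.ofHom (algebraMap k K))) :=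
    (pullbackRestrictIsoRestrict _ U).symm ≪≫ pullbackSymmetry _ _ ≪≫
      pullbackRightPullbackFstIso f _ U.ι
  have h1 := IsHomeomorph.topologicalKrullDim_eq _ e.hom.homeomorph.isHomeomorph
  have h2 := DimBC.topologicalKrullDim_pullback_field (K := K) (U.ι ≫ f)
  exact h1.trans h2

theorem localDim_pullback_field_aux
    (g : Spec (CommRingCat.of K) ⟶ Spec (CommRingCat.of k))
    (hg : g = Spec.map (CommRingCat.ofHom (algebraMap k K)))
    (y : ↥(pullback f g)) :
    FlatMor.localDim ↥(pullback f g) y = FlatMor.localDim ↥X ((pullback.fst f g) y) := by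
  haveI : Flat g := hg ▸ Groth.Agent.Lib.helper7.TensorDim.flat_SpecMap_algebraMap_field k K
  unfold FlatMor.localDim
  apply le_antisymm
  · refine le_iInf fun ⟨U, hxU⟩ => ?_
    refine iInf_le_of_le ⟨(pullback.fst f g) ⁻¹ᵁ U, hxU⟩ ?_
    exact (topologicalKrullDim_preimage_opens_pullback_field_aux f g hg U).le
  · refine le_iInf fun ⟨W, hyW⟩ => ?_
    have hopen : IsOpen ((pullback.fst f g) '' (W : Set ↥(pullback f g))) :=
      (pullback.fst f g).isOpenMap _ W.2
    refine iInf_le_of_le ⟨⟨_, hopen⟩, ⟨y, hyW, rfl⟩⟩ ?_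
    show topologicalKrullDim ↥((pullback.fst f g) '' (W : Set ↥(pullback f g))) ≤
      topologicalKrullDim ↥(W : Set ↥(pullback f g))
    haveI : QuasiSober ↥((pullback.fst f g) '' (W : Set ↥(pullback f g))) :=
      hopen.isOpenEmbedding_subtypeVal.quasiSober
    let r : ↥(W : Set ↥(pullback f g)) → ↥((pullback.fst f g) '' (W : Set ↥(pullback f g))) :=
      fun w => ⟨_, ⟨w.1, w.2, rfl⟩⟩
    apply Groth.Agent.Lib.helper7.DimLift.topologicalKrullDim_le_of_generalizingMap r
    · rintro ⟨_, ⟨w, hw, rfl⟩⟩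
      exact ⟨⟨w, hw⟩, rfl⟩
    · intro w z' hz'
      have h1 : (z' : X) ⤳ (pullback.fst f g) w.1 := (subtype_specializes_iff _ _).mp hz'
      obtain ⟨w', hw', hw'z⟩ := Flat.generalizingMap (pullback.fst f g) h1
      have hw'W : w' ∈ (W : Set ↥(pullback f g)) := hw'.mem_open W.2 w.2
      exact ⟨⟨w', hw'W⟩, (subtype_specializes_iff _ _).mpr hw', Subtype.ext hw'z⟩

end bc

end Groth.Agent.Lib.helper7.DimSch
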