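import Mathlib
import Groth.Agent.Lib.helper7.DimSch14
import Groth.Agent.Lib.helper7.DimSch9
import Groth.Agent.Lib.helper7.FibStalk

/-!
# Local dimension of a product over a field
-/

universe u

open AlgebraicGeometry CategoryTheory Limits IsLocalRing

namespace Groth.Agent.Lib.helper7.DimSch

theorem localDim_homeomorph {A B : Type*} [TopologicalSpace A] [TopologicalSpace B] (h : A ≃ₜ B)
    (a : A) : FlatMor.localDim A a = FlatMor.localDim B (h a) := by
  unfold FlatMor.localDim
  apply le_antisymm
  · refine le_iInf fun ⟨V, hV⟩ => ?_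
    have hopen : IsOpen (h.symm '' (V : Set B)) := h.symm.isOpenMap _ V.2
    refine iInf_le_of_le ⟨⟨_, hopen⟩, ⟨h a, hV, h.symm_apply_apply a⟩⟩ ?_
    exact (IsHomeomorph.topologicalKrullDim_eq _ (h.symm.image (V : Set B)).isHomeomorph).symm.le
  · refine le_iInf fun ⟨U, hU⟩ => ?_
    have hopen : IsOpen (h '' (U : Set A)) := h.isOpenMap _ U.2
    refine iInf_le_of_le ⟨⟨_, hopen⟩, ⟨a, hU, rfl⟩⟩ ?_
    exact (IsHomeomorph.topologicalKrullDim_eq _ (h.image (U : Set A)).isHomeomorph).symm.le

variable {k : Type u} [Field k] {X Y : Scheme.{u}}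
  (f : X ⟶ Spec (CommRingCat.of k)) (g : Y ⟶ Spec (CommRingCat.of k))

set_option backward.isDefEq.respectTransparency false in
/-- The local dimension of the fibre of `X ×_k Y → X` at `z` is the local dimension of `Y`. -/
theorem localDim_fiber_fst [LocallyOfFiniteType g] (x : X) (z₀ : (pullback.fst f g).fiber x) :
    FlatMor.localDim ↥((pullback.fst f g).fiber x) z₀ =
      FlatMor.localDim ↥Y (pullback.snd f g ((pullback.fst f g).fiberι x z₀)) := by
  obtain ⟨ψ, hψ⟩ := Spec.map_surjective (X.fromSpecResidueField x ≫ f)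
  algebraize [ψ.hom]
  have hψ' : X.fromSpecResidueField x ≫ f =
      Spec.map (CommRingCat.ofHom (algebraMap k (X.residueField x))) := by
    rw [← hψ]; rfl
  let e : (pullback.fst f g).fiber x ≅
      pullback g (Spec.map (CommRingCat.ofHom (algebraMap k (X.residueField x)))) :=
    pullbackSymmetry _ _ ≪≫ pullbackRightPullbackFstIso f g (X.fromSpecResidueField x) ≪≫
      pullbackSymmetry _ _ ≪≫ pullback.congrHom rfl hψ'
  have he : e.hom ≫ pullback.fst g _ = (pullback.fst f g).fiberι x ≫ pullback.snd f g := by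
    simp [e, Scheme.Hom.fiberι]
  rw [localDim_homeomorph e.hom.homeomorph z₀]
  have h1 := localDim_pullback_field_aux (K := X.residueField x) g _ rfl (e.hom z₀)
  have h2 : (pullback.fst g (Spec.map (CommRingCat.ofHom (algebraMap k (X.residueField x)))))
      (e.hom z₀) = pullback.snd f g ((pullback.fst f g).fiberι x z₀) := by
    rw [← Scheme.Hom.comp_apply, he, Scheme.Hom.comp_apply]
  rw [h2] at h1
  exact h1

set_option backward.isDefEq.respectTransparency false in
/-- `dim_z (X ×_k Y) = dim_x X + dim_y Y`. -/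
theorem localDim_prod [LocallyOfFiniteType f] [LocallyOfFiniteType g] (z : ↥(pullback f g)) :
    FlatMor.localDim ↥(pullback f g) z =
      FlatMor.localDim ↥X (pullback.fst f g z) + FlatMor.localDim ↥Y (pullback.snd f g z) := by
  letI : X.Over (Spec (CommRingCat.of k)) := ⟨f⟩
  haveI : LocallyOfFiniteType (X ↘ Spec (CommRingCat.of k)) := ‹LocallyOfFiniteType f›
  letI : (pullback f g).Over (Spec (CommRingCat.of k)) := ⟨pullback.fst f g ≫ f⟩
  haveI : LocallyOfFiniteType ((pullback f g) ↘ Spec (CommRingCat.of k)) :=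
    (inferInstance : LocallyOfFiniteType (pullback.fst f g ≫ f))
  have hf : pullback.fst f g ≫ (X ↘ Spec (CommRingCat.of k)) =
      (pullback f g) ↘ Spec (CommRingCat.of k) := rfl
  haveI : Flat g := inferInstance
  haveI : Flat (pullback.fst f g) := inferInstance
  haveI : IsLocallyNoetherian X :=
    LocallyOfFiniteType.isLocallyNoetherian (X ↘ Spec (CommRingCat.of k))
  haveI : IsLocallyNoetherian (pullback f g) :=
    LocallyOfFiniteType.isLocallyNoetherian ((pullback f g) ↘ Spec (CommRingCat.of k))
  obtain ⟨x, z₀, rfl⟩ : ∃ x, ∃ z₀ : (pullback.fst f g).fiber x,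
      z = (pullback.fst f g).fiberι x z₀ :=
    ⟨_, (pullback.fst f g).asFiber z, ((pullback.fst f g).fiberι_asFiber z).symm⟩
  have hx : (pullback.fst f g) ((pullback.fst f g).fiberι x z₀) = x :=
    Groth.Agent.Lib.helper7.FibStalk.apply_fiberι _ x z₀
  rw [← localDim_fiber_fst f g x z₀]
  letI : ((pullback.fst f g).fiber x).Over (Spec (CommRingCat.of (X.residueField x))) :=
    ⟨(pullback.fst f g).fiberToSpecResidueField x⟩
  haveI : LocallyOfFiniteType
      (((pullback.fst f g).fiber x) ↘ Spec (CommRingCat.of (X.residueField x))) :=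
    (MorphismProperty.pullback_snd _ _ inferInstance :
      LocallyOfFiniteType ((pullback.fst f g).fiberToSpecResidueField x))
  rw [localDim_eq_stalk_add_trdegNat k (pullback f g),
    localDim_eq_stalk_add_trdegNat k X,
    localDim_eq_stalk_add_trdegNat (X.residueField x) ((pullback.fst f g).fiber x) z₀,
    ringKrullDim_stalk_eq_add_of_flat (pullback.fst f g) x z₀,
    trdegNat_eq_add_fiberTrdegNat (pullback.fst f g) x k hf z₀, hx]
  have h5 : fiberTrdegNat (pullback.fst f g) x z₀ =
      trdegNat (X.residueField x) ((pullback.fst f g).fiber x) z₀ := rfl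
  rw [h5]
  push_cast
  exact add_add_add_comm _ _ _ _

end Groth.Agent.Lib.helper7.DimSch
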