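import Mathlib
import Groth.Prelude.Def_EGA4b
import Groth.Agent.Lib.helper7.TensorDim2
import Groth.Agent.Lib.helper7.DimFT
import Groth.Agent.Lib.helper7.DimFT2

/-!
# The fibre local rings of `S → S ⊗[k] K`
-/

universe u v

open TensorProduct

namespace Groth.Agent.Lib.helper7.TensorDim

/-- The dimension of the fibre local ring `B_Q / p B_Q` is the height of `Q / pB` in `B / pB`. -/
theorem ringKrullDim_fibLocRing (A : Type u) (B : Type v) [CommRing A] [CommRing B] [Algebra A B]
    (Q : Ideal B) [Q.IsPrime] (p : Ideal A) (hp : Q.comap (algebraMap A B) = p) :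
    ringKrullDim (EGA4.FibLocRing A B Q) =
      ((Q.map (Ideal.Quotient.mk (p.map (algebraMap A B)))).height : WithBot ℕ∞) := by
  subst hp
  set I := (Q.comap (algebraMap A B)).map (algebraMap A B) with hI
  have hIQ : I ≤ Q := Ideal.map_comap_le
  have h1 : (Q.comap (algebraMap A B)).map (algebraMap A (Localization.AtPrime Q)) =
      I.map (algebraMap B (Localization.AtPrime Q)) := by
    rw [hI, Ideal.map_map, ← IsScalarTower.algebraMap_eq]
  haveI : (Q.map (Ideal.Quotient.mk I)).IsPrime := Ideal.isPrime_map_quotientMk_of_isPrime hIQ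
  have hsub : Algebra.algebraMapSubmonoid (B ⧸ I) Q.primeCompl =
      (Q.map (Ideal.Quotient.mk I)).primeCompl := by
    ext x
    obtain ⟨y, rfl⟩ := Ideal.Quotient.mk_surjective x
    constructor
    · rintro ⟨z, hz, hzy⟩
      show _ ∉ _
      rw [← hzy]
      intro hmem
      exact hz ((Ideal.mem_quotient_iff_mem hIQ).mp hmem)
    · intro hy
      have : y ∉ Q := fun h => hy ((Ideal.mem_quotient_iff_mem hIQ).mpr h)
      exact ⟨y, this, rfl⟩
  have hloc : IsLocalization (Algebra.algebraMapSubmonoid (B ⧸ I) Q.primeCompl)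
      (Localization.AtPrime Q ⧸ I.map (algebraMap B (Localization.AtPrime Q))) := inferInstance
  rw [hsub] at hloc
  haveI : IsLocalization.AtPrime
      (Localization.AtPrime Q ⧸ I.map (algebraMap B (Localization.AtPrime Q)))
      (Q.map (Ideal.Quotient.mk I)) := hloc
  rw [← IsLocalization.AtPrime.ringKrullDim_eq_height (Q.map (Ideal.Quotient.mk I))
    (Localization.AtPrime Q ⧸ I.map (algebraMap B (Localization.AtPrime Q)))]
  exact ringKrullDim_eq_of_ringEquiv (Ideal.quotEquivOfEq h1)

theorem trdeg_of_isFractionRing (k A F : Type u) [Field k] [CommRing A] [IsDomain A] [Field F]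
    [Algebra k A] [Algebra A F] [Algebra k F] [IsScalarTower k A F] [IsFractionRing A F] :
    Algebra.trdeg k F = Algebra.trdeg k A := by
  haveI : Algebra.IsAlgebraic A F := IsLocalization.isAlgebraic _ (nonZeroDivisors A)
  have h1 := trdeg_add_eq k A (A := F)
  have h2 : Algebra.trdeg A F = 0 := trdeg_eq_zero
  rw [← h1, h2, add_zero]

/-- For a finite type `k`-algebra, `dim S/q` is the transcendence degree of `κ(q)`. -/
theorem ringKrullDim_quotient_eq_of_trdeg_residueField (k S : Type u) [Field k] [CommRing S]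
    [Algebra k S] [Algebra.FiniteType k S] (q : Ideal S) [q.IsPrime] (r : ℕ)
    (hr : Algebra.trdeg k q.ResidueField = r) : ringKrullDim (S ⧸ q) = r := by
  obtain ⟨n, h1, h2⟩ := DimFT.exists_trdeg_eq_ringKrullDim (k := k) (S ⧸ q)
  have h3 := trdeg_of_isFractionRing k (S ⧸ q) q.ResidueField
  rw [hr, h1] at h3
  have h4 : r = n := by exact_mod_cast h3
  rw [h2, h4]

/-- `S ⊗[k] K` is of finite type over `K` (acting on the right). -/
theorem finiteType_rightAlgebra (k S K : Type u) [Field k] [CommRing S] [Algebra k S]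
    [Algebra.FiniteType k S] [Field K] [Algebra k K] :
    letI : Algebra K (S ⊗[k] K) := Algebra.TensorProduct.rightAlgebra
    Algebra.FiniteType K (S ⊗[k] K) := by
  letI : Algebra K (S ⊗[k] K) := Algebra.TensorProduct.rightAlgebra
  let φ : K ⊗[k] S →ₐ[K] S ⊗[k] K :=
    { (Algebra.TensorProduct.comm k K S).toAlgHom.toRingHom with
      commutes' := fun c => by
        show (Algebra.TensorProduct.comm k K S) (algebraMap K (K ⊗[k] S) c) = _
        rw [Algebra.TensorProduct.algebraMap_apply, Algebra.TensorProduct.comm_tmul]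
        rfl }
  refine Algebra.FiniteType.of_surjective φ ?_
  exact (Algebra.TensorProduct.comm k K S).surjective

set_option backward.isDefEq.respectTransparency false in
/-- The fibre local rings of `S → S ⊗[k] K` (= S9180). -/
theorem fibLocRing_tensor (k S K : Type u) [Field k] [CommRing S] [Algebra k S]
    [Algebra.FiniteType k S] [Field K] [Algebra k K] (q : Ideal S) [q.IsPrime] (r : ℕ)
    (hr : Algebra.trdeg k q.ResidueField = r) (qK : Ideal (S ⊗[k] K)) [qK.IsPrime] [qK.LiesOver q]
    (rK : ℕ)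
    (hrK : letI : Algebra K (S ⊗[k] K) := Algebra.TensorProduct.rightAlgebra
      Algebra.trdeg K qK.ResidueField = rK) :
    ringKrullDim (EGA4.FibLocRing S (S ⊗[k] K) qK) + ringKrullDim (Localization.AtPrime q) =
        ringKrullDim (Localization.AtPrime qK) ∧
      ringKrullDim (EGA4.FibLocRing S (S ⊗[k] K) qK) + (rK : WithBot ℕ∞) = (r : WithBot ℕ∞) ∧
      ∃ (q' : Ideal (S ⊗[k] K)) (_ : q'.IsPrime), q'.LiesOver q ∧
        ringKrullDim (EGA4.FibLocRing S (S ⊗[k] K) q') = 0 := by
  letI : Algebra K (S ⊗[k] K) := Algebra.TensorProduct.rightAlgebra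
  haveI : Algebra.FiniteType K (S ⊗[k] K) := finiteType_rightAlgebra k S K
  haveI : IsNoetherianRing (S ⊗[k] K) := Algebra.FiniteType.isNoetherianRing K _
  haveI : IsNoetherianRing S := Algebra.FiniteType.isNoetherianRing k S
  have hq : qK.comap (algebraMap S (S ⊗[k] K)) = q :=
    (Ideal.LiesOver.over (p := q) (P := qK)).symm
  set I := q.map (algebraMap S (S ⊗[k] K)) with hI
  have hIQ : I ≤ qK := by rw [hI, Ideal.map_le_iff_le_comap, hq]
  haveI : (qK.map (Ideal.Quotient.mk I)).IsPrime := Ideal.isPrime_map_quotientMk_of_isPrime hIQ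
  have hfib := ringKrullDim_fibLocRing S (S ⊗[k] K) qK q hq
  have hsurj : Function.Surjective (Ideal.Quotient.mk I) := Ideal.Quotient.mk_surjective
  refine ⟨?_, ?_, ?_⟩
  · rw [hfib, IsLocalization.AtPrime.ringKrullDim_eq_height q (Localization.AtPrime q),
      IsLocalization.AtPrime.ringKrullDim_eq_height qK (Localization.AtPrime qK),
      Ideal.height_eq_height_add_of_liesOver_of_hasGoingDown q qK]
    push_cast
    rw [add_comm]
  · rw [hfib]
    haveI : Algebra.FiniteType K ((S ⊗[k] K) ⧸ I) :=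
      Algebra.FiniteType.of_surjective (Ideal.Quotient.mkₐ K I) (Ideal.Quotient.mkₐ_surjective K I)
    obtain ⟨p₀, hp₀, hle, hdim⟩ := DimFT.exists_minimalPrimes_ringKrullDim_eq (k := K)
      ((S ⊗[k] K) ⧸ I) (qK.map (Ideal.Quotient.mk I))
    haveI : p₀.IsPrime := hp₀.1.1
    set P₀ := p₀.comap (Ideal.Quotient.mk I) with hP₀
    have hp₀eq : p₀ = P₀.map (Ideal.Quotient.mk I) := (Ideal.map_comap_of_surjective _ hsurj p₀).symm
    have hIP₀ : I ≤ P₀ := by
      conv_lhs => rw [← Ideal.mk_ker (I := I), RingHom.ker_eq_comap_bot]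
      exact Ideal.comap_mono bot_le
    have hP₀min : P₀ ∈ I.minimalPrimes := by
      have h1 := Ideal.comap_minimalPrimes_eq_of_surjective hsurj (⊥ : Ideal ((S ⊗[k] K) ⧸ I))
      rw [← RingHom.ker_eq_comap_bot, Ideal.mk_ker] at h1
      rw [h1]
      exact ⟨p₀, hp₀, rfl⟩
    have h2 : ringKrullDim (((S ⊗[k] K) ⧸ I) ⧸ p₀) = (r : WithBot ℕ∞) := by
      rw [hp₀eq, ringKrullDim_eq_of_ringEquiv (DoubleQuot.quotQuotEquivQuotOfLE hIP₀),
        ringKrullDim_quotient_of_mem_minimalPrimes_map k S K q P₀ hP₀min]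
      exact ringKrullDim_quotient_eq_of_trdeg_residueField k S q r hr
    have h3 : ringKrullDim (((S ⊗[k] K) ⧸ I) ⧸ qK.map (Ideal.Quotient.mk I)) =
        (rK : WithBot ℕ∞) := by
      rw [ringKrullDim_eq_of_ringEquiv (DoubleQuot.quotQuotEquivQuotOfLE hIQ)]
      exact ringKrullDim_quotient_eq_of_trdeg_residueField K (S ⊗[k] K) qK rK hrK
    rw [h2, h3] at hdim
    rw [hdim, add_comm]
  · obtain ⟨q', hq'min, hq'le⟩ := Ideal.exists_minimalPrimes_le hIQ
    haveI : q'.IsPrime := hq'min.1.1
    have hq'c : q'.comap (algebraMap S (S ⊗[k] K)) = q := by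
      apply le_antisymm
      · rw [← hq]; exact Ideal.comap_mono hq'le
      · rw [← Ideal.map_le_iff_le_comap]; exact hq'min.1.2
    refine ⟨q', inferInstance, ⟨hq'c.symm⟩, ?_⟩
    rw [ringKrullDim_fibLocRing S (S ⊗[k] K) q' q hq'c]
    haveI : (q'.map (Ideal.Quotient.mk I)).IsPrime :=
      Ideal.isPrime_map_quotientMk_of_isPrime hq'min.1.2
    have h0 : (q'.map (Ideal.Quotient.mk I)).height = 0 := by
      rw [Ideal.height_eq_zero_iff]
      have h1 := Ideal.minimalPrimes_map_of_surjective (f := Ideal.Quotient.mk I) hsurj (I := I)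
      have h2 : q'.map (Ideal.Quotient.mk I) ∈ (I.map (Ideal.Quotient.mk I)).minimalPrimes := by
        rw [h1]
        refine ⟨q', ?_, rfl⟩
        have h5 : I ⊔ RingHom.ker (Ideal.Quotient.mk I) = I := by
          rw [Ideal.mk_ker, sup_idem]
        rw [h5]
        exact hq'min
      rwa [Ideal.map_quotient_self] at h2
    rw [h0]
    rfl

end Groth.Agent.Lib.helper7.TensorDim
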