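import Mathlib
import Groth.Agent.Lib.helper7.DimSch15
import Groth.Agent.Lib.helper7.TensorDim5
import Groth.Agent.Lib.helper9.TopDim
import Groth.Agent.S1617

/-!
# Local dimension of the spectrum of a finite type algebra over a field
-/

universe u

open AlgebraicGeometry CategoryTheory Limits TensorProduct

namespace Groth.Agent.Lib.helper7.DimSpec

open Groth.Agent.Lib.helper7.DimSch Groth.Agent.Lib.helper7.TensorDim

variable (k S : Type u) [Field k] [CommRing S] [Algebra k S]

/-- The structure morphism `Spec S ⟶ Spec k`. -/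
noncomputable abbrev str : Spec (CommRingCat.of S) ⟶ Spec (CommRingCat.of k) :=
  Spec.map (CommRingCat.ofHom (algebraMap k S))

instance [Algebra.FiniteType k S] : LocallyOfFiniteType (str k S) := by
  rw [HasRingHomProperty.Spec_iff (P := @LocallyOfFiniteType)]
  exact RingHom.finiteType_algebraMap.mpr ‹_›

variable [Algebra.FiniteType k S]

theorem topologicalKrullDim_closure_singleton_eq (x : PrimeSpectrum S) (r : ℕ)
    (hr : Algebra.trdeg k x.asIdeal.ResidueField = r) :
    topologicalKrullDim (closure ({x} : Set (PrimeSpectrum S))) = (r : WithBot ℕ∞) := by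
  rw [topologicalKrullDim_closure_singleton_primeSpectrum]
  exact ringKrullDim_quotient_eq_of_trdeg_residueField k S x.asIdeal r hr

theorem trdegNat_eq (x : PrimeSpectrum S) (r : ℕ)
    (hr : Algebra.trdeg k x.asIdeal.ResidueField = r) :
    @trdegNat k _ (Spec (CommRingCat.of S)) ⟨str k S⟩ x = r := by
  letI : (Spec (CommRingCat.of S)).Over (Spec (CommRingCat.of k)) := ⟨str k S⟩
  haveI : LocallyOfFiniteType ((Spec (CommRingCat.of S)) ↘ Spec (CommRingCat.of k)) :=
    (inferInstance : LocallyOfFiniteType (str k S))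
  have h1 := topologicalKrullDim_closure_singleton k (Spec (CommRingCat.of S)) x
  have h2 := topologicalKrullDim_closure_singleton_eq k S x r hr
  have h3 : ((trdegNat k (Spec (CommRingCat.of S)) x : ℕ) : WithBot ℕ∞) = (r : WithBot ℕ∞) :=
    h1.symm.trans h2
  exact_mod_cast h3

theorem ringKrullDim_stalk_eq (x : PrimeSpectrum S) :
    ringKrullDim ((Spec (CommRingCat.of S)).presheaf.stalk x) =
      ringKrullDim (Localization.AtPrime x.asIdeal) := by
  rw [IsLocalization.AtPrime.ringKrullDim_eq_height x.asIdeal (Localization.AtPrime x.asIdeal)]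
  exact IsLocalization.AtPrime.ringKrullDim_eq_height x.asIdeal
    ((Spec.structureSheaf S).presheaf.stalk x)

/-- `dim_p Spec S = dim S_p + trdeg κ(p)` (= S2141). -/
theorem localDim_eq (p : Ideal S) [p.IsPrime] (r : ℕ)
    (hr : Algebra.trdeg k p.ResidueField = r) :
    FlatMor.localDim (PrimeSpectrum S) ⟨p, inferInstance⟩ =
      ringKrullDim (Localization.AtPrime p) + (r : WithBot ℕ∞) := by
  letI : (Spec (CommRingCat.of S)).Over (Spec (CommRingCat.of k)) := ⟨str k S⟩
  haveI : LocallyOfFiniteType ((Spec (CommRingCat.of S)) ↘ Spec (CommRingCat.of k)) :=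
    (inferInstance : LocallyOfFiniteType (str k S))
  have h1 := localDim_eq_stalk_add_trdegNat k (Spec (CommRingCat.of S))
    (⟨p, inferInstance⟩ : PrimeSpectrum S)
  rw [trdegNat_eq k S ⟨p, inferInstance⟩ r hr, ringKrullDim_stalk_eq S ⟨p, inferInstance⟩] at h1
  exact h1

set_option backward.isDefEq.respectTransparency false in
/-- Local dimension is invariant under extension of the base field (= S2142). -/
theorem localDim_tensor (K : Type u) [Field K] [Algebra k K] (q : Ideal S) [q.IsPrime]
    (qK : Ideal (K ⊗[k] S)) [qK.IsPrime]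
    (hq : qK.comap (Algebra.TensorProduct.includeRight.toRingHom : S →+* K ⊗[k] S) = q) :
    FlatMor.localDim (PrimeSpectrum (K ⊗[k] S)) ⟨qK, inferInstance⟩ =
      FlatMor.localDim (PrimeSpectrum S) ⟨q, inferInstance⟩ := by
  let e : pullback (str k S) (Spec.map (CommRingCat.ofHom (algebraMap k K))) ≅
      Spec (CommRingCat.of (K ⊗[k] S)) :=
    pullbackSymmetry _ _ ≪≫ pullbackSpecIso k K S
  have he : e.inv ≫ pullback.fst (str k S) (Spec.map (CommRingCat.ofHom (algebraMap k K))) =
      Spec.map (CommRingCat.ofHom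
        (Algebra.TensorProduct.includeRight.toRingHom : S →+* K ⊗[k] S)) := by
    simp [e]
  have h1 := localDim_homeomorph e.inv.homeomorph (⟨qK, inferInstance⟩ : PrimeSpectrum (K ⊗[k] S))
  have h2 := localDim_pullback_field_aux (str k S) (Spec.map (CommRingCat.ofHom (algebraMap k K)))
    rfl (e.inv (⟨qK, inferInstance⟩ : PrimeSpectrum (K ⊗[k] S)))
  have h3 : (pullback.fst (str k S) (Spec.map (CommRingCat.ofHom (algebraMap k K))))
      (e.inv (⟨qK, inferInstance⟩ : PrimeSpectrum (K ⊗[k] S))) =
      (⟨q, inferInstance⟩ : PrimeSpectrum S) := by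
    rw [← Scheme.Hom.comp_apply, he]
    exact PrimeSpectrum.ext hq
  rw [h3] at h2
  exact h1.trans h2

theorem localDim_le_of_specializes {T : Type*} [TopologicalSpace T] {x y : T} (h : x ⤳ y) :
    FlatMor.localDim T x ≤ FlatMor.localDim T y := by
  unfold FlatMor.localDim
  exact le_iInf fun ⟨U, hU⟩ => iInf_le_of_le ⟨U, h.mem_open U.2 hU⟩ le_rfl

include k in
/-- At a maximal ideal, the local dimension is the dimension of the local ring. -/
theorem localDim_of_isMaximal (m : Ideal S) [hm : m.IsMaximal] :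
    FlatMor.localDim (PrimeSpectrum S) ⟨m, hm.isPrime'⟩ =
      ringKrullDim (Localization.AtPrime (hp := hm.isPrime') m) := by
  letI : (Spec (CommRingCat.of S)).Over (Spec (CommRingCat.of k)) := ⟨str k S⟩
  haveI : LocallyOfFiniteType ((Spec (CommRingCat.of S)) ↘ Spec (CommRingCat.of k)) :=
    (inferInstance : LocallyOfFiniteType (str k S))
  have hcl : IsClosed ({(⟨m, hm.isPrime'⟩ : PrimeSpectrum S)} : Set (PrimeSpectrum S)) :=
    (PrimeSpectrum.isClosed_singleton_iff_isMaximal _).mpr hm
  have h1 := Groth.Agent.S1617.result k (Spec (CommRingCat.of S))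
    (⟨m, hm.isPrime'⟩ : PrimeSpectrum S) hcl
  rw [ringKrullDim_stalk_eq S ⟨m, hm.isPrime'⟩] at h1
  exact h1

include k in
/-- `dim_p Spec S` is the infimum of `dim S_m` over the maximal ideals `m ⊇ p` (= S2143). -/
theorem localDim_eq_iInf (p : Ideal S) [p.IsPrime] :
    FlatMor.localDim (PrimeSpectrum S) ⟨p, inferInstance⟩ =
      ⨅ m : {m : Ideal S // m.IsMaximal ∧ p ≤ m},
        ringKrullDim (Localization.AtPrime (hp := m.2.1.isPrime') m.1) := by
  haveI : IsJacobsonRing S := isJacobsonRing_of_finiteType (A := k)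
  apply le_antisymm
  · refine le_iInf fun ⟨m, hm, hpm⟩ => ?_
    haveI := hm
    rw [← localDim_of_isMaximal k S m]
    apply localDim_le_of_specializes
    rw [← PrimeSpectrum.le_iff_specializes]
    exact hpm
  · obtain ⟨U, hxU, hU⟩ := Groth.Agent.H9TopDim.exists_open_dim_eq_localDim
      (⟨p, inferInstance⟩ : PrimeSpectrum S)
    obtain ⟨y, ⟨hyU, hyc⟩, hycl⟩ := nonempty_inter_closedPoints
      (Z := (U : Set (PrimeSpectrum S)) ∩ closure {(⟨p, inferInstance⟩ : PrimeSpectrum S)})
      ⟨_, hxU, subset_closure rfl⟩ (U.2.isLocallyClosed.inter isClosed_closure.isLocallyClosed)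
    have hym : y.asIdeal.IsMaximal := (PrimeSpectrum.isClosed_singleton_iff_isMaximal y).mp hycl
    have hpy : p ≤ y.asIdeal := by
      have : (⟨p, inferInstance⟩ : PrimeSpectrum S) ⤳ y := specializes_iff_mem_closure.mpr hyc
      rw [← PrimeSpectrum.le_iff_specializes] at this
      exact this
    refine iInf_le_of_le ⟨y.asIdeal, hym, hpy⟩ ?_
    haveI := hym
    show ringKrullDim (Localization.AtPrime (hp := hym.isPrime') y.asIdeal) ≤ _
    rw [← localDim_of_isMaximal k S y.asIdeal, ← hU]
    exact Groth.Agent.H9TopDim.localDim_le_dim_open U _ hyU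

end Groth.Agent.Lib.helper7.DimSpec
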