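import Mathlib

/-! Common points over two base changes, and descent of local properties along flat maps (helper7). -/

universe u

open AlgebraicGeometry CategoryTheory Limits TensorProduct

namespace Groth.Agent.Lib.helper7.CommonPt

/-- Stalk maps of flat morphisms are injective. -/
theorem injective_stalkMap {Z W : Scheme.{u}} (g : Z ⟶ W) [Flat g] (z : Z) :
    Function.Injective (g.stalkMap z) := by
  algebraize [(g.stalkMap z).hom]
  have : Module.FaithfullyFlat (W.presheaf.stalk (g z)) (Z.presheaf.stalk z) :=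
    @Module.FaithfullyFlat.of_flat_of_isLocalHom _ _ _ _ _ _ _
      (Flat.stalkMap g z) (g.toLRSHom.prop z)
  exact ‹RingHom.FaithfullyFlat _›.injective

/-- Any morphism between spectra of fields is flat. -/
theorem flat_of_field {K L : Type u} [Field K] [Field L]
    (c : Spec (CommRingCat.of L) ⟶ Spec (CommRingCat.of K)) : Flat c := by
  obtain ⟨φ, rfl⟩ := Spec.map_surjective c
  rw [HasRingHomProperty.Spec_iff (P := @Flat)]
  letI : Algebra K L := φ.hom.toAlgebra
  show Module.Flat K L
  infer_instance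

section

variable {X S A B : Scheme.{u}} (f : X ⟶ S) (a : A ⟶ S) (b : B ⟶ S)

/-- The comparison morphism `X ×_S T ⟶ X ×_S A` induced by `c : T ⟶ A`. -/
noncomputable def ψ {T : Scheme.{u}} (c : T ⟶ A) : pullback f (c ≫ a) ⟶ pullback f a :=
  pullback.lift (pullback.fst f (c ≫ a)) (pullback.snd f (c ≫ a) ≫ c)
    (by rw [pullback.condition, Category.assoc])

theorem isPullback_ψ {T : Scheme.{u}} (c : T ⟶ A) :
    IsPullback (ψ f a c) (pullback.snd f (c ≫ a)) (pullback.snd f a) c := by
  refine IsPullback.of_right (h₁₂ := pullback.fst f a) (h₂₂ := a) (v₁₃ := f) ?_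
    (pullback.lift_snd _ _ _) (IsPullback.of_hasPullback f a)
  rw [ψ, pullback.lift_fst]
  exact (IsPullback.of_hasPullback f (c ≫ a))

/-- The comparison morphism `X ×_S T ⟶ X ×_S B` for `cB : T ⟶ B` with `cB ≫ b = cA ≫ a`. -/
noncomputable def ψ' {T : Scheme.{u}} (cA : T ⟶ A) (cB : T ⟶ B) (heq : cB ≫ b = cA ≫ a) :
    pullback f (cA ≫ a) ⟶ pullback f b :=
  pullback.lift (pullback.fst f (cA ≫ a)) (pullback.snd f (cA ≫ a) ≫ cB)
    (by rw [pullback.condition, Category.assoc, heq])

theorem ψ'_fst {T : Scheme.{u}} (cA : T ⟶ A) (cB : T ⟶ B) (heq : cB ≫ b = cA ≫ a) :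
    ψ' f a b cA cB heq ≫ pullback.fst f b = pullback.fst f (cA ≫ a) := pullback.lift_fst _ _ _

theorem ψ'_snd {T : Scheme.{u}} (cA : T ⟶ A) (cB : T ⟶ B) (heq : cB ≫ b = cA ≫ a) :
    ψ' f a b cA cB heq ≫ pullback.snd f b = pullback.snd f (cA ≫ a) ≫ cB := pullback.lift_snd _ _ _

theorem isPullback_ψ' {T : Scheme.{u}} (cA : T ⟶ A) (cB : T ⟶ B) (heq : cB ≫ b = cA ≫ a) :
    IsPullback (ψ' f a b cA cB heq) (pullback.snd f (cA ≫ a)) (pullback.snd f b) cB := by
  refine IsPullback.of_right (h₁₂ := pullback.fst f b) (h₂₂ := b) (v₁₃ := f) ?_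
    (ψ'_snd f a b cA cB heq) (IsPullback.of_hasPullback f b)
  rw [ψ'_fst, heq]
  exact (IsPullback.of_hasPullback f (cA ≫ a))

/-- Two points of two base changes lying over the same point of `X` have a common point over a
field. -/
theorem exists_common (xa : ↥(pullback f a)) (xb : ↥(pullback f b))
    (h : pullback.fst f a xa = pullback.fst f b xb) :
    ∃ (κ : Type u) (_ : Field κ) (cA : Spec (CommRingCat.of κ) ⟶ A)
      (cB : Spec (CommRingCat.of κ) ⟶ B)
      (heq : cB ≫ b = cA ≫ a) (m : ↥(pullback f (cA ≫ a))),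
      ψ f a cA m = xa ∧ ψ' f a b cA cB heq m = xb := by
  obtain ⟨w, hw1, hw2⟩ := Scheme.Pullback.exists_preimage_pullback (f := pullback.fst f a)
    (g := pullback.fst f b) xa xb h
  let P := pullback (pullback.fst f a) (pullback.fst f b)
  let c := P.fromSpecResidueField w
  let cA : Spec (P.residueField w) ⟶ A := c ≫ pullback.fst _ _ ≫ pullback.snd f a
  let cB : Spec (P.residueField w) ⟶ B := c ≫ pullback.snd _ _ ≫ pullback.snd f b
  have heq : cB ≫ b = cA ≫ a := by
    simp only [cA, cB, Category.assoc]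
    rw [← pullback.condition (f := f) (g := b), ← pullback.condition (f := f) (g := a),
      ← Category.assoc (pullback.snd (pullback.fst f a) (pullback.fst f b)),
      ← pullback.condition (f := pullback.fst f a) (g := pullback.fst f b), Category.assoc]
  have hμc : (c ≫ pullback.fst _ _ ≫ pullback.fst f a) ≫ f = 𝟙 _ ≫ cA ≫ a := by
    simp only [cA, Category.assoc, Category.id_comp]
    rw [pullback.condition (f := f) (g := a)]
  let μ : Spec (P.residueField w) ⟶ pullback f (cA ≫ a) :=
    pullback.lift (c ≫ pullback.fst _ _ ≫ pullback.fst f a) (𝟙 _) hμc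
  have hμ1 : μ ≫ pullback.fst f (cA ≫ a) = c ≫ pullback.fst _ _ ≫ pullback.fst f a :=
    pullback.lift_fst _ _ _
  have hμ2 : μ ≫ pullback.snd f (cA ≫ a) = 𝟙 _ := pullback.lift_snd _ _ _
  let pt : Spec (P.residueField w) := IsLocalRing.closedPoint (P.residueField w)
  refine ⟨P.residueField w, inferInstance, cA, cB, heq, μ pt, ?_, ?_⟩
  · have h1 : μ ≫ ψ f a cA = c ≫ pullback.fst _ _ := by
      apply pullback.hom_ext
      · rw [Category.assoc, ψ, pullback.lift_fst, hμ1, Category.assoc]
      · rw [Category.assoc, ψ, pullback.lift_snd, ← Category.assoc, hμ2, Category.id_comp,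
          Category.assoc]
    rw [← Scheme.Hom.comp_apply, h1, Scheme.Hom.comp_apply,
      Scheme.fromSpecResidueField_apply, hw1]
  · have h1 : μ ≫ ψ' f a b cA cB heq = c ≫ pullback.snd _ _ := by
      apply pullback.hom_ext
      · rw [Category.assoc, ψ'_fst, hμ1, Category.assoc,
          pullback.condition (f := pullback.fst f a) (g := pullback.fst f b)]
      · rw [Category.assoc, ψ'_snd, ← Category.assoc, hμ2, Category.id_comp, Category.assoc]
    rw [← Scheme.Hom.comp_apply, h1, Scheme.Hom.comp_apply,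
      Scheme.fromSpecResidueField_apply, hw2]

/-- `(X ×_S B) ×_B T ≅ X ×_S T`, compatibly with `ψ'`. -/
theorem exists_iso {T : Scheme.{u}} (cA : T ⟶ A) (cB : T ⟶ B) (heq : cB ≫ b = cA ≫ a) :
    ∃ E : pullback (pullback.snd f b) cB ≅ pullback f (cA ≫ a),
      E.inv ≫ pullback.fst (pullback.snd f b) cB = ψ' f a b cA cB heq := by
  refine ⟨pullbackLeftPullbackSndIso f b cB ≪≫ pullback.congrHom rfl heq, ?_⟩
  apply pullback.hom_ext
  · rw [ψ'_fst, Iso.trans_inv, Category.assoc, Category.assoc, pullbackLeftPullbackSndIso_inv_fst,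
      pullback.congrHom_inv, pullback.lift_fst, Category.comp_id]
  · rw [ψ'_snd, Iso.trans_inv, Category.assoc, Category.assoc, pullbackLeftPullbackSndIso_inv_fst_snd,
      pullback.congrHom_inv, ← Category.assoc, pullback.lift_snd, Category.comp_id]

theorem isDomain_of_flat {Z W : Scheme.{u}} (g : Z ⟶ W) [Flat g] (z : Z)
    (h : IsDomain (Z.presheaf.stalk z)) : IsDomain (W.presheaf.stalk (g z)) :=
  Function.Injective.isDomain (g.stalkMap z).hom (injective_stalkMap g z)

theorem isReduced_of_flat {Z W : Scheme.{u}} (g : Z ⟶ W) [Flat g] (z : Z)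
    (h : _root_.IsReduced (Z.presheaf.stalk z)) : _root_.IsReduced (W.presheaf.stalk (g z)) :=
  isReduced_of_injective (g.stalkMap z).hom (injective_stalkMap g z)

end

end Groth.Agent.Lib.helper7.CommonPt
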