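import Mathlib
import Groth.Agent.Lib.helper14.AlgClosedTensor

/-! Over an algebraically closed field `k`, `Spec K → Spec k` is geometrically irreducible (hence
geometrically connected) for every extension field `K`; consequences for base change. -/

open CategoryTheory CategoryTheory.Limits AlgebraicGeometry TensorProduct

universe u

namespace Groth.Agent.Lib.helper7.GeomIrrAC

theorem geometricallyIrreducible_Spec_of_isAlgClosed (k K : Type u) [Field k] [IsAlgClosed k]
    [Field K] [Algebra k K] :
    GeometricallyIrreducible (Spec.map (CommRingCat.ofHom (algebraMap k K))) := by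
  refine ⟨geometrically_iff_of_commRing_of_isClosedUnderIsomorphisms.2 fun L _ _ => ?_⟩
  haveI : IrreducibleSpace (PrimeSpectrum (K ⊗[k] L)) :=
    Groth.Agent.H14.irreducibleSpace_tensorProduct_of_isAlgClosed
  have e : pullback (Spec.map (CommRingCat.ofHom (algebraMap k K)))
      (Spec.map (CommRingCat.ofHom (algebraMap k L))) ≅ Spec (CommRingCat.of (K ⊗[k] L)) :=
    pullbackSpecIso k K L
  show IrreducibleSpace ↥(pullback (Spec.map (CommRingCat.ofHom (algebraMap k K)))
      (Spec.map (CommRingCat.ofHom (algebraMap k L))))
  rw [e.hom.homeomorph.irreducibleSpace_iff]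
  show IrreducibleSpace (PrimeSpectrum (K ⊗[k] L))
  infer_instance

theorem geometricallyConnected_Spec_of_isAlgClosed (k K : Type u) [Field k] [IsAlgClosed k]
    [Field K] [Algebra k K] :
    GeometricallyConnected (Spec.map (CommRingCat.ofHom (algebraMap k K))) := by
  haveI := geometricallyIrreducible_Spec_of_isAlgClosed k K
  refine ⟨fun L _ y Z fst snd h => ?_⟩
  haveI : IrreducibleSpace Z :=
    GeometricallyIrreducible.geometrically_irreducibleSpace (f := Spec.map (CommRingCat.ofHom
      (algebraMap k K))) y fst snd h
  infer_instance

end Groth.Agent.Lib.helper7.GeomIrrAC
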