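import Mathlib
import Groth.Agent.Lib.helper7.GeomIrrAC
import Groth.Agent.Lib.helper7.GeomRed3

/-! Comparing `X ⊗_k K` with `X ⊗_k Ω` for `Ω` algebraically closed through a common extension. -/

open CategoryTheory CategoryTheory.Limits AlgebraicGeometry TensorProduct

universe u

namespace Groth.Agent.Lib.helper7.GeomIrrAC2

/-- For `Ω` algebraically closed and `K` arbitrary over `k` there is a scheme `P` with a
geometrically irreducible, geometrically connected, universally open morphism to `X ⊗_k Ω` and a
surjective morphism to `X ⊗_k K`. -/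
theorem exists_common_cover {k K Ω : Type u} [Field k] [Field K] [Algebra k K] [Field Ω]
    [Algebra k Ω] [IsAlgClosed Ω] {X : Scheme.{u}} (f : X ⟶ Spec (CommRingCat.of k)) :
    ∃ (P : Scheme.{u}) (q : P ⟶ pullback f (Spec.map (CommRingCat.ofHom (algebraMap k Ω))))
      (φ : P ⟶ pullback f (Spec.map (CommRingCat.ofHom (algebraMap k K)))),
      GeometricallyIrreducible q ∧ GeometricallyConnected q ∧ UniversallyOpen q ∧ Surjective φ := by
  obtain ⟨L, _, φK, φΩ, hφ⟩ := Groth.Agent.Lib.helper7.GeomRed3.exists_common_extension k K Ω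
  letI : Algebra Ω L := φΩ.toAlgebra
  letI : Algebra K L := φK.toAlgebra
  set gΩ := Spec.map (CommRingCat.ofHom (algebraMap k Ω)) with hgΩ
  set gK := Spec.map (CommRingCat.ofHom (algebraMap k K)) with hgK
  set gΩ' := Spec.map (CommRingCat.ofHom (algebraMap Ω L)) with hgΩ'
  set gK' := Spec.map (CommRingCat.ofHom (algebraMap K L)) with hgK'
  have hcomp : gK' ≫ gK = gΩ' ≫ gΩ := by
    rw [hgK', hgK, hgΩ', hgΩ, ← Spec.map_comp, ← Spec.map_comp, ← CommRingCat.ofHom_comp,
      ← CommRingCat.ofHom_comp]
    congr 2
  haveI : GeometricallyIrreducible gΩ' :=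
    Groth.Agent.Lib.helper7.GeomIrrAC.geometricallyIrreducible_Spec_of_isAlgClosed Ω L
  haveI : GeometricallyConnected gΩ' :=
    Groth.Agent.Lib.helper7.GeomIrrAC.geometricallyConnected_Spec_of_isAlgClosed Ω L
  haveI : Surjective gK' := by
    constructor
    intro y
    exact ⟨default, Subsingleton.elim _ _⟩
  refine ⟨pullback (pullback.snd f gΩ) gΩ', pullback.fst (pullback.snd f gΩ) gΩ',
    (pullbackLeftPullbackSndIso f gΩ gΩ').hom ≫ (pullback.congrHom rfl hcomp).inv ≫
      (pullbackLeftPullbackSndIso f gK gK').inv ≫ pullback.fst (pullback.snd f gK) gK',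
    inferInstance, inferInstance, inferInstance, ?_⟩
  infer_instance

/-- A continuous surjection onto a quasi-sober space does not decrease the number of irreducible
components. -/
theorem mk_irreducibleComponents_le_of_surjective {α β : Type u} [TopologicalSpace α]
    [TopologicalSpace β] [QuasiSober β] {f : α → β} (hc : Continuous f)
    (hs : Function.Surjective f) :
    Cardinal.mk (irreducibleComponents β) ≤ Cardinal.mk (irreducibleComponents α) := by
  have key : ∀ Z : irreducibleComponents β, ∃ Z' : irreducibleComponents α,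
      closure (f '' Z'.1) = Z.1 := by
    rintro ⟨Z, hZ⟩
    have hZirr : IsIrreducible Z := hZ.1
    have hZcl : IsClosed Z := isClosed_of_mem_irreducibleComponents Z hZ
    obtain ⟨ξ, hξ⟩ := QuasiSober.sober hZirr hZcl
    obtain ⟨a, rfl⟩ := hs ξ
    refine ⟨⟨irreducibleComponent a, irreducibleComponent_mem_irreducibleComponents a⟩, ?_⟩
    have h1 : IsIrreducible (closure (f '' irreducibleComponent a)) :=
      (isIrreducible_irreducibleComponent.image f hc.continuousOn).closure
    have h2 : Z ⊆ closure (f '' irreducibleComponent a) := by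
      rw [← hξ.def]
      exact closure_mono (Set.singleton_subset_iff.2 ⟨a, mem_irreducibleComponent, rfl⟩)
    exact Set.Subset.antisymm (hZ.2 h1 h2) h2
  choose g hg using key
  refine Cardinal.mk_le_of_injective (f := g) ?_
  intro Z₁ Z₂ h
  apply Subtype.ext
  rw [← hg Z₁, ← hg Z₂, h]

/-- A continuous surjection does not decrease the number of connected components. -/
theorem mk_connectedComponents_le_of_surjective {α β : Type u} [TopologicalSpace α]
    [TopologicalSpace β] {f : α → β} (hc : Continuous f) (hs : Function.Surjective f) :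
    Cardinal.mk (ConnectedComponents β) ≤ Cardinal.mk (ConnectedComponents α) := by
  refine Cardinal.mk_le_of_surjective (f := hc.connectedComponentsMap) ?_
  intro c
  obtain ⟨y, rfl⟩ := ConnectedComponents.surjective_coe c
  obtain ⟨x, rfl⟩ := hs y
  exact ⟨(x : ConnectedComponents α), rfl⟩

end Groth.Agent.Lib.helper7.GeomIrrAC2
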