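import Mathlib
import Groth.Agent.Lib.helper7.GeomRed3

/-!
# Geometric properties of fibres and base change (helper7)

* `geometrically_of_isPullback_of_field`: if `P` descends along flat surjective morphisms, then
  `geometrically P` descends along a field extension of the base.
* `geometrically_fiber_iff`: for a cartesian square, the fibre of `f'` at `y'` is geometrically `P`
  iff the fibre of `f` at `g y'` is.
-/

open CategoryTheory CategoryTheory.Limits AlgebraicGeometry

universe u

namespace Groth.Agent.Lib.helper7.FibBC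

/-- If `P` descends along flat surjective morphisms then `geometrically P` descends along a
base change between spectra of fields. -/
theorem geometrically_of_isPullback_of_field {P : ObjectProperty Scheme.{u}}
    (hP : ∀ {Z W : Scheme.{u}} (q : Z ⟶ W) [Flat q] [Surjective q], P Z → P W)
    {k k' : Type u} [Field k] [Field k'] (φ : k →+* k')
    {X X' : Scheme.{u}} {h : X ⟶ Spec (CommRingCat.of k)} {h' : X' ⟶ Spec (CommRingCat.of k')}
    {p : X' ⟶ X}
    (sq : IsPullback p h' h (Spec.map (CommRingCat.ofHom φ)))
    (H : geometrically P h') : geometrically P h := by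
  intro L _ y Z fst snd hZ
  obtain ⟨ψ, rfl⟩ := Spec.map_surjective y
  letI : Algebra k L := ψ.hom.toAlgebra
  letI : Algebra k k' := φ.toAlgebra
  obtain ⟨Ω, _, φL, φK', hφ⟩ := Groth.Agent.Lib.helper7.GeomRed3.exists_common_extension k L k'
  set a : Spec (CommRingCat.of Ω) ⟶ Spec (CommRingCat.of L) :=
    Spec.map (CommRingCat.ofHom φL) with ha
  set b : Spec (CommRingCat.of Ω) ⟶ Spec (CommRingCat.of k') :=
    Spec.map (CommRingCat.ofHom φK') with hb
  have hab : a ≫ Spec.map ψ = b ≫ Spec.map (CommRingCat.ofHom φ) := by
    rw [ha, hb, ← Spec.map_comp, ← Spec.map_comp]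
    congr 1
    ext x
    exact congrArg (fun r : k →+* Ω => r x) hφ
  haveI : Flat a := by
    rw [ha, HasRingHomProperty.Spec_iff (P := @Flat)]
    letI : Algebra L Ω := φL.toAlgebra
    exact RingHom.flat_algebraMap_iff.2 (inferInstance : Module.Flat L Ω)
  haveI : Surjective a := by
    constructor
    intro y
    exact ⟨default, Subsingleton.elim _ _⟩
  have hW : IsPullback (pullback.fst snd a ≫ fst) (pullback.snd snd a) h (a ≫ Spec.map ψ) :=
    (IsPullback.of_hasPullback snd a).paste_horiz hZ
  rw [hab] at hW
  have hl : (pullback.fst snd a ≫ fst) ≫ h =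
      (pullback.snd snd a ≫ b) ≫ Spec.map (CommRingCat.ofHom φ) := by
    rw [Category.assoc, Category.assoc]
    exact hW.w
  have hW' : IsPullback (sq.lift (pullback.fst snd a ≫ fst) (pullback.snd snd a ≫ b) hl)
      (pullback.snd snd a) h' b := by
    refine IsPullback.of_right ?_ (sq.lift_snd _ _ _) sq
    rw [sq.lift_fst]
    exact hW
  exact hP (pullback.fst snd a) (H b _ _ hW')

/-- Fibrewise form: for a cartesian square, the fibre of `f'` at `y'` is geometrically `P` iff the
fibre of `f` at `g y'` is geometrically `P`. -/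
theorem geometrically_fiber_iff {P : ObjectProperty Scheme.{u}}
    (hP : ∀ {Z W : Scheme.{u}} (q : Z ⟶ W) [Flat q] [Surjective q], P Z → P W)
    {X Y X' Y' : Scheme.{u}} {f : X ⟶ Y} {g : Y' ⟶ Y} {f' : X' ⟶ Y'} {g' : X' ⟶ X}
    (hc : IsPullback g' f' f g) (y' : Y') :
    geometrically P (f'.fiberToSpecResidueField y') ↔
      geometrically P (f.fiberToSpecResidueField (g y')) := by
  have sq := isPullback_fiberToSpecResidueField_of_isPullback hc y'
  constructor
  · intro H
    exact geometrically_of_isPullback_of_field hP (g.residueFieldMap y').hom sq H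
  · intro H
    exact MorphismProperty.of_isPullback sq H

theorem connectedSpace_descends {Z W : Scheme.{u}} (q : Z ⟶ W) [Surjective q]
    (h : ConnectedSpace Z) : ConnectedSpace W :=
  q.surjective.connectedSpace q.continuous

theorem irreducibleSpace_descends {Z W : Scheme.{u}} (q : Z ⟶ W) [Surjective q]
    (h : IrreducibleSpace Z) : IrreducibleSpace W := by
  haveI : Nonempty W := (Nonempty.map q inferInstance)
  have := (IsPreirreducible.image (PreirreducibleSpace.isPreirreducible_univ (X := Z)) q
    q.continuous.continuousOn)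
  rw [Set.image_univ, q.surjective.range_eq] at this
  haveI : PreirreducibleSpace W := ⟨this⟩
  exact ⟨inferInstance⟩

theorem geometricallyReduced_fiber_iff {X Y X' Y' : Scheme.{u}} {f : X ⟶ Y} {g : Y' ⟶ Y}
    {f' : X' ⟶ Y'} {g' : X' ⟶ X} (hc : IsPullback g' f' f g) (y' : Y') :
    GeometricallyReduced (f'.fiberToSpecResidueField y') ↔
      GeometricallyReduced (f.fiberToSpecResidueField (g y')) := by
  rw [geometricallyReduced_iff, geometricallyReduced_iff]
  exact geometrically_fiber_iff
    (fun {Z W} q _ _ hZ =>
      haveI : AlgebraicGeometry.IsReduced Z := hZ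
      Groth.Agent.Lib.helper7.GeomRed3.isReduced_of_flat_of_surjective q) hc y'

theorem geometricallyConnected_fiber_iff {X Y X' Y' : Scheme.{u}} {f : X ⟶ Y} {g : Y' ⟶ Y}
    {f' : X' ⟶ Y'} {g' : X' ⟶ X} (hc : IsPullback g' f' f g) (y' : Y') :
    GeometricallyConnected (f'.fiberToSpecResidueField y') ↔
      GeometricallyConnected (f.fiberToSpecResidueField (g y')) := by
  rw [geometricallyConnected_iff, geometricallyConnected_iff]
  exact geometrically_fiber_iff (P := (ConnectedSpace ·))
    (fun q _ _ hZ => connectedSpace_descends q hZ) hc y'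

theorem geometricallyIrreducible_fiber_iff {X Y X' Y' : Scheme.{u}} {f : X ⟶ Y} {g : Y' ⟶ Y}
    {f' : X' ⟶ Y'} {g' : X' ⟶ X} (hc : IsPullback g' f' f g) (y' : Y') :
    GeometricallyIrreducible (f'.fiberToSpecResidueField y') ↔
      GeometricallyIrreducible (f.fiberToSpecResidueField (g y')) := by
  rw [geometricallyIrreducible_iff, geometricallyIrreducible_iff]
  exact geometrically_fiber_iff (P := (IrreducibleSpace ·))
    (fun q _ _ hZ => irreducibleSpace_descends q hZ) hc y'

end Groth.Agent.Lib.helper7.FibBC
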