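import Mathlib
import Groth.Agent.Lib.helper7.DimBC
import Groth.Agent.Lib.helper7.DimSch10
import Groth.Agent.Lib.helper9.TopDim

/-!
# Dimension of a product of schemes locally of finite type over a field
-/

universe u

open AlgebraicGeometry CategoryTheory Limits

namespace Groth.Agent.Lib.helper7.TensorDim

theorem topologicalKrullDim_eq_bot_of_isEmpty (T : Type*) [TopologicalSpace T] [IsEmpty T] :
    topologicalKrullDim T = ⊥ := by
  haveI : IsEmpty (TopologicalSpace.IrreducibleCloseds T) :=
    ⟨fun Z => by obtain ⟨x, -⟩ := Z.isIrreducible'.nonempty; exact isEmptyElim x⟩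
  exact Order.krullDim_eq_bot

variable {k : Type u} [Field k] {X Y : Scheme.{u}}
  (f : X ⟶ Spec (CommRingCat.of k)) (g : Y ⟶ Spec (CommRingCat.of k))

/-- The fibres of `X ×_k Y → X` have the dimension of `Y`. -/
theorem topologicalKrullDim_fst_preimage_singleton [LocallyOfFiniteType g] (x : X) :
    topologicalKrullDim ((pullback.fst f g).base ⁻¹' {x}) = topologicalKrullDim Y := by
  rw [← IsHomeomorph.topologicalKrullDim_eq _ ((pullback.fst f g).fiberHomeo x).isHomeomorph]
  obtain ⟨ψ, hψ⟩ := Spec.map_surjective (X.fromSpecResidueField x ≫ f)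
  algebraize [ψ.hom]
  have hψ' : X.fromSpecResidueField x ≫ f =
      Spec.map (CommRingCat.ofHom (algebraMap k (X.residueField x))) := by
    rw [← hψ]; rfl
  let e : (pullback.fst f g).fiber x ≅
      pullback g (Spec.map (CommRingCat.ofHom (algebraMap k (X.residueField x)))) :=
    pullbackSymmetry _ _ ≪≫ pullbackRightPullbackFstIso f g (X.fromSpecResidueField x) ≪≫
      pullbackSymmetry _ _ ≪≫ pullback.congrHom rfl hψ'
  rw [IsHomeomorph.topologicalKrullDim_eq _ e.hom.homeomorph.isHomeomorph]
  exact DimBC.topologicalKrullDim_pullback_field (K := X.residueField x) g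

theorem eq_top_or_exists_nat (a : WithBot ℕ∞) (h : 0 ≤ a) :
    a = ⊤ ∨ ∃ r : ℕ, a = (r : WithBot ℕ∞) := by
  induction a using WithBot.recBotCoe with
  | bot => exact absurd h (by simp)
  | coe a =>
    induction a using ENat.recTopCoe with
    | top => left; rfl
    | coe r => right; exact ⟨r, rfl⟩

theorem eq_top_of_forall_nat_le (a : WithBot ℕ∞) (h : ∀ r : ℕ, (r : WithBot ℕ∞) ≤ a) : a = ⊤ := by
  rcases eq_top_or_exists_nat a ((by simpa using h 0)) with h1 | ⟨r, rfl⟩
  · exact h1
  · have := h (r + 1)
    have h2 : r + 1 ≤ r := by exact_mod_cast this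
    omega

/-- `dim (X ×_k Y) = dim X + dim Y` for schemes locally of finite type over a field. -/
theorem topologicalKrullDim_prod [LocallyOfFiniteType f] [LocallyOfFiniteType g] :
    topologicalKrullDim ↥(pullback f g) = topologicalKrullDim ↥X + topologicalKrullDim ↥Y := by
  rcases isEmpty_or_nonempty Y with hY | hY
  · haveI : IsEmpty ↥(pullback f g) := Function.isEmpty (pullback.snd f g)
    rw [topologicalKrullDim_eq_bot_of_isEmpty, topologicalKrullDim_eq_bot_of_isEmpty Y,
      WithBot.add_bot]
  rcases isEmpty_or_nonempty X with hX | hX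
  · haveI : IsEmpty ↥(pullback f g) := Function.isEmpty (pullback.fst f g)
    rw [topologicalKrullDim_eq_bot_of_isEmpty, topologicalKrullDim_eq_bot_of_isEmpty X,
      WithBot.bot_add]
  have hY0 : 0 ≤ topologicalKrullDim Y := Groth.Agent.H9TopDim.dim_nonneg_of_nonempty
  have hX0 : 0 ≤ topologicalKrullDim X := Groth.Agent.H9TopDim.dim_nonneg_of_nonempty
  rcases eq_top_or_exists_nat _ hY0 with hd | ⟨r, hd⟩
  · have h1 : topologicalKrullDim ↥(pullback f g) = ⊤ := by
      apply eq_top_of_forall_nat_le
      intro r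
      have := Groth.Agent.Lib.helper7.DimSch.add_dim_le_of_le_fiber k f (pullback.fst f g) r
        (fun η _ => by rw [topologicalKrullDim_fst_preimage_singleton, hd]; exact le_top)
      exact (le_add_of_nonneg_right hX0).trans this
    rw [h1, hd]
    rcases eq_top_or_exists_nat _ hX0 with hx | ⟨e, hx⟩
    · rw [hx]; rfl
    · rw [hx]; rfl
  · have h1 := Groth.Agent.Lib.helper7.DimSch.add_dim_le_of_le_fiber k f (pullback.fst f g) r
      (fun η _ => by rw [topologicalKrullDim_fst_preimage_singleton, hd])
    have h2 := Groth.Agent.Lib.helper7.DimSch.dim_le_add_of_fiber_le k f (pullback.fst f g) r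
      (fun y => by rw [topologicalKrullDim_fst_preimage_singleton, hd])
    rw [hd, add_comm]
    exact le_antisymm h2 h1

end Groth.Agent.Lib.helper7.TensorDim
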