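import Mathlib
import Groth.Agent.Lib.helper7.DimSch11
import Groth.Agent.Lib.helper7.TensorDim3
import Groth.Agent.Lib.helper7.FibStalk
import Groth.Agent.Lib.helper7.DimSch9

/-!
# Dimension of components of inverse images under base changes of flat equidimensional morphisms
-/

universe u

open AlgebraicGeometry CategoryTheory Limits

namespace Groth.Agent.Lib.helper7.DimSch

theorem forall_specializes_homeomorph {A B : Type*} [TopologicalSpace A] [TopologicalSpace B]
    (h : A ≃ₜ B) (a : A) (ha : ∀ a' : A, a' ⤳ a → a' = a) : ∀ b' : B, b' ⤳ h a → b' = h a := by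
  intro b' hb'
  have h1 : h.symm b' ⤳ h.symm (h a) := hb'.map h.symm.continuous
  rw [h.symm_apply_apply] at h1
  have h2 := ha _ h1
  rw [← h2, h.apply_symm_apply]

theorem topologicalKrullDim_closure_singleton_homeomorph {A B : Type*} [TopologicalSpace A]
    [TopologicalSpace B] (h : A ≃ₜ B) (a : A) :
    topologicalKrullDim (closure ({a} : Set A)) = topologicalKrullDim (closure ({h a} : Set B)) := by
  rw [IsHomeomorph.topologicalKrullDim_eq _ (h.image (closure {a})).isHomeomorph]
  have : h '' closure {a} = closure {h a} := by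
    rw [h.image_closure, Set.image_singleton]
  rw [this]

set_option backward.isDefEq.respectTransparency false in
/-- If the components of the fibre `X_{g y'}` have dimension `n`, so have those of the
fibre of the base change `X ×_Y Y' → Y'` at `y'`. -/
theorem fiber_components_dim_baseChange {X Y Y' : Scheme.{u}} (f : X ⟶ Y)
    [LocallyOfFiniteType f] (g : Y' ⟶ Y) (y' : Y') (n : ℕ)
    (hfib : ∀ Z ∈ irreducibleComponents (f.fiber (g y') : Type u),
      topologicalKrullDim Z = (n : WithBot ℕ∞))
    (Z' : Set ((pullback.snd f g).fiber y'))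
    (hZ' : Z' ∈ irreducibleComponents ((pullback.snd f g).fiber y' : Type u)) :
    topologicalKrullDim Z' = (n : WithBot ℕ∞) := by
  have hpb := isPullback_fiberToSpecResidueField_of_isPullback (IsPullback.of_hasPullback f g) y'
  letI : Algebra (IsLocalRing.ResidueField ↑(Y.presheaf.stalk (g y'))) ↑(Y'.residueField y') :=
    (g.residueFieldMap y').hom.toAlgebra
  haveI : LocallyOfFiniteType (f.fiberToSpecResidueField (g y')) :=
    (MorphismProperty.pullback_snd _ _ inferInstance :
      LocallyOfFiniteType (f.fiberToSpecResidueField (g y')))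
  let e : (pullback.snd f g).fiber y' ≅ pullback (f.fiberToSpecResidueField (g y'))
      (Spec.map (CommRingCat.ofHom (algebraMap
        (IsLocalRing.ResidueField ↑(Y.presheaf.stalk (g y'))) ↑(Y'.residueField y')))) :=
    hpb.isoPullback
  have hZc : IsClosed Z' := isClosed_of_mem_irreducibleComponents Z' hZ'
  obtain ⟨z', hz'⟩ := QuasiSober.sober hZ'.1 hZc
  have hmax := (closure_mem_irreducibleComponents_iff z').mp (by rw [hz'.def]; exact hZ')
  have hmax' := forall_specializes_homeomorph e.hom.homeomorph z' hmax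
  have hcomp := (closure_mem_irreducibleComponents_iff (e.hom.homeomorph z')).mpr hmax'
  have hset := Groth.Agent.Lib.helper7.TensorDim.image_topologicalKrullDim_irreducibleComponents_pullback
    (k := IsLocalRing.ResidueField ↑(Y.presheaf.stalk (g y'))) (K := Y'.residueField y')
    (f.fiberToSpecResidueField (g y'))
  have hmem : topologicalKrullDim ↥(closure ({e.hom.homeomorph z'} : Set _)) ∈
      (fun Z : Set ↥(f.fiber (g y')) => topologicalKrullDim ↥Z) ''
        irreducibleComponents ↥(f.fiber (g y')) := by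
    rw [← hset]
    exact ⟨_, hcomp, rfl⟩
  obtain ⟨Z, hZ, hZdim⟩ := hmem
  have h1 : topologicalKrullDim ↥Z' = topologicalKrullDim ↥(closure ({z'} : Set _)) := by
    rw [hz'.def]
  rw [h1, topologicalKrullDim_closure_singleton_homeomorph e.hom.homeomorph z', ← hZdim]
  exact hfib Z hZ

set_option backward.isDefEq.respectTransparency false in
/-- (= S10941) Components of inverse images of irreducible closed sets under a base change of a
flat morphism with equidimensional source over an irreducible base. -/
theorem component_dim_preimage_baseChange (k : Type u) [Field k]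
    {X Y Y' : Scheme.{u}} (qX : X ⟶ Spec (CommRingCat.of k)) (qY : Y ⟶ Spec (CommRingCat.of k))
    (qY' : Y' ⟶ Spec (CommRingCat.of k))
    [LocallyOfFiniteType qX] [LocallyOfFiniteType qY] [LocallyOfFiniteType qY']
    [IrreducibleSpace ↥Y] (f : X ⟶ Y) (hf : f ≫ qY = qX) [Flat f] (n : ℕ)
    (hX : ∀ Z : Set ↥X, Z ∈ irreducibleComponents ↥X →
      topologicalKrullDim ↥Z = topologicalKrullDim ↥Y + (n : WithBot ℕ∞))
    (g : Y' ⟶ Y) (V : Set ↥Y') (hV : IsClosed V) (hVirr : IsIrreducible V)
    (W : Set ↥((pullback.snd f g).base ⁻¹' V))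
    (hW : W ∈ irreducibleComponents ↥((pullback.snd f g).base ⁻¹' V)) :
    topologicalKrullDim ↥W = topologicalKrullDim ↥V + (n : WithBot ℕ∞) := by
  letI : X.Over (Spec (CommRingCat.of k)) := ⟨qX⟩
  haveI : LocallyOfFiniteType (X ↘ Spec (CommRingCat.of k)) := ‹LocallyOfFiniteType qX›
  letI : Y.Over (Spec (CommRingCat.of k)) := ⟨qY⟩
  haveI : LocallyOfFiniteType (Y ↘ Spec (CommRingCat.of k)) := ‹LocallyOfFiniteType qY›
  letI : Y'.Over (Spec (CommRingCat.of k)) := ⟨qY'⟩
  haveI : LocallyOfFiniteType (Y' ↘ Spec (CommRingCat.of k)) := ‹LocallyOfFiniteType qY'›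
  haveI : LocallyOfFiniteType f := by
    have : LocallyOfFiniteType (f ≫ qY) := by rw [hf]; infer_instance
    exact locallyOfFiniteType_of_comp f qY
  letI : (pullback f g).Over (Spec (CommRingCat.of k)) := ⟨pullback.snd f g ≫ qY'⟩
  haveI : LocallyOfFiniteType ((pullback f g) ↘ Spec (CommRingCat.of k)) :=
    (inferInstance : LocallyOfFiniteType (pullback.snd f g ≫ qY'))
  have hf' : pullback.snd f g ≫ (Y' ↘ Spec (CommRingCat.of k)) =
      (pullback f g) ↘ Spec (CommRingCat.of k) := rfl
  have hfk : f ≫ (Y ↘ Spec (CommRingCat.of k)) = X ↘ Spec (CommRingCat.of k) := hf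
  obtain ⟨d, hd, hY⟩ := exists_dim_of_irreducible k Y
  have hX' : ∀ Z ∈ irreducibleComponents (X : Type u),
      topologicalKrullDim Z = ((d + n : ℕ) : WithBot ℕ∞) := by
    intro Z hZ
    rw [hX Z hZ, hd]
    push_cast
    rfl
  have hfib : ∀ (y : Y), ∀ Z ∈ irreducibleComponents (f.fiber y : Type u),
      topologicalKrullDim Z = (n : WithBot ℕ∞) := by
    intro y Z hZ
    obtain ⟨m, hm, hmd⟩ := fiber_component_dim_of_flat k f hfk (d + n) d hX' hY y Z hZ
    have : m = n := by omega
    rw [hm, this]
  have hfib' : ∀ (y' : Y'), ∀ Z ∈ irreducibleComponents ((pullback.snd f g).fiber y' : Type u),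
      topologicalKrullDim Z = (n : WithBot ℕ∞) :=
    fun y' Z hZ => fiber_components_dim_baseChange f g y' n (hfib (g y')) Z hZ
  -- the generic points
  have hC : IsClosed ((pullback.snd f g).base ⁻¹' V) := hV.preimage (pullback.snd f g).continuous
  haveI : QuasiSober ↥((pullback.snd f g).base ⁻¹' V) := hC.isClosedEmbedding_subtypeVal.quasiSober
  obtain ⟨ζ, hζ⟩ := QuasiSober.sober hVirr hV
  have hWc : IsClosed W := isClosed_of_mem_irreducibleComponents W hW
  obtain ⟨w₀, hw₀⟩ := QuasiSober.sober hW.1 hWc
  have hemb := hC.isClosedEmbedding_subtypeVal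
  have h1 : topologicalKrullDim ↥W = topologicalKrullDim ↥(closure ({w₀.val} : Set _)) := by
    rw [IsHomeomorph.topologicalKrullDim_eq _
      (hemb.isEmbedding.homeomorphImage W).isHomeomorph]
    have : Subtype.val '' W = closure ({w₀.val} : Set _) := by
      rw [← hw₀.def, ← hemb.closure_image_eq, Set.image_singleton]
    rw [this]
  have hmaxw := (closure_mem_irreducibleComponents_iff w₀).mp (by rw [hw₀.def]; exact hW)
  have hmaxw' : ∀ w' : ↥(pullback f g), w' ⤳ w₀.val → (pullback.snd f g) w' ∈ V →
      w' = w₀.val := by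
    intro w' h2 h3
    have h4 := hmaxw ⟨w', h3⟩ ((subtype_specializes_iff _ _).mpr h2)
    rw [← h4]
  have hVeq : topologicalKrullDim ↥V = topologicalKrullDim ↥(closure ({ζ} : Set Y')) := by
    rw [hζ.def]
  rw [h1, hVeq, topologicalKrullDim_closure_singleton k (pullback f g) w₀.val,
    topologicalKrullDim_closure_singleton k Y' ζ]
  haveI : Flat (pullback.snd f g) := inferInstance
  -- the image of `w₀` is the generic point of `V`
  have himg : (pullback.snd f g) w₀.val = ζ := by
    have h2 : ζ ⤳ (pullback.snd f g) w₀.val := by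
      apply specializes_iff_mem_closure.mpr
      rw [hζ.def]
      exact w₀.2
    obtain ⟨w', hw', hw'ζ⟩ := Flat.generalizingMap (pullback.snd f g) h2
    have h3 : (pullback.snd f g) w' ∈ V := by
      rw [hw'ζ, ← hζ.def]
      exact subset_closure rfl
    rw [← hmaxw' w' hw' h3, hw'ζ]
  -- `w₀` is a maximal point of its fibre
  have hmaxf : ∀ w : (pullback.snd f g).fiber ((pullback.snd f g) w₀.val),
      w ⤳ (pullback.snd f g).asFiber w₀.val → w = (pullback.snd f g).asFiber w₀.val := by
    intro w hw
    have h2 := hw.map ((pullback.snd f g).fiberι _).continuous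
    rw [(pullback.snd f g).fiberι_asFiber] at h2
    have h3 : (pullback.snd f g) (((pullback.snd f g).fiberι _) w) ∈ V := by
      rw [Groth.Agent.Lib.helper7.FibStalk.apply_fiberι]
      exact w₀.2
    have h4 := hmaxw' _ h2 h3
    apply ((pullback.snd f g).fiberι _).isEmbedding.injective
    rw [h4, (pullback.snd f g).fiberι_asFiber]
  have h5 := (closure_mem_irreducibleComponents_iff _).mpr hmaxf
  have h6 := hfib' _ _ h5
  rw [topologicalKrullDim_fiber_closure_singleton] at h6
  have h7 : fiberTrdegNat (pullback.snd f g) ((pullback.snd f g) w₀.val)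
      ((pullback.snd f g).asFiber w₀.val) = n := by exact_mod_cast h6
  have h8 := trdegNat_eq_add_fiberTrdegNat' (pullback.snd f g) k hf' w₀.val
  rw [h8, h7, himg]
  push_cast
  rfl

end Groth.Agent.Lib.helper7.DimSch
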