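import Mathlib

/-!
# Domains whose generic point is open (EGA IV 10.4 / 0 16.3) — helper7 library

* `ideal_eq_bot_of_isField`, `eq_bot_of_isField_away`, `isField_away_of_forall`.
-/

set_option autoImplicit false
universe u

namespace Groth.Agent.Lib.helper7.Jac

lemma ideal_eq_bot_of_isField {L : Type*} [CommRing L] (hF : IsField L) (I : Ideal L)
    (hI : I ≠ ⊤) : I = ⊥ := by
  rw [eq_bot_iff]
  intro x hx
  by_contra hx0
  have hx0' : x ≠ 0 := fun h => hx0 (h ▸ Ideal.zero_mem _)
  obtain ⟨y, hy⟩ := hF.mul_inv_cancel hx0'
  exact hI ((Ideal.eq_top_iff_one I).mpr (hy ▸ I.mul_mem_right y hx))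

variable {B : Type u} [CommRing B] [IsDomain B]

/-- If `B_f` is a field, every prime of `B` not containing `f` is zero. -/
lemma eq_bot_of_isField_away {f : B} (hf : f ≠ 0) (hF : IsField (Localization.Away f))
    (p : Ideal B) [hp : p.IsPrime] (hfp : f ∉ p) : p = ⊥ := by
  have hdisj : Disjoint (Submonoid.powers f : Set B) (p : Set B) :=
    (Ideal.disjoint_powers_iff_notMem f hp.isRadical).mpr hfp
  have hprime := IsLocalization.isPrime_of_isPrime_disjoint (Submonoid.powers f)
    (Localization.Away f) p hp hdisj
  have hbot : Ideal.map (algebraMap B (Localization.Away f)) p = ⊥ :=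
    ideal_eq_bot_of_isField hF _ hprime.ne_top
  have hcm := IsLocalization.under_map_of_isPrime_disjoint (Submonoid.powers f)
    (Localization.Away f) hp hdisj
  have hinj : Function.Injective (algebraMap B (Localization.Away f)) :=
    IsLocalization.injective _ (powers_le_nonZeroDivisors_of_noZeroDivisors hf)
  rw [hbot, Ideal.under_def, Ideal.comap_bot_of_injective _ hinj] at hcm
  exact hcm.symm

/-- If every prime of `B` not containing `f ≠ 0` is zero, then `B_f` is a field. -/
lemma isField_away_of_forall {f : B} (hf : f ≠ 0)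
    (h : ∀ (p : Ideal B) [p.IsPrime], f ∉ p → p = ⊥) : IsField (Localization.Away f) := by
  have hle : Submonoid.powers f ≤ nonZeroDivisors B :=
    powers_le_nonZeroDivisors_of_noZeroDivisors hf
  have : IsDomain (Localization.Away f) := IsLocalization.isDomain_of_le_nonZeroDivisors _ hle
  by_contra hnot
  obtain ⟨P, hP0, hP⟩ := Ring.not_isField_iff_exists_prime.mp hnot
  have := hP
  have hp : (Ideal.comap (algebraMap B (Localization.Away f)) P).IsPrime := inferInstance
  have hfp : f ∉ Ideal.comap (algebraMap B (Localization.Away f)) P := by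
    intro hfp
    have hmem : algebraMap B (Localization.Away f) f ∈ P := hfp
    exact hP.ne_top (Ideal.eq_top_of_isUnit_mem _ hmem (IsLocalization.Away.algebraMap_isUnit f))
  have hpbot := h _ hfp
  have hmc := IsLocalization.map_under (Submonoid.powers f) (Localization.Away f) P
  rw [Ideal.under_def, hpbot, Ideal.map_bot] at hmc
  exact hP0 hmc.symm

end Groth.Agent.Lib.helper7.Jac
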