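import Mathlib
import Groth.Agent.S4860
import Groth.Agent.S4861

/-!
# Points that are isolated in their closure (EGA IV 10.4–10.5 / 0 16.3) — helper7 library

* `isMaximal_of_lt_of_isLocallyClosed`: in a Noetherian ring, if `{p}` is locally closed in the
  spectrum, every prime strictly above `p` is maximal;
* `isClosed_singleton_of_mem_closure`: in a locally Noetherian scheme, if `{x}` is locally closed,
  every other point of its closure is a closed point;
* `finite_of_forall_isClosed_singleton`: a quasi-sober Noetherian space all of whose points are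
  closed is finite.
-/

set_option autoImplicit false
universe u

namespace Groth.Agent.Lib.helper7.Jac

open Topology Set TopologicalSpace CategoryTheory AlgebraicGeometry

theorem isMaximal_of_lt_of_isLocallyClosed {A : Type u} [CommRing A] [IsNoetherianRing A]
    (p : PrimeSpectrum A) (hp : IsLocallyClosed ({p} : Set (PrimeSpectrum A)))
    (q : PrimeSpectrum A) (hpq : p.asIdeal < q.asIdeal) : q.asIdeal.IsMaximal := by
  have hpprime : p.asIdeal.IsPrime := p.isPrime
  have hqprime : q.asIdeal.IsPrime := q.isPrime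
  set φ : A →+* A ⧸ p.asIdeal := Ideal.Quotient.mk p.asIdeal with hφ
  have hsurj : Function.Surjective φ := Ideal.Quotient.mk_surjective
  let b : PrimeSpectrum (A ⧸ p.asIdeal) := ⟨⊥, Ideal.bot_prime⟩
  have hcb : PrimeSpectrum.comap φ b = p := by
    apply PrimeSpectrum.ext
    change Ideal.comap φ ⊥ = p.asIdeal
    rw [← RingHom.ker_eq_comap_bot, Ideal.mk_ker]
  have hpre : PrimeSpectrum.comap φ ⁻¹' {p} = {b} := by
    ext r
    simp only [mem_preimage, mem_singleton_iff]
    constructor
    · intro h
      exact PrimeSpectrum.comap_injective_of_surjective φ hsurj (h.trans hcb.symm)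
    · rintro rfl
      exact hcb
  have hlc : IsLocallyClosed ({b} : Set (PrimeSpectrum (A ⧸ p.asIdeal))) := by
    rw [← hpre]
    exact hp.preimage (PrimeSpectrum.continuous_comap φ)
  have hopen : IsOpen ({b} : Set (PrimeSpectrum (A ⧸ p.asIdeal))) := by
    obtain ⟨U, Z, hU, hZ, hUZ⟩ := hlc
    have hbZ : b ∈ Z := (hUZ ▸ mem_singleton b : b ∈ U ∩ Z).2
    have hZuniv : Z = univ := by
      rw [eq_univ_iff_forall]
      intro r
      have : closure {b} ⊆ Z := hZ.closure_subset_iff.mpr (singleton_subset_iff.mpr hbZ)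
      apply this
      rw [PrimeSpectrum.closure_singleton]
      change r ∈ PrimeSpectrum.zeroLocus ((⊥ : Ideal (A ⧸ p.asIdeal)) : Set (A ⧸ p.asIdeal))
      rw [PrimeSpectrum.mem_zeroLocus]
      exact fun x hx => by
        rw [SetLike.mem_coe, Ideal.mem_bot] at hx
        rw [hx]
        exact Ideal.zero_mem _
    rw [hUZ, hZuniv, inter_univ]
    exact hU
  have h1 := ((Groth.Agent.S4860.result (A ⧸ p.asIdeal)).out 3 0).mp hopen
  have h3 := ((Groth.Agent.S4861.result (A ⧸ p.asIdeal)).out 0 2).mp h1
  have hK : Ring.KrullDimLE 1 (A ⧸ p.asIdeal) := Ring.krullDimLE_iff.mpr (by exact_mod_cast h3.2)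
  have hmax := Ring.krullDimLE_one_iff_of_isPrime_bot.mp hK
  have hker : RingHom.ker φ ≤ q.asIdeal := by
    rw [Ideal.mk_ker]
    exact hpq.le
  have hIprime : (Ideal.map φ q.asIdeal).IsPrime := Ideal.map_isPrime_of_surjective hsurj hker
  have hI0 : Ideal.map φ q.asIdeal ≠ ⊥ := by
    obtain ⟨a, haq, hap⟩ := SetLike.exists_of_lt hpq
    intro h0
    have : φ a ∈ Ideal.map φ q.asIdeal := Ideal.mem_map_of_mem φ haq
    rw [h0, Ideal.mem_bot] at this
    exact hap (Ideal.Quotient.eq_zero_iff_mem.mp this)
  have hImax : (Ideal.map φ q.asIdeal).IsMaximal := hmax _ hI0 hIprime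
  have hcm : Ideal.comap φ (Ideal.map φ q.asIdeal) = q.asIdeal := by
    rw [Ideal.comap_map_of_surjective _ hsurj, ← RingHom.ker_eq_comap_bot]
    exact sup_eq_left.mpr hker
  rw [← hcm]
  exact Ideal.comap_isMaximal_of_surjective φ hsurj

theorem isClosed_singleton_of_mem_closure {X : Scheme.{u}} [IsLocallyNoetherian X] {x y : X}
    (hx : IsLocallyClosed ({x} : Set X)) (hy : y ∈ closure ({x} : Set X)) (hne : y ≠ x) :
    IsClosed ({y} : Set X) := by
  rw [← closure_subset_iff_isClosed]
  intro y' hy'
  rw [mem_singleton_iff]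
  obtain ⟨_, ⟨V, hV : IsAffineOpen V, rfl⟩, hy'V, -⟩ :=
    X.isBasis_affineOpens.exists_subset_of_mem_open (mem_univ y') isOpen_univ
  have hyy' : y ⤳ y' := specializes_iff_mem_closure.mpr hy'
  have hxy : x ⤳ y := specializes_iff_mem_closure.mpr hy
  have hyV : y ∈ V := hyy'.mem_open V.2 hy'V
  have hxV : x ∈ V := hxy.mem_open V.2 hyV
  have hN : IsNoetherianRing Γ(X, V) := IsLocallyNoetherian.component_noetherian ⟨V, hV⟩
  have hrange := hV.range_fromSpec
  obtain ⟨px, rfl⟩ : x ∈ Set.range ⇑hV.fromSpec := by rw [hrange]; exact hxV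
  obtain ⟨py, rfl⟩ : y ∈ Set.range ⇑hV.fromSpec := by rw [hrange]; exact hyV
  obtain ⟨py', rfl⟩ : y' ∈ Set.range ⇑hV.fromSpec := by rw [hrange]; exact hy'V
  have hemb : IsOpenEmbedding ⇑hV.fromSpec := hV.fromSpec.isOpenEmbedding
  have hxy' : px ⤳ py := hemb.isInducing.specializes_iff.mp hxy
  have hyy'' : py ⤳ py' := hemb.isInducing.specializes_iff.mp hyy'
  have hpre : ⇑hV.fromSpec ⁻¹' {hV.fromSpec px} = {px} := by
    ext r
    simp only [mem_preimage, mem_singleton_iff]
    exact ⟨fun h => hemb.injective h, fun h => h ▸ rfl⟩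
  have hlc : IsLocallyClosed ({px} : Set (PrimeSpectrum Γ(X, V))) := by
    have := hx.preimage hV.fromSpec.continuous
    rw [hpre] at this
    exact this
  have hle : (px : PrimeSpectrum Γ(X, V)).asIdeal ≤ (py : PrimeSpectrum Γ(X, V)).asIdeal :=
    (PrimeSpectrum.le_iff_specializes (px : PrimeSpectrum Γ(X, V)) py).mpr hxy'
  have hle' : (py : PrimeSpectrum Γ(X, V)).asIdeal ≤ (py' : PrimeSpectrum Γ(X, V)).asIdeal :=
    (PrimeSpectrum.le_iff_specializes (py : PrimeSpectrum Γ(X, V)) py').mpr hyy''
  have hlt : (px : PrimeSpectrum Γ(X, V)).asIdeal < (py : PrimeSpectrum Γ(X, V)).asIdeal := by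
    refine lt_of_le_of_ne hle fun h => hne ?_
    have : (px : PrimeSpectrum Γ(X, V)) = py := PrimeSpectrum.ext h
    rw [this]
  have hmax := isMaximal_of_lt_of_isLocallyClosed (px : PrimeSpectrum Γ(X, V)) hlc py hlt
  have heq := hmax.eq_of_le (py' : PrimeSpectrum Γ(X, V)).isPrime.ne_top hle'
  have : (py : PrimeSpectrum Γ(X, V)) = py' := PrimeSpectrum.ext heq
  rw [this]

theorem finite_of_forall_isClosed_singleton {α : Type*} [TopologicalSpace α] [QuasiSober α]
    [NoetherianSpace α] (h : ∀ a : α, IsClosed ({a} : Set α)) : Finite α := by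
  have hfin := NoetherianSpace.finite_irreducibleComponents (α := α)
  have huniv : (univ : Set α).Finite := by
    rw [← sUnion_irreducibleComponents]
    refine hfin.sUnion fun C hC => ?_
    obtain ⟨g, hg⟩ := QuasiSober.sober hC.1 (isClosed_of_mem_irreducibleComponents C hC)
    have : C = {g} := by
      rw [← hg.def, (h g).closure_eq]
    rw [this]
    exact finite_singleton g
  exact finite_univ_iff.mp huniv

/-- A quasi-sober space with a dense point `η` all of whose other points are closed has
dimension at most one. -/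
theorem topologicalKrullDim_le_one_of_forall_isClosed_singleton {α : Type*} [TopologicalSpace α]
    [QuasiSober α] (η : α) (hη : closure ({η} : Set α) = univ)
    (h : ∀ a : α, a ≠ η → IsClosed ({a} : Set α)) : topologicalKrullDim α ≤ 1 := by
  rw [topologicalKrullDim, Order.krullDim_le_one_iff]
  intro Z
  obtain ⟨z, hz⟩ := QuasiSober.sober Z.isIrreducible' Z.isClosed'
  by_cases hzη : z = η
  · right
    intro Z' _
    refine SetLike.le_def.mpr fun t _ => ?_
    have hZ : (Z : Set α) = univ := by
      change Z.carrier = univ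
      rw [← hz.def, hzη, hη]
    rw [← SetLike.mem_coe, hZ]
    exact mem_univ t
  · left
    intro Z' hZ'Z
    have hZ : (Z : Set α) = {z} := by
      change Z.carrier = {z}
      rw [← hz.def, (h z hzη).closure_eq]
    refine SetLike.le_def.mpr fun t ht => ?_
    rw [← SetLike.mem_coe, hZ, mem_singleton_iff] at ht
    obtain ⟨t', ht'⟩ := Z'.isIrreducible'.nonempty
    have ht'Z : t' ∈ (Z : Set α) := SetLike.le_def.mp hZ'Z ht'
    rw [hZ, mem_singleton_iff] at ht'Z
    rw [ht, ← ht'Z]
    exact ht'

lemma mem_closure_singleton_subtype {α : Type*} [TopologicalSpace α] {S : Set α} (t w : ↥S)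
    (h : (t : α) ∈ closure ({(w : α)} : Set α)) : t ∈ closure ({w} : Set ↥S) := by
  have h1 := (closure_subtype (x := t) (s := ({w} : Set ↥S))).mpr
  rw [Set.image_singleton] at h1
  exact h1 h

end Groth.Agent.Lib.helper7.Jac
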