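import Mathlib
import Groth.Prelude.Def_LinTop

/-! Helper lemmas on admissible rings (helper7). -/

namespace Groth.Agent.Lib.helper7

universe u

open Filter Topology

theorem nonarchimedeanAddGroup_of_isLinearTopology (A : Type u) [CommRing A] [TopologicalSpace A]
    [IsTopologicalRing A] [IsLinearTopology A A] : NonarchimedeanAddGroup A where
  is_nonarchimedean := by
    intro U hU
    obtain ⟨I, hI, hIU⟩ := (IsLinearTopology.hasBasis_open_ideal (R := A)).mem_iff.mp hU
    exact ⟨⟨I.toAddSubgroup, hI⟩, hIU⟩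

theorem tendsto_pow_of_mem_idealOfDefinition (A : Type u) [CommRing A] [TopologicalSpace A]
    (J : Ideal A) (hJ : LinTop.IsIdealOfDefinition A J) {x : A} (hx : x ∈ J) :
    Tendsto (fun n : ℕ => x ^ n) atTop (𝓝 0) := by
  rw [tendsto_atTop']
  intro U hU
  obtain ⟨n, _, hn⟩ := hJ.2 U hU
  refine ⟨n, fun m hm => hn ?_⟩
  exact Ideal.pow_le_pow_right hm (Ideal.pow_mem_pow hx m)

theorem isUnit_one_sub_of_mem_idealOfDefinition
    (A : Type u) [CommRing A] [UniformSpace A] [IsUniformAddGroup A] [IsTopologicalRing A]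
    (hA : LinTop.IsAdmissible A) (J : Ideal A) (hJ : LinTop.IsIdealOfDefinition A J) {x : A}
    (hx : x ∈ J) : IsUnit (1 - x) := by
  obtain ⟨⟨hlin, _⟩, hT2, hC⟩ := hA
  haveI := hlin
  haveI := hT2
  haveI := hC
  haveI := nonarchimedeanAddGroup_of_isLinearTopology A
  have hsum : Summable (fun n : ℕ => x ^ n) := by
    apply NonarchimedeanAddGroup.summable_of_tendsto_cofinite_zero
    rw [Nat.cofinite_eq_atTop]
    exact tendsto_pow_of_mem_idealOfDefinition A J hJ hx
  exact IsUnit.of_mul_eq_one _ (hsum.one_sub_mul_tsum_pow)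

theorem le_jacobson_bot_of_isIdealOfDefinition
    (A : Type u) [CommRing A] [UniformSpace A] [IsUniformAddGroup A] [IsTopologicalRing A]
    (hA : LinTop.IsAdmissible A) (J : Ideal A) (hJ : LinTop.IsIdealOfDefinition A J) :
    J ≤ (⊥ : Ideal A).jacobson := by
  intro x hx
  rw [Ideal.mem_jacobson_bot]
  intro y
  have h : -(x * y) ∈ J := J.neg_mem (J.mul_mem_right y hx)
  have := isUnit_one_sub_of_mem_idealOfDefinition A hA J hJ h
  rwa [sub_neg_eq_add, add_comm] at this

end Groth.Agent.Lib.helper7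

namespace Groth.Agent.Lib.helper7

universe u

open Filter Topology

section Complete

variable (A : Type u) [CommRing A] [UniformSpace A] [IsUniformAddGroup A] [IsTopologicalRing A]

theorem tendsto_zero_of_forall_mem_pow
    (J : Ideal A) (hJ : LinTop.IsIdealOfDefinition A J) (y : ℕ → A) (hy : ∀ k, y k ∈ J ^ k) :
    Tendsto y atTop (𝓝 0) := by
  rw [tendsto_atTop']
  intro U hU
  obtain ⟨n, _, hn⟩ := hJ.2 U hU
  exact ⟨n, fun m hm => hn (Ideal.pow_le_pow_right hm (hy m))⟩

theorem summable_of_forall_mem_pow (hA : LinTop.IsAdmissible A)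
    (J : Ideal A) (hJ : LinTop.IsIdealOfDefinition A J) (y : ℕ → A) (hy : ∀ k, y k ∈ J ^ k) :
    Summable y := by
  obtain ⟨⟨hlin, _⟩, hT2, hC⟩ := hA
  have := hlin
  have := hT2
  have := hC
  have := nonarchimedeanAddGroup_of_isLinearTopology A
  apply NonarchimedeanAddGroup.summable_of_tendsto_cofinite_zero
  rw [Nat.cofinite_eq_atTop]
  exact tendsto_zero_of_forall_mem_pow A J hJ y hy

theorem exists_decomp_of_mem_span_mul (s : Finset A) (N : Ideal A) (x : A)
    (hx : x ∈ Ideal.span (s : Set A) * N) :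
    ∃ z : s → A, (∀ i, z i ∈ N) ∧ x = ∑ i : s, (i : A) * z i := by
  have h1 : Ideal.span (s : Set A) * N = N • Submodule.span A (Set.range ((↑) : s → A)) := by
    rw [mul_comm, smul_eq_mul]
    congr 2
    simp
  rw [h1, Submodule.mem_ideal_smul_span_iff_exists_sum] at hx
  obtain ⟨c, hc, rfl⟩ := hx
  refine ⟨fun i => c i, hc, ?_⟩
  rw [Finsupp.sum_fintype _ _ (fun i => by simp)]
  simp [mul_comm]

theorem tsum_mem_pow_of_fg (hA : LinTop.IsAdmissible A)
    (J : Ideal A) (hJ : LinTop.IsIdealOfDefinition A J) (s : Finset A)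
    (hIJ : Ideal.span (s : Set A) ≤ J) :
    ∀ (n : ℕ) (y : ℕ → A), (∀ k, y k ∈ Ideal.span (s : Set A) ^ (n + k)) →
      ∑' k, y k ∈ Ideal.span (s : Set A) ^ n := by
  have hT2 : T2Space A := hA.2.1
  intro n
  induction n with
  | zero => intro y _; simp
  | succ n ih =>
    intro y hy
    have hdec : ∀ k, ∃ z : s → A, (∀ i, z i ∈ Ideal.span (s : Set A) ^ (n + k)) ∧
        y k = ∑ i : s, (i : A) * z i := by
      intro k
      apply exists_decomp_of_mem_span_mul
      have := hy k
      rwa [show n + 1 + k = (n + k) + 1 by ring, pow_succ'] at this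
    choose z hz hyz using hdec
    have hzJ : ∀ i k, z k i ∈ J ^ k := fun i k =>
      Ideal.pow_le_pow_right (Nat.le_add_left k n) (Ideal.pow_right_mono hIJ _ (hz k i))
    have hsum : ∀ i : s, Summable (fun k => z k i) := fun i =>
      summable_of_forall_mem_pow A hA J hJ _ (hzJ i)
    have hZ : ∀ i : s, ∑' k, z k i ∈ Ideal.span (s : Set A) ^ n := fun i =>
      ih (fun k => z k i) (fun k => hz k i)
    have hsum2 : ∀ i : s, Summable (fun k => (i : A) * z k i) := fun i => (hsum i).mul_left _
    have : ∑' k, y k = ∑ i : s, (i : A) * ∑' k, z k i := by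
      simp_rw [hyz]
      rw [Summable.tsum_finsetSum (fun i _ => hsum2 i)]
      congr 1
      ext i
      exact (hsum i).tsum_mul_left _
    rw [this, pow_succ']
    refine Ideal.sum_mem _ fun i _ => Ideal.mul_mem_mul (Ideal.subset_span i.2) (hZ i)

theorem isAdicComplete_of_fg (hA : LinTop.IsAdmissible A)
    (J : Ideal A) (hJ : LinTop.IsIdealOfDefinition A J)
    (I : Ideal A) (hI : I.FG) (hIJ : I ≤ J) : IsAdicComplete I A := by
  have hT2 : T2Space A := hA.2.1
  obtain ⟨s, rfl⟩ := hI
  have hhaus : IsHausdorff (Ideal.span (s : Set A)) A := by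
    constructor
    intro x hx
    by_contra hne
    obtain ⟨U, hU, hxU⟩ : ∃ U ∈ 𝓝 (0 : A), x ∉ U := by
      refine ⟨{x}ᶜ, ?_, by simp⟩
      exact isOpen_compl_singleton.mem_nhds (by simpa using Ne.symm hne)
    obtain ⟨n, _, hn⟩ := hJ.2 U hU
    apply hxU
    apply hn
    have := hx n
    rw [SModEq.zero, smul_eq_mul, Ideal.mul_top] at this
    exact Ideal.pow_right_mono hIJ n this
  have hprec : IsPrecomplete (Ideal.span (s : Set A)) A := by
    constructor
    intro f hf
    have hd : ∀ k, f (k + 1) - f k ∈ Ideal.span (s : Set A) ^ k := by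
      intro k
      have := hf (Nat.le_succ k)
      rw [SModEq.sub_mem, smul_eq_mul, Ideal.mul_top] at this
      simpa using (Ideal.neg_mem_iff _).mpr this
    have hdsum : Summable (fun k => f (k + 1) - f k) :=
      summable_of_forall_mem_pow A hA J hJ _ (fun k => Ideal.pow_right_mono hIJ k (hd k))
    refine ⟨f 0 + ∑' k, (f (k + 1) - f k), fun n => ?_⟩
    rw [SModEq.sub_mem, smul_eq_mul, Ideal.mul_top]
    have hsplit := hdsum.sum_add_tsum_nat_add n
    rw [Finset.sum_range_sub] at hsplit
    have hmem := tsum_mem_pow_of_fg A hA J hJ s hIJ n (fun k => f (k + n + 1) - f (k + n))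
      (fun k => by rw [add_comm n k]; exact hd (k + n))
    have : f n - (f 0 + ∑' k, (f (k + 1) - f k)) = -∑' k, (f (k + n + 1) - f (k + n)) := by
      rw [← hsplit]; ring
    rw [this]
    exact (Ideal.neg_mem_iff _).mpr hmem
  exact { toIsHausdorff := hhaus, toIsPrecomplete := hprec }

end Complete

end Groth.Agent.Lib.helper7
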