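import Mathlib
import Groth.Prelude.Def_ProCons
import Groth.Agent.Lib.helper7.PC7

/-!
# Pro-constructible subsets as images of affine schemes (EGA IV 1.9.5 (ix)) — helper7 library

* `exists_ringHom_range_comap_eq`: a constructibly closed subset `E` of `Spec A` is the image of
  `Spec (∏_{x ∈ E} κ(x))`.
-/

set_option autoImplicit false
universe u

namespace Groth.Agent.Lib.helper7.AffImg

open Topology Set TopologicalSpace CategoryTheory CategoryTheory.Limits AlgebraicGeometry
open PrimeSpectrum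

section Ring

variable {A : Type u} [CommRing A]

/-- A basic constructibly open neighbourhood `D(g) ∩ V(t)` inside a finite intersection of
subbasic sets of the constructible topology. -/
lemma exists_basic_nhd (p : PrimeSpectrum A) (F : Set (Set (PrimeSpectrum A))) (hF : F.Finite)
    (hsub : F ⊆ constructibleTopologySubbasis (PrimeSpectrum A)) (hp : p ∈ ⋂₀ F) :
    ∃ (g : A) (t : Finset A), g ∉ p.asIdeal ∧ (↑t : Set A) ⊆ p.asIdeal ∧
      ∀ q : PrimeSpectrum A, g ∉ q.asIdeal → (↑t : Set A) ⊆ q.asIdeal → q ∈ ⋂₀ F := by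
  classical
  induction F, hF using Set.Finite.induction_on with
  | empty =>
    refine ⟨1, ∅, ?_, by simp, fun q _ _ => by simp⟩
    exact fun h => p.isPrime.ne_top ((Ideal.eq_top_iff_one _).mpr h)
  | @insert u F hu hFfin ih =>
    obtain ⟨g, t, hg, ht, hgt⟩ := ih (fun v hv => hsub (mem_insert_of_mem u hv))
      (fun v hv => hp v (mem_insert_of_mem u hv))
    have hpu : p ∈ u := hp u (mem_insert u F)
    rcases hsub (mem_insert u F) with ⟨huo, huc⟩ | ⟨hucl, huc⟩
    · obtain ⟨t', rfl⟩ := isCompact_isOpen_iff.mp ⟨huc, huo⟩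
      have : ∃ g' ∈ t', g' ∉ p.asIdeal := by
        by_contra hcon
        push Not at hcon
        exact hpu ((mem_zeroLocus _ _).mpr fun a ha => hcon a ha)
      obtain ⟨g', hg't', hg'⟩ := this
      refine ⟨g * g', t, ?_, ht, fun q hq hqt => ?_⟩
      · intro h
        rcases p.isPrime.mem_or_mem h with h | h
        · exact hg h
        · exact hg' h
      · have hgq : g ∉ q.asIdeal := fun h => hq (Ideal.mul_mem_right _ _ h)
        have hg'q : g' ∉ q.asIdeal := fun h => hq (Ideal.mul_mem_left _ _ h)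
        intro v hv
        rcases hv with rfl | hv
        · intro hqz
          exact hg'q ((mem_zeroLocus _ _).mp hqz hg't')
        · exact hgt q hgq hqt v hv
    · obtain ⟨t', ht'⟩ := isCompact_isOpen_iff.mp ⟨huc, hucl.isOpen_compl⟩
      have hu_eq : u = zeroLocus (↑t' : Set A) := by
        rw [← compl_compl u, ← ht', compl_compl]
      subst hu_eq
      refine ⟨g, t ∪ t', hg, ?_, fun q hq hqt => ?_⟩
      · intro a ha
        rw [Finset.coe_union] at ha
        rcases ha with ha | ha
        · exact ht ha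
        · exact (mem_zeroLocus _ _).mp hpu ha
      · rw [Finset.coe_union] at hqt
        intro v hv
        rcases hv with rfl | hv
        · exact (mem_zeroLocus _ _).mpr fun a ha => hqt (Or.inr ha)
        · exact hgt q hq (fun a ha => hqt (Or.inl ha)) v hv

/-- **EGA IV 1.9.5 (ix), affine case**: a constructibly closed subset of `Spec A` is the image of
the spectrum of a ring (the product of the residue fields of its points). -/
theorem exists_ringHom_range_comap_eq (E : Set (PrimeSpectrum A))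
    (hE : IsClosed[constructibleTopology (PrimeSpectrum A)] E) :
    ∃ (B : Type u) (_ : CommRing B) (φ : A →+* B), Set.range (PrimeSpectrum.comap φ) = E := by
  classical
  let κ : E → Type u := fun x => x.1.asIdeal.ResidueField
  let φ : A →+* (∀ x : E, κ x) := RingHom.pi fun x => algebraMap A (κ x)
  have hφ : ∀ (a : A) (x : E), φ a x = 0 ↔ a ∈ x.1.asIdeal := fun a x =>
    Ideal.algebraMap_residueField_eq_zero
  refine ⟨∀ x : E, κ x, inferInstance, φ, Subset.antisymm ?_ ?_⟩
  · rintro _ ⟨P, rfl⟩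
    by_contra hpE
    set p := PrimeSpectrum.comap φ P with hp_def
    have hB := @TopologicalSpace.isTopologicalBasis_of_subbasis (PrimeSpectrum A)
      (constructibleTopology (PrimeSpectrum A)) (constructibleTopologySubbasis (PrimeSpectrum A)) rfl
    have hEo : IsOpen[constructibleTopology (PrimeSpectrum A)] Eᶜ :=
      (@isOpen_compl_iff (PrimeSpectrum A) E (constructibleTopology (PrimeSpectrum A))).mpr hE
    obtain ⟨b, ⟨F, ⟨hFfin, hFsub⟩, rfl⟩, hpb, hbs⟩ :=
      (@TopologicalSpace.IsTopologicalBasis.exists_subset_of_mem_open (PrimeSpectrum A)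
        (constructibleTopology (PrimeSpectrum A)) _ hB p Eᶜ hpE hEo)
    obtain ⟨g, t, hg, ht, hgt⟩ := exists_basic_nhd p F hFfin hFsub hpb
    -- the indicator of `V(t)` in the product of fields
    let w : ∀ x : E, κ x := ∏ a ∈ t, (1 - φ a * (φ a)⁻¹)
    have hwP : w ∉ P.asIdeal := by
      intro hw
      have h1 : Ideal.Quotient.mk P.asIdeal w = 1 := by
        simp only [w, map_prod]
        refine Finset.prod_eq_one fun a ha => ?_
        have : φ a ∈ P.asIdeal := ht ha
        rw [map_sub, map_one, map_mul, Ideal.Quotient.eq_zero_iff_mem.mpr this, zero_mul, sub_zero]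
      rw [Ideal.Quotient.eq_zero_iff_mem.mpr hw] at h1
      have : (1 : (∀ x : E, κ x)) ∈ P.asIdeal := by
        rw [← Ideal.Quotient.eq_zero_iff_mem, map_one]
        exact h1.symm
      exact P.isPrime.ne_top ((Ideal.eq_top_iff_one _).mpr this)
    have hwg : w * φ g = 0 := by
      funext x
      rw [Pi.mul_apply, Pi.zero_apply]
      by_cases hx : ∃ a ∈ t, φ a x ≠ 0
      · obtain ⟨a, hat, hax⟩ := hx
        have : w x = 0 := by
          simp only [w, Finset.prod_apply]
          refine Finset.prod_eq_zero hat ?_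
          rw [Pi.sub_apply, Pi.one_apply, Pi.mul_apply, Pi.inv_apply, mul_inv_cancel₀ hax, sub_self]
        rw [this, zero_mul]
      · push Not at hx
        have hxF : x.1 ∈ ⋂₀ F → False := fun h => hbs h x.2
        have hgx : g ∈ x.1.asIdeal := by
          by_contra hgx
          exact hxF (hgt x.1 hgx fun a ha => (hφ a x).mp (hx a ha))
        rw [(hφ g x).mpr hgx, mul_zero]
    have : w * φ g ∈ P.asIdeal := by
      rw [hwg]
      exact Ideal.zero_mem _
    rcases P.isPrime.mem_or_mem this with h | h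
    · exact hwP h
    · exact hg h
  · intro x hx
    let ev : (∀ y : E, κ y) →+* κ ⟨x, hx⟩ := Pi.evalRingHom κ ⟨x, hx⟩
    refine ⟨PrimeSpectrum.comap ev ⟨⊥, Ideal.isPrime_bot⟩, ?_⟩
    ext a
    change ev (φ a) ∈ (⊥ : Ideal (κ ⟨x, hx⟩)) ↔ a ∈ x.asIdeal
    rw [Ideal.mem_bot]
    exact hφ a ⟨x, hx⟩

end Ring

section Scheme

open Groth.Agent.Lib.helper11.Spec Groth.Agent.Lib.helper7.PC

lemma range_coprod_desc {X X₁ X₂ : Scheme.{u}} (f₁ : X₁ ⟶ X) (f₂ : X₂ ⟶ X) :
    Set.range ⇑(coprod.desc f₁ f₂) = Set.range ⇑f₁ ∪ Set.range ⇑f₂ := by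
  apply Subset.antisymm
  · rintro _ ⟨x, rfl⟩
    obtain ⟨(a | a), rfl⟩ := (coprodMk X₁ X₂).surjective x
    · left
      refine ⟨a, ?_⟩
      rw [coprodMk_inl, ← Scheme.Hom.comp_apply, coprod.inl_desc]
    · right
      refine ⟨a, ?_⟩
      rw [coprodMk_inr, ← Scheme.Hom.comp_apply, coprod.inr_desc]
  · rintro _ (⟨a, rfl⟩ | ⟨a, rfl⟩)
    · exact ⟨(coprod.inl : X₁ ⟶ X₁ ⨿ X₂) a, by rw [← Scheme.Hom.comp_apply, coprod.inl_desc]⟩
    · exact ⟨(coprod.inr : X₂ ⟶ X₁ ⨿ X₂) a, by rw [← Scheme.Hom.comp_apply, coprod.inr_desc]⟩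

/-- A pro-constructible subset of an affine scheme is constructibly closed. -/
lemma isClosed_constr_of_isProConstructible_Spec {A : CommRingCat.{u}} (E : Set (Spec A))
    (hE : ProCons.IsProConstructible E) :
    IsClosed[constructibleTopology (PrimeSpectrum A)] (E : Set (PrimeSpectrum A)) := by
  have hT : IsAffineOpen (⊤ : (Spec A).Opens) := isAffineOpen_top (Spec A)
  have h := (isProConstructible_iff E).mp hE ⊤ hT
  have hsp := spectralSpace_of_isAffineOpen hT
  have hval : IsSpectralMap (Subtype.val : ↥((⊤ : (Spec A).Opens) : Set (Spec A)) → Spec A) := by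
    refine ⟨continuous_subtype_val, fun s _ hs => ?_⟩
    have hce : IsClosedEmbedding (Subtype.val : ↥((⊤ : (Spec A).Opens) : Set (Spec A)) → Spec A) :=
      IsClosed.isClosedEmbedding_subtypeVal (by rw [Opens.coe_top]; exact isClosed_univ)
    exact hce.isCompact_preimage hs
  have h2 := isClosed_constr_image_of_isSpectralMap hval h
  rw [Subtype.image_preimage_coe, Opens.coe_top, univ_inter] at h2
  exact h2

/-- **EGA IV 1.9.5 (ix), one affine chart.** -/
theorem exists_affine_range_eq_inter {X : Scheme.{u}} (E : Set X)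
    (hE : ProCons.IsProConstructible E) (W : X.Opens) (hW : IsAffineOpen W) :
    ∃ (X' : Scheme.{u}) (f : X' ⟶ X), IsAffine X' ∧ Set.range ⇑f = E ∩ W := by
  have hE' : ProCons.IsProConstructible (⇑hW.fromSpec ⁻¹' E) :=
    Groth.Agent.Lib.helper23.ProConsLib.isProConstructible_preimage hW.fromSpec E hE
  obtain ⟨B, _, φ, hφ⟩ := exists_ringHom_range_comap_eq _
    (isClosed_constr_of_isProConstructible_Spec _ hE')
  refine ⟨Spec (CommRingCat.of B), Spec.map (CommRingCat.ofHom φ) ≫ hW.fromSpec, inferInstance, ?_⟩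
  apply Subset.antisymm
  · rintro _ ⟨y, rfl⟩
    rw [Scheme.Hom.comp_apply]
    have hz : (Spec.map (CommRingCat.ofHom φ)) y ∈ ⇑hW.fromSpec ⁻¹' E := by
      rw [← hφ]
      exact ⟨y, rfl⟩
    refine ⟨hz, ?_⟩
    have : hW.fromSpec ((Spec.map (CommRingCat.ofHom φ)) y) ∈ Set.range ⇑hW.fromSpec := ⟨_, rfl⟩
    rw [hW.range_fromSpec] at this
    exact this
  · rintro x ⟨hxE, hxW⟩
    have : x ∈ Set.range ⇑hW.fromSpec := by
      rw [hW.range_fromSpec]
      exact hxW
    obtain ⟨z, rfl⟩ := this
    have hz : z ∈ Set.range (PrimeSpectrum.comap φ) := by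
      rw [hφ]
      exact hxE
    obtain ⟨y, rfl⟩ := hz
    exact ⟨y, by rw [Scheme.Hom.comp_apply]; rfl⟩

/-- **EGA IV 1.9.5 (ix)**: on a quasi-compact scheme, every pro-constructible subset is the image
of an affine scheme. -/
theorem exists_affine_range_eq {X : Scheme.{u}} [CompactSpace X] (E : Set X)
    (hE : ProCons.IsProConstructible E) :
    ∃ (X' : Scheme.{u}) (f : X' ⟶ X), IsAffine X' ∧ Set.range ⇑f = E := by
  classical
  have key : ∀ t : Finset X.affineOpens, ∃ (X' : Scheme.{u}) (f : X' ⟶ X), IsAffine X' ∧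
      Set.range ⇑f = E ∩ ⋃ i ∈ t, ((i : X.Opens) : Set X) := by
    intro t
    induction t using Finset.induction_on with
    | empty =>
      refine ⟨∅, Scheme.emptyTo X, inferInstance, ?_⟩
      simp only [Finset.notMem_empty, iUnion_of_empty, iUnion_empty, inter_empty,
        Set.range_eq_empty_iff]
      infer_instance
    | insert i t _ ih =>
      obtain ⟨X₁, f₁, h₁, hf₁⟩ := ih
      obtain ⟨X₂, f₂, h₂, hf₂⟩ := exists_affine_range_eq_inter E hE i.1 i.2
      refine ⟨X₂ ⨿ X₁, coprod.desc f₂ f₁, inferInstance, ?_⟩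
      rw [range_coprod_desc, hf₁, hf₂, Finset.set_biUnion_insert, inter_union_distrib_left]
  obtain ⟨t, ht⟩ := isCompact_univ.elim_finite_subcover
    (fun i : X.affineOpens => ((i : X.Opens) : Set X)) (fun i => i.1.2) (by
      intro x _
      obtain ⟨W, hW, hxW⟩ := exists_isAffineOpen_mem x
      exact mem_iUnion.mpr ⟨⟨W, hW⟩, hxW⟩)
  obtain ⟨X', f, hX', hf⟩ := key t
  refine ⟨X', f, hX', ?_⟩
  rw [hf, inter_eq_left]
  exact fun x _ => ht (mem_univ x)

end Scheme

end Groth.Agent.Lib.helper7.AffImg
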