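import Mathlib

/-!
# Points of fibres with small local dimension (towards EGA IV 6.1.4)
-/

universe u

open AlgebraicGeometry CategoryTheory

namespace Groth.Agent.Lib.helper7.CodimFib

/-- For a morphism `f : X ⟶ Y` with `X` locally Noetherian and a point `x₀`, there is a point `x`
in the same fibre with `dim O_{X,x} ≤ dim O_{Y, f x₀}` (a maximal point of the fibre). -/
theorem exists_point_stalk_dim_le {X Y : Scheme.{u}} (f : X ⟶ Y) [IsLocallyNoetherian X]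
    [IsLocallyNoetherian Y] (x₀ : X) : ∃ x : X, f x = f x₀ ∧
      ringKrullDim (X.presheaf.stalk x) ≤ ringKrullDim (Y.presheaf.stalk (f x₀)) := by
  obtain ⟨_, ⟨V, hV : IsAffineOpen V, rfl⟩, hyV, -⟩ :=
    Y.isBasis_affineOpens.exists_subset_of_mem_open (Set.mem_univ (f x₀)) isOpen_univ
  have hx₀U : x₀ ∈ f ⁻¹ᵁ V := hyV
  obtain ⟨_, ⟨U, hU : IsAffineOpen U, rfl⟩, hx₀U', hUV⟩ :=
    X.isBasis_affineOpens.exists_subset_of_mem_open hx₀U (f ⁻¹ᵁ V).2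
  have hN : IsNoetherianRing Γ(X, U) := IsLocallyNoetherian.component_noetherian ⟨U, hU⟩
  have hN' : IsNoetherianRing Γ(Y, V) := IsLocallyNoetherian.component_noetherian ⟨V, hV⟩
  let φ : Γ(Y, V) →+* Γ(X, U) := (f.appLE V U hUV).hom
  algebraize [φ]
  have hcomap : (hU.primeIdealOf ⟨x₀, hx₀U'⟩).asIdeal.comap φ =
      (hV.primeIdealOf ⟨f x₀, hyV⟩).asIdeal :=
    congrArg PrimeSpectrum.asIdeal (IsAffineOpen.comap_primeIdealOf_appLE V hV U hU hUV hx₀U')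
  have hle : (hV.primeIdealOf ⟨f x₀, hyV⟩).asIdeal.map φ ≤
      (hU.primeIdealOf ⟨x₀, hx₀U'⟩).asIdeal := by
    rw [Ideal.map_le_iff_le_comap, hcomap]
  obtain ⟨𝔮, h𝔮min, h𝔮le⟩ := Ideal.exists_minimalPrimes_le hle
  have h𝔮prime : 𝔮.IsPrime := h𝔮min.1.1
  have h𝔮comap : 𝔮.comap φ = (hV.primeIdealOf ⟨f x₀, hyV⟩).asIdeal := by
    apply le_antisymm
    · rw [← hcomap]; exact Ideal.comap_mono h𝔮le
    · rw [← Ideal.map_le_iff_le_comap]; exact h𝔮min.1.2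
  have hxU : hU.fromSpec ⟨𝔮, h𝔮prime⟩ ∈ U := by
    have : hU.fromSpec ⟨𝔮, h𝔮prime⟩ ∈ Set.range hU.fromSpec := Set.mem_range_self _
    rw [hU.range_fromSpec] at this
    exact this
  have hfx : f (hU.fromSpec ⟨𝔮, h𝔮prime⟩) = f x₀ := by
    have h1 := IsAffineOpen.SpecMap_appLE_fromSpec f hV hU hUV
    have h2 : (hU.fromSpec ≫ f) ⟨𝔮, h𝔮prime⟩ =
        (Spec.map (f.appLE V U hUV) ≫ hV.fromSpec) ⟨𝔮, h𝔮prime⟩ := by rw [h1]
    rw [Scheme.Hom.comp_apply, Scheme.Hom.comp_apply] at h2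
    rw [h2]
    have h3 : Spec.map (f.appLE V U hUV) ⟨𝔮, h𝔮prime⟩ = hV.primeIdealOf ⟨f x₀, hyV⟩ :=
      PrimeSpectrum.ext h𝔮comap
    rw [h3, hV.fromSpec_primeIdealOf]
  refine ⟨hU.fromSpec ⟨𝔮, h𝔮prime⟩, hfx, ?_⟩
  have hlocX := hU.isLocalization_stalk' ⟨𝔮, h𝔮prime⟩ hxU
  have hlocY := hV.isLocalization_stalk ⟨f x₀, hyV⟩
  rw [@IsLocalization.AtPrime.ringKrullDim_eq_height _ _ 𝔮 h𝔮prime
      (X.presheaf.stalk (hU.fromSpec ⟨𝔮, h𝔮prime⟩)) _
      (TopCat.Presheaf.algebra_section_stalk X.presheaf ⟨_, hxU⟩) hlocX,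
    @IsLocalization.AtPrime.ringKrullDim_eq_height _ _ (hV.primeIdealOf ⟨f x₀, hyV⟩).asIdeal _
      (Y.presheaf.stalk (f x₀)) _
      (TopCat.Presheaf.algebra_section_stalk Y.presheaf ⟨_, hyV⟩) hlocY]
  have hlies : 𝔮.LiesOver (hV.primeIdealOf ⟨f x₀, hyV⟩).asIdeal := ⟨h𝔮comap.symm⟩
  have hht := Ideal.height_le_height_add_of_liesOver (hV.primeIdealOf ⟨f x₀, hyV⟩).asIdeal 𝔮
  have hzero : (𝔮.map (Ideal.Quotient.mk
      ((hV.primeIdealOf ⟨f x₀, hyV⟩).asIdeal.map (algebraMap Γ(Y, V) Γ(X, U))))).height = 0 := by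
    have h1 : 𝔮 ∈ ((hV.primeIdealOf ⟨f x₀, hyV⟩).asIdeal.map
        (algebraMap Γ(Y, V) Γ(X, U))).minimalPrimes := h𝔮min
    rw [Ideal.minimalPrimes_eq_comap] at h1
    obtain ⟨P, hP, hPq⟩ := h1
    have hPprime : P.IsPrime := hP.1.1
    have h2 : 𝔮.map (Ideal.Quotient.mk ((hV.primeIdealOf ⟨f x₀, hyV⟩).asIdeal.map
        (algebraMap Γ(Y, V) Γ(X, U)))) = P := by
      rw [← hPq, Ideal.map_comap_of_surjective _ Ideal.Quotient.mk_surjective]
    rw [h2]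
    exact Ideal.height_eq_zero_iff.mpr hP
  rw [hzero, add_zero] at hht
  exact_mod_cast hht

theorem ringKrullDim_stalk_le_of_flat {X Y : Scheme.{u}} (f : X ⟶ Y) [IsLocallyNoetherian X]
    [IsLocallyNoetherian Y] [Flat f] (x : X) :
    ringKrullDim (Y.presheaf.stalk (f x)) ≤ ringKrullDim (X.presheaf.stalk x) := by
  have hflat : (f.stalkMap x).hom.Flat := Flat.stalkMap f x
  algebraize [(f.stalkMap x).hom]
  have hloc : IsLocalHom (algebraMap (Y.presheaf.stalk (f x)) (X.presheaf.stalk x)) :=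
    inferInstanceAs (IsLocalHom (f.stalkMap x).hom)
  have hlies : (IsLocalRing.maximalIdeal (X.presheaf.stalk x)).LiesOver
      (IsLocalRing.maximalIdeal (Y.presheaf.stalk (f x))) := inferInstance
  rw [← IsLocalRing.maximalIdeal_height_eq_ringKrullDim,
    ← IsLocalRing.maximalIdeal_height_eq_ringKrullDim]
  have h := Ideal.height_eq_height_add_of_liesOver_of_hasGoingDown
    (IsLocalRing.maximalIdeal (Y.presheaf.stalk (f x)))
    (IsLocalRing.maximalIdeal (X.presheaf.stalk x))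
  rw [h]
  exact_mod_cast le_self_add

end Groth.Agent.Lib.helper7.CodimFib
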