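import Mathlib
import Groth.Agent.Lib.lead.AdicRetract
import Groth.Agent.Lib.helper7.CompleteNoeth

namespace Groth.Agent.Lib.helper7.CompleteNoeth

variable {A : Type*} [CommRing A]

theorem mem_smul_top_of_val_mem (J K : Ideal A) (z : J) (hz : z.1 ∈ K * J) :
    z ∈ (K • ⊤ : Submodule A J) := by
  have h : (K • (⊤ : Submodule A J)).map J.subtype = K * J := by
    rw [Submodule.map_smul'', Submodule.map_subtype_top, smul_eq_mul]
  rw [← h] at hz
  obtain ⟨w, hw, hwz⟩ := hz
  have : w = z := Subtype.ext hwz
  rwa [← this]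

theorem val_mem_of_mem_smul_top (J K : Ideal A) (z : J) (hz : z ∈ (K • ⊤ : Submodule A J)) :
    z.1 ∈ K * J := by
  have h : (K • (⊤ : Submodule A J)).map J.subtype = K * J := by
    rw [Submodule.map_smul'', Submodule.map_subtype_top, smul_eq_mul]
  rw [← h]
  exact ⟨z, hz, rfl⟩

theorem isHausdorff_ideal (J : Ideal A) [IsHausdorff J A] : IsHausdorff J (↥J) := by
  constructor
  intro x hx
  apply Subtype.ext
  have key : ∀ n, (x.1 : A) ∈ J ^ n := by
    intro n
    have h0 := hx n
    rw [SModEq.zero] at h0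
    have := val_mem_of_mem_smul_top J (J ^ n) x h0
    exact Ideal.mul_le_left this
  have := IsHausdorff.haus' (I := J) (x.1 : A) (fun n => by
    rw [SModEq.zero, smul_eq_mul, Ideal.mul_top]; exact key n)
  exact this

/-- If `A` is `J`-adically complete and `J / J²` is finitely generated then `J` is finitely
generated. -/
theorem fg_of_fg_map_sq (J : Ideal A) [IsAdicComplete J A]
    (h : (J.map (Ideal.Quotient.mk (J ^ 2))).FG) : J.FG := by
  classical
  have h' : (Ideal.span ((Ideal.Quotient.mk (J ^ 2)) '' (J : Set A))).FG := h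
  obtain ⟨s', hs'sub, hs'eq⟩ := (Submodule.fg_span_iff_fg_span_finset_subset _).mp h'
  obtain ⟨t, htJ, htimg⟩ := Finset.subset_set_image_iff.mp hs'sub
  let f : (t → A) →ₗ[A] J := Fintype.linearCombination A (fun i : t => (⟨i.1, htJ i.2⟩ : J))
  have : IsAdicComplete J (t → A) := Groth.Agent.Lib.lead.Adic.isAdicComplete_pi J
  have hH : IsHausdorff J J := isHausdorff_ideal J
  have hsurj : Function.Surjective f := by
    apply surjective_of_mkQ_comp_surjective (I := J)
    intro y'
    obtain ⟨y, rfl⟩ := Submodule.mkQ_surjective _ y'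
    have h1 : Ideal.Quotient.mk (J ^ 2) y.1 ∈
        Ideal.map (Ideal.Quotient.mk (J ^ 2)) (Ideal.span (t : Set A)) := by
      rw [Ideal.map_span, ← Finset.coe_image, htimg]
      have : Ideal.Quotient.mk (J ^ 2) y.1 ∈
          Ideal.span ((Ideal.Quotient.mk (J ^ 2)) '' (J : Set A)) :=
        Ideal.subset_span ⟨y.1, y.2, rfl⟩
      rw [Ideal.span, hs'eq] at this
      exact this
    obtain ⟨q, hq, hqy⟩ := (Ideal.mem_map_iff_of_surjective _ Ideal.Quotient.mk_surjective).mp h1
    obtain ⟨c, -, hc⟩ := Submodule.mem_span_finset.mp hq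
    refine ⟨fun i => c i.1, ?_⟩
    simp only [LinearMap.coe_comp, Function.comp_apply, Submodule.mkQ_apply]
    rw [Submodule.Quotient.eq]
    apply mem_smul_top_of_val_mem
    have hval : ((f fun i => c i.1 : J) : A) = q := by
      simp only [f, Fintype.linearCombination_apply, Submodule.coe_sum, Submodule.coe_smul]
      rw [← hc]
      exact Finset.sum_coe_sort t (fun i => c i • i)
    rw [Submodule.coe_sub, hval, ← sq, ← Ideal.Quotient.eq, hqy]
  have : Module.Finite A J := Module.Finite.of_surjective f hsurj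
  exact Module.Finite.iff_fg.mp this

/-- If `A` is `J`-adically complete and `A ⧸ J ^ 2` is Noetherian then `A` is Noetherian. -/
theorem isNoetherianRing_of_quotient_sq (J : Ideal A) [IsAdicComplete J A]
    [IsNoetherianRing (A ⧸ J ^ 2)] : IsNoetherianRing A := by
  have hfg : J.FG := fg_of_fg_map_sq J (IsNoetherian.noetherian _)
  have hle : J ^ 2 ≤ J := Ideal.pow_le_self (by norm_num)
  have : IsNoetherianRing (A ⧸ J) :=
    isNoetherianRing_of_surjective (A ⧸ J ^ 2) (A ⧸ J) (Ideal.Quotient.factor hle)
      (Ideal.Quotient.factor_surjective hle)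
  exact isNoetherianRing_of_isAdicComplete J hfg

end Groth.Agent.Lib.helper7.CompleteNoeth
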