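import Mathlib

/-!
# Special fibres over local rings, lifting idempotents (helper7)
-/

open CategoryTheory CategoryTheory.Limits AlgebraicGeometry TensorProduct

universe u

namespace Groth.Agent.Lib.helper7.DVRFib

section Ring

/-- If `1 ⊗ b = 0` in `κ(m) ⊗_R B` for a maximal ideal `m`, then `b ∈ mB`. -/
theorem mem_map_of_tmul_eq_zero {R B : Type*} [CommRing R] [CommRing B] [Algebra R B]
    (m : Ideal R) [m.IsMaximal] (b : B)
    (h : (1 : m.ResidueField) ⊗ₜ[R] b = 0) : b ∈ Ideal.map (algebraMap R B) m := by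
  let g : R →ₗ[R] m.ResidueField := Algebra.linearMap R m.ResidueField
  have hg : Function.Surjective g := Ideal.algebraMap_residueField_surjective m
  have hex : Function.Exact (Submodule.subtype m) g := by
    intro r
    constructor
    · intro hr
      refine ⟨⟨r, ?_⟩, rfl⟩
      exact (Ideal.algebraMap_residueField_eq_zero).1 hr
    · rintro ⟨⟨r', hr'⟩, rfl⟩
      exact (Ideal.algebraMap_residueField_eq_zero).2 hr'
  have hex' := rTensor_exact B hex hg
  have h1 : (LinearMap.rTensor B g) ((1 : R) ⊗ₜ[R] b) = 0 := by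
    rw [LinearMap.rTensor_tmul]
    show (algebraMap R m.ResidueField 1) ⊗ₜ[R] b = 0
    rw [map_one]; exact h
  obtain ⟨z, hz⟩ := (hex' _).1 h1
  have key : ∀ z : (m : Submodule R R) ⊗[R] B,
      TensorProduct.lid R B ((LinearMap.rTensor B (Submodule.subtype m)) z) ∈
        Ideal.map (algebraMap R B) m := by
    intro z
    induction z using TensorProduct.induction_on with
    | zero => simp
    | tmul a c =>
      rw [LinearMap.rTensor_tmul, TensorProduct.lid_tmul, Submodule.subtype_apply,
        Algebra.smul_def]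
      exact Ideal.mul_mem_right _ _ (Ideal.mem_map_of_mem _ a.2)
    | add x y hx hy =>
      rw [map_add, map_add]; exact Ideal.add_mem _ hx hy
  have := key z
  rw [hz, TensorProduct.lid_tmul, one_smul] at this
  exact this

/-- `1 ⊗ x = 0` in `κ(m) ⊗_R B` for `x ∈ mB`. -/
theorem tmul_eq_zero_of_mem_map {R B : Type*} [CommRing R] [CommRing B] [Algebra R B]
    (m : Ideal R) [m.IsPrime] (x : B) (hx : x ∈ Ideal.map (algebraMap R B) m) :
    (1 : m.ResidueField) ⊗ₜ[R] x = 0 := by
  rw [Ideal.map, Ideal.span] at hx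
  induction hx using Submodule.span_induction with
  | mem y hy =>
    obtain ⟨r, hr, rfl⟩ := hy
    rw [Algebra.algebraMap_eq_smul_one, ← TensorProduct.smul_tmul, Algebra.smul_def, mul_one,
      (Ideal.algebraMap_residueField_eq_zero).2 hr, TensorProduct.zero_tmul]
  | zero => simp
  | add y z _ _ hy hz => rw [TensorProduct.tmul_add, hy, hz, add_zero]
  | smul c y _ hy =>
    have : (1 : m.ResidueField) ⊗ₜ[R] (c • y) =
        ((1 : m.ResidueField) ⊗ₜ[R] c) * ((1 : m.ResidueField) ⊗ₜ[R] y) := by
      rw [Algebra.TensorProduct.tmul_mul_tmul, one_mul, smul_eq_mul]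
    rw [this, hy, mul_zero]

/-- If `κ(m) ⊗_R B` is reduced then `mB` is a radical ideal. -/
theorem isRadical_map_of_isReduced_fiber {R B : Type*} [CommRing R] [CommRing B] [Algebra R B]
    (m : Ideal R) [m.IsMaximal] [_root_.IsReduced (m.ResidueField ⊗[R] B)] :
    (Ideal.map (algebraMap R B) m).IsRadical := by
  intro b hb
  obtain ⟨n, hn⟩ := hb
  apply mem_map_of_tmul_eq_zero m b
  have h1 := tmul_eq_zero_of_mem_map m _ hn
  have h2 : ((1 : m.ResidueField) ⊗ₜ[R] b) ^ n = 0 := by
    rw [Algebra.TensorProduct.tmul_pow, one_pow]; exact h1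
  exact IsNilpotent.eq_zero ⟨n, h2⟩

/-- Idempotents of `B[1/t]` lift to `B` when `t` is a nonzerodivisor and `(t)` is radical. -/
theorem exists_idempotent_lift {B S : Type*} [CommRing B] [CommRing S] [Algebra B S] (t : B)
    [IsLocalization.Away t S] (ht : t ∈ nonZeroDivisors B) (hrad : (Ideal.span {t}).IsRadical)
    (e : S) (he : IsIdempotentElem e) :
    ∃ e' : B, IsIdempotentElem e' ∧ algebraMap B S e' = e := by
  have hinj : Function.Injective (algebraMap B S) :=
    IsLocalization.injective S (M := Submonoid.powers t)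
      (Submonoid.powers_le.2 ht)
  have hunit : IsUnit (algebraMap B S t) := IsLocalization.Away.algebraMap_isUnit t
  have hex : ∃ n : ℕ, ∃ b : B, algebraMap B S b = e * algebraMap B S t ^ n := by
    obtain ⟨⟨b, ⟨_, n, rfl⟩⟩, hb⟩ := IsLocalization.surj (Submonoid.powers t) e
    exact ⟨n, b, by rw [← hb, map_pow]⟩
  classical
  have hmin : ∀ {m : ℕ}, m < Nat.find hex →
      ¬ ∃ b : B, algebraMap B S b = e * algebraMap B S t ^ m := fun h => Nat.find_min hex h
  obtain ⟨b, hb⟩ := Nat.find_spec hex
  rcases hn : Nat.find hex with _ | k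
  · rw [hn, pow_zero, mul_one] at hb
    refine ⟨b, ?_, hb⟩
    apply hinj
    rw [map_mul, hb]; exact he
  · exfalso
    rw [hn] at hb
    have h1 : b * b = b * t ^ (k + 1) := by
      apply hinj
      rw [map_mul, map_mul, map_pow, hb]
      calc e * algebraMap B S t ^ (k + 1) * (e * algebraMap B S t ^ (k + 1))
          = (e * e) * algebraMap B S t ^ (k + 1) * algebraMap B S t ^ (k + 1) := by ring
        _ = e * algebraMap B S t ^ (k + 1) * algebraMap B S t ^ (k + 1) := by rw [he.eq]
    have h2 : b ∈ Ideal.span {t} := by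
      apply hrad
      refine ⟨2, ?_⟩
      rw [pow_two, h1, pow_succ, ← mul_assoc]
      exact Ideal.mul_mem_left _ _ (Ideal.mem_span_singleton_self t)
    obtain ⟨c, rfl⟩ := Ideal.mem_span_singleton'.1 h2
    apply hmin (m := k) (by rw [hn]; exact Nat.lt_succ_self k)
    refine ⟨c, ?_⟩
    rw [map_mul, pow_succ, ← mul_assoc] at hb
    exact hunit.mul_right_cancel hb

/-- If `t` is a nonzerodivisor with `(t)` radical and `D(t) = V₁ ⊔ V₂` with `V₁`, `V₂` open and
disjoint, then the closures of `V₁` and `V₂` in `Spec B` are disjoint. -/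
theorem disjoint_closure_of_basicOpen_eq_union {B : Type*} [CommRing B] (t : B)
    (ht : t ∈ nonZeroDivisors B) (hrad : (Ideal.span {t}).IsRadical)
    (V₁ V₂ : Set (PrimeSpectrum B)) (h₁ : IsOpen V₁) (h₂ : IsOpen V₂) (hd : Disjoint V₁ V₂)
    (hu : V₁ ∪ V₂ = (PrimeSpectrum.basicOpen t : Set (PrimeSpectrum B))) :
    Disjoint (closure V₁) (closure V₂) := by
  let S := Localization.Away t
  let c : PrimeSpectrum S → PrimeSpectrum B := PrimeSpectrum.comap (algebraMap B S)
  have hc : Topology.IsOpenEmbedding c := PrimeSpectrum.localization_away_isOpenEmbedding S t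
  have hrange : Set.range c = (PrimeSpectrum.basicOpen t : Set (PrimeSpectrum B)) :=
    PrimeSpectrum.localization_away_comap_range S t
  have hclopen : IsClopen (c ⁻¹' V₁) := by
    refine ⟨?_, h₁.preimage hc.continuous⟩
    have : (c ⁻¹' V₁)ᶜ = c ⁻¹' V₂ := by
      ext p
      simp only [Set.mem_compl_iff, Set.mem_preimage]
      have hp : c p ∈ V₁ ∪ V₂ := by rw [hu, ← hrange]; exact Set.mem_range_self p
      constructor
      · intro h; exact hp.resolve_left h
      · intro h h'; exact Set.disjoint_left.1 hd h' h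
    rw [← isOpen_compl_iff, this]
    exact h₂.preimage hc.continuous
  obtain ⟨e, he, hDe⟩ := PrimeSpectrum.isClopen_iff.1 hclopen
  obtain ⟨e', he', hee'⟩ := exists_idempotent_lift t ht hrad e he
  have hpre : c ⁻¹' (PrimeSpectrum.basicOpen e' : Set (PrimeSpectrum B)) = c ⁻¹' V₁ := by
    rw [hDe, ← hee']
    exact congrArg (fun U : TopologicalSpace.Opens (PrimeSpectrum S) =>
      (U : Set (PrimeSpectrum S))) (PrimeSpectrum.comap_basicOpen (algebraMap B S) e')
  have hV₁ : V₁ ⊆ (PrimeSpectrum.basicOpen e' : Set (PrimeSpectrum B)) := by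
    intro p hp
    have hpr : p ∈ Set.range c := by rw [hrange, ← hu]; exact Or.inl hp
    obtain ⟨p', rfl⟩ := hpr
    have : p' ∈ c ⁻¹' V₁ := hp
    rw [← hpre] at this
    exact this
  have hV₂ : V₂ ⊆ (PrimeSpectrum.basicOpen (1 - e') : Set (PrimeSpectrum B)) := by
    intro p hp
    have hpr : p ∈ Set.range c := by rw [hrange, ← hu]; exact Or.inr hp
    obtain ⟨p', rfl⟩ := hpr
    have hnot : p' ∉ c ⁻¹' V₁ := fun h' => Set.disjoint_left.1 hd h' hp
    rw [← hpre] at hnot
    rw [PrimeSpectrum.basicOpen_eq_zeroLocus_of_isIdempotentElem _ he'.one_sub, sub_sub_cancel]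
    rw [Set.mem_preimage, SetLike.mem_coe, PrimeSpectrum.mem_basicOpen, not_not] at hnot
    simpa [PrimeSpectrum.mem_zeroLocus] using hnot
  have hcl₁ : IsClosed (PrimeSpectrum.basicOpen e' : Set (PrimeSpectrum B)) :=
    (PrimeSpectrum.isClopen_iff.2 ⟨e', he', rfl⟩).1
  have hcl₂ : IsClosed (PrimeSpectrum.basicOpen (1 - e') : Set (PrimeSpectrum B)) :=
    (PrimeSpectrum.isClopen_iff.2 ⟨1 - e', he'.one_sub, rfl⟩).1
  have hdisj : Disjoint (PrimeSpectrum.basicOpen e' : Set (PrimeSpectrum B))
      (PrimeSpectrum.basicOpen (1 - e') : Set (PrimeSpectrum B)) := by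
    rw [Set.disjoint_left]
    intro p hp hp'
    rw [SetLike.mem_coe, PrimeSpectrum.mem_basicOpen] at hp hp'
    have : e' * (1 - e') = 0 := by rw [mul_sub, mul_one, he'.eq, sub_self]
    have hmem : e' * (1 - e') ∈ p.asIdeal := by rw [this]; exact Ideal.zero_mem _
    rcases p.2.mem_or_mem hmem with h | h
    · exact hp h
    · exact hp' h
  exact hdisj.mono (hcl₁.closure_subset_iff.2 hV₁) (hcl₂.closure_subset_iff.2 hV₂)

end Ring

section Krull

/-- If `t` is a nonzerodivisor and `(t)` is radical then nilpotents lie in every `(t^n)`. -/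
theorem isNilpotent_mem_span_pow {B : Type*} [CommRing B] (t : B)
    (ht : t ∈ nonZeroDivisors B) (hrad : (Ideal.span {t}).IsRadical) :
    ∀ (n : ℕ) (β : B), IsNilpotent β → β ∈ Ideal.span {t ^ n} := by
  intro n
  induction n with
  | zero => intro β _; simp
  | succ n ih =>
    intro β hβ
    obtain ⟨k, hk⟩ := hβ
    have h1 : β ∈ Ideal.span {t} := hrad ⟨k, by rw [hk]; exact Ideal.zero_mem _⟩
    obtain ⟨c, rfl⟩ := Ideal.mem_span_singleton'.1 h1
    have hc : IsNilpotent c := by
      refine ⟨k, ?_⟩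
      rw [mul_pow] at hk
      exact (mem_nonZeroDivisors_iff_right.1 (pow_mem ht k)) _ hk
    obtain ⟨d, hd⟩ := Ideal.mem_span_singleton'.1 (ih c hc)
    rw [Ideal.mem_span_singleton']
    exact ⟨d, by rw [← hd, pow_succ]; ring⟩

/-- Localizations of `B` at primes containing `t` are reduced, if `B` is Noetherian, `t` is a
nonzerodivisor and `(t)` is radical. -/
theorem isReduced_localization_of_mem {B S : Type*} [CommRing B] [CommRing S] [Algebra B S]
    [IsNoetherianRing B] (t : B) (ht : t ∈ nonZeroDivisors B) (hrad : (Ideal.span {t}).IsRadical)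
    (q : Ideal B) [q.IsPrime] [IsLocalization.AtPrime S q] (htq : t ∈ q) :
    _root_.IsReduced S := by
  haveI : IsLocalRing S := IsLocalization.AtPrime.isLocalRing S q
  haveI : IsNoetherianRing S := IsLocalization.isNoetherianRing q.primeCompl S inferInstance
  have hne : Ideal.span {algebraMap B S t} ≠ ⊤ := by
    intro h
    have h1 : algebraMap B S t ∈ IsLocalRing.maximalIdeal S :=
      (IsLocalization.AtPrime.to_map_mem_maximal_iff S q t).2 htq
    have h2 : Ideal.span {algebraMap B S t} ≤ IsLocalRing.maximalIdeal S :=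
      (Ideal.span_singleton_le_iff_mem _).2 h1
    exact (IsLocalRing.maximalIdeal.isMaximal S).ne_top (top_le_iff.1 (h ▸ h2))
  have hK := Ideal.iInf_pow_eq_bot_of_isLocalRing (Ideal.span {algebraMap B S t}) hne
  refine ⟨fun b hb => ?_⟩
  obtain ⟨β, σ, rfl⟩ := IsLocalization.exists_mk'_eq q.primeCompl b
  have hβ : IsNilpotent (algebraMap B S β) := by
    have : algebraMap B S β = IsLocalization.mk' S β σ * algebraMap B S σ := by
      rw [IsLocalization.mk'_spec]
    rw [this]
    exact (Commute.all _ _).isNilpotent_mul_right hb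
  obtain ⟨k, hk⟩ := hβ
  rw [← map_pow, IsLocalization.map_eq_zero_iff q.primeCompl] at hk
  obtain ⟨σ', hσ'⟩ := hk
  have hnil : IsNilpotent ((σ' : B) * β) := by
    refine ⟨k + 1, ?_⟩
    have : ((σ' : B) * β) ^ (k + 1) = (σ' : B) ^ k * β * ((σ' : B) * β ^ k) := by ring
    rw [this, hσ', mul_zero]
  have hmem : algebraMap B S ((σ' : B) * β) ∈ ⨅ i : ℕ, Ideal.span {algebraMap B S t} ^ i := by
    rw [Ideal.mem_iInf]
    intro i
    rw [Ideal.span_singleton_pow, ← map_pow]
    obtain ⟨d, hd⟩ := Ideal.mem_span_singleton'.1 (isNilpotent_mem_span_pow t ht hrad i _ hnil)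
    rw [← hd, map_mul]
    exact Ideal.mul_mem_left _ _ (Ideal.mem_span_singleton_self _)
  rw [hK, Ideal.mem_bot, map_mul] at hmem
  have hu : IsUnit (algebraMap B S (σ' : B)) := IsLocalization.map_units S σ'
  have h0 : algebraMap B S β = 0 := hu.mul_right_eq_zero.1 hmem
  rw [IsLocalization.mk'_eq_zero_iff]
  exact (IsLocalization.map_eq_zero_iff q.primeCompl S β).1 h0

end Krull

section Scheme

/-- If the fibre of `f : X ⟶ Spec R` over the closed point of the local ring `R` is reduced and
`j : Spec B ⟶ X` is an open immersion (over `Spec R`), then `𝔪B` is a radical ideal of `B`. -/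
theorem isRadical_map_maximalIdeal {R : Type u} [CommRing R] [IsLocalRing R] {X : Scheme.{u}}
    (f : X ⟶ Spec (CommRingCat.of R))
    [AlgebraicGeometry.IsReduced (f.fiber (IsLocalRing.closedPoint R))]
    (B : Type u) [CommRing B] [Algebra R B] (j : Spec (CommRingCat.of B) ⟶ X) [IsOpenImmersion j]
    (hj : j ≫ f = Spec.map (CommRingCat.ofHom (algebraMap R B))) :
    (Ideal.map (algebraMap R B) (IsLocalRing.maximalIdeal R)).IsRadical := by
  set s : PrimeSpectrum R := IsLocalRing.closedPoint R with hs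
  set g := (Spec (CommRingCat.of R)).fromSpecResidueField s with hg
  haveI h0 : AlgebraicGeometry.IsReduced (pullback f g) :=
    inferInstanceAs (AlgebraicGeometry.IsReduced (f.fiber (IsLocalRing.closedPoint R)))
  haveI h1 : AlgebraicGeometry.IsReduced (pullback (j ≫ f) g) :=
    isReduced_of_isOpenImmersion
      ((pullbackRightPullbackFstIso f g j).inv ≫ pullback.snd j (pullback.fst f g))
  rw [hj] at h1
  haveI h2 : AlgebraicGeometry.IsReduced
      ((Spec.map (CommRingCat.ofHom (algebraMap R B))).fiber s) := h1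
  let e : (Spec.map (CommRingCat.ofHom (algebraMap R B))).fiber s ≅
      Spec (CommRingCat.of (s.asIdeal.Fiber B)) :=
    Arrow.leftFunc.mapIso (Spec.fiberToSpecResidueFieldIso R B s)
  haveI h3 : AlgebraicGeometry.IsReduced (Spec (CommRingCat.of (s.asIdeal.Fiber B))) :=
    isReduced_of_isOpenImmersion e.inv
  have h4 : _root_.IsReduced (s.asIdeal.Fiber B) := (affine_isReduced_iff _).1 h3
  haveI : (IsLocalRing.maximalIdeal R).IsMaximal := IsLocalRing.maximalIdeal.isMaximal R
  haveI : _root_.IsReduced ((IsLocalRing.maximalIdeal R).ResidueField ⊗[R] B) := h4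
  exact isRadical_map_of_isReduced_fiber (IsLocalRing.maximalIdeal R)

end Scheme

end Groth.Agent.Lib.helper7.DVRFib
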