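import Mathlib
import Groth.Agent.Lib.helper7.DVRFib

/-!
# Variant of `disjoint_closure_of_basicOpen_eq_union` with `D(t)` dense instead of `t` regular
-/

universe u

namespace Groth.Agent.Lib.helper7.DVRFib

/-- If `D(t)` is dense in `Spec B`, `(t)` is radical, and `D(t) = V₁ ⊔ V₂` with `V₁, V₂` open, then the
closures of `V₁`, `V₂` in `Spec B` are disjoint. -/
theorem disjoint_closure_of_basicOpen_eq_union_of_dense {B : Type*} [CommRing B] (t : B)
    (hdense : Dense (PrimeSpectrum.basicOpen t : Set (PrimeSpectrum B)))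
    (hrad : (Ideal.span {t}).IsRadical)
    (V₁ V₂ : Set (PrimeSpectrum B)) (h₁ : IsOpen V₁) (h₂ : IsOpen V₂) (hd : Disjoint V₁ V₂)
    (hu : V₁ ∪ V₂ = (PrimeSpectrum.basicOpen t : Set (PrimeSpectrum B))) :
    Disjoint (closure V₁) (closure V₂) := by
  let T : Ideal B := RingHom.ker (algebraMap B (Localization.Away t))
  have hT : ∀ b : B, b ∈ T ↔ ∃ n : ℕ, t ^ n * b = 0 := by
    intro b
    rw [RingHom.mem_ker, IsLocalization.map_eq_zero_iff (Submonoid.powers t)]
    constructor
    · rintro ⟨⟨_, n, rfl⟩, h⟩; exact ⟨n, h⟩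
    · rintro ⟨n, h⟩; exact ⟨⟨_, n, rfl⟩, h⟩
  -- `T` lies in every prime
  have hTp : ∀ p : PrimeSpectrum B, T ≤ p.asIdeal := by
    intro p
    have h1 : p ∈ closure (PrimeSpectrum.basicOpen t : Set (PrimeSpectrum B)) := hdense p
    rw [← PrimeSpectrum.zeroLocus_vanishingIdeal_eq_closure] at h1
    refine le_trans ?_ ((PrimeSpectrum.mem_zeroLocus _ _).1 h1)
    intro b hb
    rw [PrimeSpectrum.mem_vanishingIdeal]
    intro q hq
    obtain ⟨n, hn⟩ := (hT b).1 hb
    have h2 : t ^ n * b ∈ q.asIdeal := by rw [hn]; exact Ideal.zero_mem _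
    rcases q.2.mem_or_mem h2 with h3 | h3
    · exact absurd (q.2.mem_of_pow_mem n h3) hq
    · exact h3
  have hTt : T ≤ Ideal.span {t} := by
    intro b hb
    apply hrad
    have h2 : b ∈ nilradical B := by
      rw [nilradical_eq_sInf, Ideal.mem_sInf]
      intro p hp
      exact hTp ⟨p, hp⟩ hb
    obtain ⟨n, hn⟩ := h2
    exact ⟨n, by rw [hn]; exact Ideal.zero_mem _⟩
  let q := Ideal.Quotient.mk T
  have hqs : Function.Surjective q := Ideal.Quotient.mk_surjective
  let c : PrimeSpectrum (B ⧸ T) → PrimeSpectrum B := PrimeSpectrum.comap q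
  have hcemb : Topology.IsClosedEmbedding c := PrimeSpectrum.isClosedEmbedding_comap_of_surjective _ q hqs
  have hcsurj : Function.Surjective c := by
    intro p
    have : p ∈ Set.range c := by
      rw [_root_.range_comap_of_surjective _ q hqs, PrimeSpectrum.mem_zeroLocus]
      have : RingHom.ker q = T := Ideal.mk_ker
      rw [this]
      exact hTp p
    exact this
  let e : PrimeSpectrum (B ⧸ T) ≃ₜ PrimeSpectrum B :=
    (Equiv.ofBijective c ⟨hcemb.injective, hcsurj⟩).toHomeomorphOfIsInducing hcemb.isInducing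
  have ht' : q t ∈ nonZeroDivisors (B ⧸ T) := by
    rw [mem_nonZeroDivisors_iff_right]
    intro z hz
    obtain ⟨b, rfl⟩ := hqs z
    rw [← map_mul, Ideal.Quotient.eq_zero_iff_mem, hT] at hz
    obtain ⟨n, hn⟩ := hz
    rw [Ideal.Quotient.eq_zero_iff_mem, hT]
    exact ⟨n + 1, by rw [pow_succ, mul_assoc, ← hn]; ring⟩
  have hrad' : (Ideal.span {q t}).IsRadical := by
    intro z hz
    obtain ⟨b, rfl⟩ := hqs z
    obtain ⟨n, hn⟩ := hz
    rw [Ideal.mem_span_singleton'] at hn
    obtain ⟨w, hw⟩ := hn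
    obtain ⟨w, rfl⟩ := hqs w
    rw [← map_pow, ← map_mul, ← sub_eq_zero, ← map_sub, Ideal.Quotient.eq_zero_iff_mem] at hw
    have h3 : b ^ n ∈ Ideal.span {t} := by
      have h4 := hTt hw
      have h5 : w * t ∈ Ideal.span {t} := Ideal.mul_mem_left _ _ (Ideal.mem_span_singleton_self t)
      have := Ideal.sub_mem _ h5 h4
      simpa using this
    have h6 : b ∈ Ideal.span {t} := hrad ⟨n, h3⟩
    rw [Ideal.mem_span_singleton'] at h6 ⊢
    obtain ⟨v, rfl⟩ := h6
    exact ⟨q v, by rw [map_mul]⟩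
  have hmain := disjoint_closure_of_basicOpen_eq_union (q t) ht' hrad' (c ⁻¹' V₁) (c ⁻¹' V₂)
    (h₁.preimage hcemb.continuous) (h₂.preimage hcemb.continuous)
    (hd.preimage c) (by
      rw [← Set.preimage_union, hu]
      exact congrArg (fun U : TopologicalSpace.Opens (PrimeSpectrum (B ⧸ T)) =>
        (U : Set (PrimeSpectrum (B ⧸ T)))) (PrimeSpectrum.comap_basicOpen q t))
  have hpc : ∀ V : Set (PrimeSpectrum B), closure (c ⁻¹' V) = c ⁻¹' closure V := fun V =>
    (e.preimage_closure V).symm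
  rw [hpc, hpc] at hmain
  rw [Set.disjoint_left] at hmain ⊢
  intro p hp1 hp2
  obtain ⟨p', rfl⟩ := hcsurj p
  exact hmain hp1 hp2

end Groth.Agent.Lib.helper7.DVRFib
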