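import Mathlib
import Groth.Agent.Lib.helper7.DimSch15
import Groth.Agent.Lib.helper7.DimSch8
import Groth.Agent.Lib.helper7.FibDim

/-!
# `m_x O_y = m_y` for a base field extension, when dimensions agree and `κ(x) ⊗ K` is reduced
-/

universe u

open AlgebraicGeometry CategoryTheory Limits IsLocalRing TensorProduct

namespace Groth.Agent.Lib.helper7.DimSch

attribute [local instance] Curv2.resAlgebra

theorem SpecMap_resMap (k : Type u) [Field k] (X : Scheme.{u}) [X.Over (Spec (CommRingCat.of k))]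
    (x : X) :
    Spec.map (CommRingCat.ofHom (Curv2.resMap k X x)) =
      X.fromSpecResidueField x ≫ (X ↘ Spec (CommRingCat.of k)) := by
  obtain ⟨φ, hφ⟩ := Spec.map_surjective
    (X.fromSpecResidueField x ≫ (X ↘ Spec (CommRingCat.of k)))
  rw [← hφ]
  congr 1
  have h3 := Scheme.ΓSpecIso_naturality φ
  rw [hφ, Scheme.Hom.comp_appTop, Category.assoc, fromSpecResidueField_appTop_ΓSpecIso] at h3
  have h4 : φ = (Scheme.ΓSpecIso (CommRingCat.of k)).inv ≫
      (X ↘ Spec (CommRingCat.of k)).appTop ≫ X.Γevaluation x := by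
    rw [h3, Iso.inv_hom_id_assoc]
  rw [h4]
  rfl

/-- A reduced local ring of dimension zero has zero maximal ideal. -/
theorem maximalIdeal_eq_bot_of_isReduced_of_dim_zero (A : Type*) [CommRing A] [IsLocalRing A]
    [IsReduced A] (h : ringKrullDim A = 0) : maximalIdeal A = ⊥ := by
  haveI : Ring.KrullDimLE 0 A := (Ring.krullDimLE_iff).mpr (by rw [h]; rfl)
  rw [eq_bot_iff]
  intro a ha
  have h1 : IsNilpotent a := Ring.KrullDimLE.isNilpotent_iff_mem_maximalIdeal.mpr ha
  exact (Ideal.mem_bot).mpr h1.eq_zero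

/-- For a flat morphism `π : P → X` with reduced fibre over `x`, if `dim O_{P,z} = dim O_{X,π z}`
is finite at a point `z` of the fibre then `m_{π z} O_{P,z} = m_z`. -/
theorem map_maximalIdeal_eq_of_isReduced_fiber {P X : Scheme.{u}} (π : P ⟶ X) [Flat π] (x : X)
    (z₀ : π.fiber x) [IsReduced (π.fiber x)]
    [IsNoetherianRing (P.presheaf.stalk (π.fiberι x z₀))]
    [IsNoetherianRing (X.presheaf.stalk (π (π.fiberι x z₀)))]
    (b : ℕ) (hb : ringKrullDim ↥(P.presheaf.stalk (π.fiberι x z₀)) = b)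
    (hdim : ringKrullDim ↥(X.presheaf.stalk (π (π.fiberι x z₀))) =
      ringKrullDim ↥(P.presheaf.stalk (π.fiberι x z₀))) :
    Ideal.map (π.stalkMap (π.fiberι x z₀)).hom
        (maximalIdeal ↥(X.presheaf.stalk (π (π.fiberι x z₀)))) =
      maximalIdeal ↥(P.presheaf.stalk (π.fiberι x z₀)) := by
  set I := Ideal.map (π.stalkMap (π.fiberι x z₀)).hom
    (maximalIdeal ↥(X.presheaf.stalk (π (π.fiberι x z₀)))) with hI
  -- dimension zero
  have hF := ringKrullDim_stalk_eq_add_quotient_of_flat π (π.fiberι x z₀)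
  rw [hdim, hb] at hF
  have hA0 : ringKrullDim (↥(P.presheaf.stalk (π.fiberι x z₀)) ⧸ I) = 0 := by
    generalize ringKrullDim (↥(P.presheaf.stalk (π.fiberι x z₀)) ⧸ I) = c at hF
    induction c using WithBot.recBotCoe with
    | bot => simp at hF
    | coe c =>
      induction c using ENat.recTopCoe with
      | top =>
        exfalso
        have h3 : ((b : ℕ) : WithBot ℕ∞) + ((⊤ : ℕ∞) : WithBot ℕ∞) = ((⊤ : ℕ∞) : WithBot ℕ∞) := by
          rw [show ((b : ℕ) : WithBot ℕ∞) = (((b : ℕ) : ℕ∞) : WithBot ℕ∞) from rfl,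
            ← WithBot.coe_add, add_top]
        rw [h3] at hF
        have h4 : ((b : ℕ) : ℕ∞) = ⊤ := by exact_mod_cast hF
        exact absurd h4 (ENat.natCast_ne_top b)
      | coe c =>
        have h3 : b = b + c := by exact_mod_cast hF
        have h4 : c = 0 := by omega
        rw [h4]; rfl
  -- local ring structure on the quotient
  have hle : I ≤ maximalIdeal ↥(P.presheaf.stalk (π.fiberι x z₀)) := by
    rw [hI, Ideal.map_le_iff_le_comap]
    intro a ha
    exact map_nonunit (π.stalkMap (π.fiberι x z₀)).hom a ha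
  have hne : I ≠ ⊤ := fun htop =>
    (maximalIdeal.isMaximal _).ne_top (top_le_iff.mp (htop ▸ hle))
  haveI : Nontrivial (↥(P.presheaf.stalk (π.fiberι x z₀)) ⧸ I) :=
    Ideal.Quotient.nontrivial_iff.mpr hne
  haveI : IsLocalRing (↥(P.presheaf.stalk (π.fiberι x z₀)) ⧸ I) :=
    IsLocalRing.of_surjective' (Ideal.Quotient.mk I) Ideal.Quotient.mk_surjective
  have hmaxl : ((maximalIdeal ↥(P.presheaf.stalk (π.fiberι x z₀))).map
      (Ideal.Quotient.mk I)).IsMaximal :=
    Ideal.IsMaximal.map_of_surjective_of_ker_le Ideal.Quotient.mk_surjective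
      (by rw [Ideal.mk_ker]; exact hle)
  have hmeq : (maximalIdeal ↥(P.presheaf.stalk (π.fiberι x z₀))).map (Ideal.Quotient.mk I) =
      maximalIdeal (↥(P.presheaf.stalk (π.fiberι x z₀)) ⧸ I) := IsLocalRing.eq_maximalIdeal hmaxl
  haveI : _root_.IsReduced ((π.fiber x).presheaf.stalk z₀) := inferInstance
  haveI : _root_.IsReduced (↥(P.presheaf.stalk (π.fiberι x z₀)) ⧸ I) :=
    isReduced_of_injective (FibDim.fiberStalkEquiv π x z₀) (FibDim.fiberStalkEquiv π x z₀).injective
  have hm := maximalIdeal_eq_bot_of_isReduced_of_dim_zero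
    (↥(P.presheaf.stalk (π.fiberι x z₀)) ⧸ I) hA0
  rw [← hmeq, Ideal.map_eq_bot_iff_le_ker, Ideal.mk_ker] at hm
  exact le_antisymm hle hm

set_option backward.isDefEq.respectTransparency false in
/-- The fibres of `X_K → X` over points `x` with `κ(x) ⊗[k] K` reduced are reduced schemes. -/
theorem isReduced_fiber_bcFst (k : Type u) [Field k] (X : Scheme.{u})
    [X.Over (Spec (CommRingCat.of k))] (K : Type u) [Field K] [Algebra k K] (x : X)
    (hred : _root_.IsReduced (X.residueField x ⊗[k] K)) :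
    IsReduced ((Curv2.bcFst k X K).fiber x) := by
  have hψ' : X.fromSpecResidueField x ≫ (X ↘ Spec (CommRingCat.of k)) =
      Spec.map (CommRingCat.ofHom (algebraMap k (X.residueField x))) :=
    (SpecMap_resMap k X x).symm
  let e : (Curv2.bcFst k X K).fiber x ≅ Spec (CommRingCat.of (K ⊗[k] X.residueField x)) :=
    pullbackSymmetry _ _ ≪≫ pullbackRightPullbackFstIso (X ↘ Spec (CommRingCat.of k))
      (Spec.map (CommRingCat.ofHom (algebraMap k K))) (X.fromSpecResidueField x) ≪≫
      pullbackSymmetry _ _ ≪≫ pullback.congrHom rfl hψ' ≪≫ pullbackSpecIso k K (X.residueField x)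
  haveI : _root_.IsReduced (K ⊗[k] X.residueField x) :=
    isReduced_of_injective (Algebra.TensorProduct.comm k K (X.residueField x)).toRingEquiv
      (Algebra.TensorProduct.comm k K (X.residueField x)).toRingEquiv.injective
  haveI : IsReduced (Spec (CommRingCat.of (K ⊗[k] X.residueField x))) := inferInstance
  exact isReduced_of_isOpenImmersion e.hom

end Groth.Agent.Lib.helper7.DimSch
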