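import Mathlib

/-!
Helper lemmas (helper7): finite type points of schemes.
A point which is closed in an affine open neighbourhood is a finite type point.
-/

set_option autoImplicit false
universe u
open CategoryTheory CategoryTheory.Limits AlgebraicGeometry TopologicalSpace

namespace Groth.Agent.Lib.helper7.FTPoint

theorem residue_comp_algebraMap_surjective {A S : Type*} [CommRing A] [CommRing S] [Algebra A S]
    [IsLocalRing S] (p : Ideal A) [hp : p.IsMaximal] [IsLocalization.AtPrime S p] :
    Function.Surjective ((IsLocalRing.residue S).comp (algebraMap A S)) := by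
  intro y
  obtain ⟨z, rfl⟩ := IsLocalRing.residue_surjective y
  obtain ⟨⟨a, t⟩, h⟩ := IsLocalization.surj p.primeCompl z
  obtain ⟨b, i, hi, hbi⟩ := hp.exists_inv t.2
  refine ⟨a * b, ?_⟩
  have hi' : IsLocalRing.residue S (algebraMap A S i) = 0 := by
    rw [IsLocalRing.residue_eq_zero_iff]
    exact (IsLocalization.AtPrime.to_map_mem_maximal_iff S p i).mpr hi
  have h1 : IsLocalRing.residue S (algebraMap A S (t : A)) *
      IsLocalRing.residue S (algebraMap A S b) = 1 := by
    have := congrArg (fun x => IsLocalRing.residue S (algebraMap A S x)) hbi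
    simp only [map_add, map_mul, map_one, hi', add_zero] at this
    rw [mul_comm]; exact this
  calc (IsLocalRing.residue S).comp (algebraMap A S) (a * b)
      = IsLocalRing.residue S (algebraMap A S a) * IsLocalRing.residue S (algebraMap A S b) := by
        simp [map_mul]
    _ = IsLocalRing.residue S (z * algebraMap A S (t : A)) *
          IsLocalRing.residue S (algebraMap A S b) := by rw [h]
    _ = IsLocalRing.residue S z * (IsLocalRing.residue S (algebraMap A S (t : A)) *
          IsLocalRing.residue S (algebraMap A S b)) := by rw [map_mul, mul_assoc]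
    _ = IsLocalRing.residue S z := by rw [h1, mul_one]

theorem isMaximal_primeIdealOf_of_isClosed {S : Scheme.{u}} {U : S.Opens} (hU : IsAffineOpen U)
    (x : U) (hcl : IsClosed ({x} : Set U)) : (hU.primeIdealOf x).asIdeal.IsMaximal := by
  rw [← PrimeSpectrum.isClosed_singleton_iff_isMaximal]
  have h2 := hU.isoSpec.hom.homeomorph.isClosedMap _ hcl
  have h3 : (hU.isoSpec.hom.homeomorph '' {x} : Set (PrimeSpectrum Γ(S, U))) =
      {hU.primeIdealOf x} := by
    ext y
    constructor
    · rintro ⟨z, hz, rfl⟩
      have hz' : z = x := hz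
      subst hz'
      rfl
    · intro hy
      have hy' : y = hU.primeIdealOf x := hy
      subst hy'
      exact ⟨x, rfl, rfl⟩
  rw [← h3]
  exact h2

theorem fromSpecResidueField_eq {S : Scheme.{u}} {U : S.Opens} (hU : IsAffineOpen U) (s : S)
    (hs : s ∈ U) :
    S.fromSpecResidueField s =
      Spec.map (S.presheaf.germ U s hs ≫ S.residue s) ≫ hU.fromSpec := by
  rw [Scheme.fromSpecResidueField, ← hU.fromSpecStalk_eq_fromSpecStalk hs,
    IsAffineOpen.fromSpecStalk, Spec.map_comp, Category.assoc]

/-- A point which is closed in an affine open neighbourhood is a finite type point. -/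
theorem locallyOfFiniteType_fromSpecResidueField_of_isClosed (S : Scheme.{u}) (s : S)
    (U : S.Opens) (hU : IsAffineOpen U) (hs : s ∈ U) (hcl : IsClosed ({⟨s, hs⟩} : Set U)) :
    LocallyOfFiniteType (S.fromSpecResidueField s) := by
  haveI hmax : (hU.primeIdealOf ⟨s, hs⟩).asIdeal.IsMaximal :=
    isMaximal_primeIdealOf_of_isClosed hU ⟨s, hs⟩ hcl
  letI : Algebra Γ(S, U) (S.presheaf.stalk s) := (S.presheaf.germ U s hs).hom.toAlgebra
  haveI hloc : IsLocalization.AtPrime (S.presheaf.stalk s) (hU.primeIdealOf ⟨s, hs⟩).asIdeal :=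
    hU.isLocalization_stalk ⟨s, hs⟩
  have hsurj : Function.Surjective (S.presheaf.germ U s hs ≫ S.residue s).hom :=
    residue_comp_algebraMap_surjective (A := Γ(S, U)) (S := S.presheaf.stalk s)
      (hU.primeIdealOf ⟨s, hs⟩).asIdeal
  rw [fromSpecResidueField_eq hU s hs]
  haveI : LocallyOfFiniteType (Spec.map (S.presheaf.germ U s hs ≫ S.residue s)) := by
    rw [HasRingHomProperty.Spec_iff (P := @LocallyOfFiniteType)]
    exact RingHom.FiniteType.of_surjective _ hsurj
  infer_instance

end Groth.Agent.Lib.helper7.FTPoint
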