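import Mathlib
import Groth.Agent.Lib.helper7.FTPoint

/-!
Helper lemmas (helper7): a finite type point is closed in some affine open neighbourhood.
-/

set_option autoImplicit false
universe u
open CategoryTheory CategoryTheory.Limits AlgebraicGeometry TopologicalSpace

namespace Groth.Agent.Lib.helper7.FTPoint

/-- If `φ : A → κ` is of finite type with `κ` a field all of whose elements are fractions of
elements in the image of `φ`, then there is `g ∉ ker φ` such that `ker φ` is the only prime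
containing `ker φ` and not `g`. -/
theorem exists_notMem_forall_prime_eq {A κ : Type*} [CommRing A] [Field κ] (φ : A →+* κ)
    (hφ : φ.FiniteType) (hfrac : ∀ y : κ, ∃ a t : A, φ t ≠ 0 ∧ y * φ t = φ a) :
    ∃ g : A, φ g ≠ 0 ∧ ∀ q : Ideal A, q.IsPrime → RingHom.ker φ ≤ q → g ∉ q →
      q = RingHom.ker φ := by
  classical
  algebraize [φ]
  obtain ⟨s, hs⟩ := (‹Algebra.FiniteType A κ›).out
  choose a t ht hat using hfrac
  let g : A := ∏ x ∈ s, t x
  have hg : φ g ≠ 0 := by
    rw [map_prod]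
    exact Finset.prod_ne_zero_iff.mpr (fun x _ => ht x)
  have key : ∀ y : κ, ∃ (N : ℕ) (b : A), φ g ^ N * y = φ b := by
    intro y
    have hy : y ∈ Algebra.adjoin A (s : Set κ) := by rw [hs]; trivial
    induction hy using Algebra.adjoin_induction with
    | mem x hx =>
      refine ⟨1, (∏ x' ∈ s.erase x, t x') * a x, ?_⟩
      have hgx : g = (∏ x' ∈ s.erase x, t x') * t x := (Finset.prod_erase_mul s t hx).symm
      rw [pow_one, map_mul, ← hat x, hgx, map_mul]
      ring
    | algebraMap r => exact ⟨0, r, by simp; rfl⟩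
    | add y₁ y₂ _ _ h₁ h₂ =>
      obtain ⟨N₁, b₁, h₁⟩ := h₁
      obtain ⟨N₂, b₂, h₂⟩ := h₂
      refine ⟨N₁ + N₂, g ^ N₂ * b₁ + g ^ N₁ * b₂, ?_⟩
      rw [map_add, map_mul, map_mul, map_pow, map_pow, ← h₁, ← h₂, pow_add]
      ring
    | mul y₁ y₂ _ _ h₁ h₂ =>
      obtain ⟨N₁, b₁, h₁⟩ := h₁
      obtain ⟨N₂, b₂, h₂⟩ := h₂
      refine ⟨N₁ + N₂, b₁ * b₂, ?_⟩
      rw [map_mul, ← h₁, ← h₂, pow_add]
      ring
  refine ⟨g, hg, ?_⟩
  intro q hq hker hgq
  refine le_antisymm ?_ hker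
  intro c hc
  rw [RingHom.mem_ker]
  by_contra hc0
  obtain ⟨N, b, hN⟩ := key (φ c)⁻¹
  have h1 : φ (g ^ N) = φ (b * c) := by
    rw [map_pow, map_mul, ← hN, mul_assoc, inv_mul_cancel₀ hc0, mul_one]
  have h2 : g ^ N - b * c ∈ RingHom.ker φ := by
    rw [RingHom.mem_ker, map_sub, h1, sub_self]
  have h3 : g ^ N ∈ q := by
    have := q.add_mem (hker h2) (q.mul_mem_left b hc)
    simpa using this
  exact hgq (hq.mem_of_pow_mem N h3)

/-- A finite type point is closed in some affine open neighbourhood. -/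
theorem exists_isAffineOpen_isClosed_of_locallyOfFiniteType (S : Scheme.{u}) (s : S)
    (h : LocallyOfFiniteType (S.fromSpecResidueField s)) :
    ∃ U : S.Opens, IsAffineOpen U ∧ ∃ hs : s ∈ U, IsClosed ({⟨s, hs⟩} : Set ↥U) := by
  obtain ⟨U, hU, hs, -⟩ := exists_isAffineOpen_mem_and_subset (x := s) (U := ⊤) trivial
  let φ := S.presheaf.germ U s hs ≫ S.residue s
  have hφ : φ.hom.FiniteType := by
    rw [fromSpecResidueField_eq hU s hs] at h
    haveI := h
    haveI : LocallyOfFiniteType (Spec.map φ) := locallyOfFiniteType_of_comp (Spec.map φ) hU.fromSpec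
    exact (HasRingHomProperty.Spec_iff (P := @LocallyOfFiniteType)).mp inferInstance
  letI : Algebra Γ(S, U) (S.presheaf.stalk s) := (S.presheaf.germ U s hs).hom.toAlgebra
  haveI hloc : IsLocalization.AtPrime (S.presheaf.stalk s) (hU.primeIdealOf ⟨s, hs⟩).asIdeal :=
    hU.isLocalization_stalk ⟨s, hs⟩
  let ψ : Γ(S, U) →+* IsLocalRing.ResidueField (S.presheaf.stalk s) :=
    (IsLocalRing.residue (S.presheaf.stalk s)).comp (algebraMap Γ(S, U) (S.presheaf.stalk s))
  have hψ : ψ.FiniteType := hφ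
  have hψapp : ∀ a : Γ(S, U), ψ a =
      IsLocalRing.residue (S.presheaf.stalk s) (algebraMap Γ(S, U) (S.presheaf.stalk s) a) :=
    fun a => rfl
  have hker : RingHom.ker ψ = (hU.primeIdealOf ⟨s, hs⟩).asIdeal := by
    ext a
    rw [RingHom.mem_ker, hψapp, IsLocalRing.residue_eq_zero_iff]
    exact IsLocalization.AtPrime.to_map_mem_maximal_iff (S.presheaf.stalk s)
      (hU.primeIdealOf ⟨s, hs⟩).asIdeal a
  have hfrac : ∀ y : IsLocalRing.ResidueField (S.presheaf.stalk s),
      ∃ a t : Γ(S, U), ψ t ≠ 0 ∧ y * ψ t = ψ a := by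
    intro y
    obtain ⟨z, rfl⟩ := IsLocalRing.residue_surjective y
    obtain ⟨⟨a, t⟩, hat⟩ := IsLocalization.surj (hU.primeIdealOf ⟨s, hs⟩).asIdeal.primeCompl z
    refine ⟨a, t, ?_, ?_⟩
    · intro h0
      have : (t : Γ(S, U)) ∈ RingHom.ker ψ := h0
      rw [hker] at this
      exact t.2 this
    · rw [hψapp, hψapp, ← map_mul, hat]
  obtain ⟨g, hg, hgq⟩ := exists_notMem_forall_prime_eq ψ hψ hfrac
  have hsg : s ∈ S.basicOpen g := by
    rw [Scheme.mem_basicOpen _ _ _ hs]
    by_contra hnu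
    apply hg
    rw [hψapp, IsLocalRing.residue_eq_zero_iff]
    exact hnu
  refine ⟨S.basicOpen g, hU.basicOpen g, hsg, ?_⟩
  rw [← closure_subset_iff_isClosed]
  rintro ⟨y, hyg⟩ hy
  have hsy : s ⤳ y := by
    have : (⟨s, hsg⟩ : S.basicOpen g) ⤳ ⟨y, hyg⟩ := specializes_iff_mem_closure.mpr hy
    exact (subtype_specializes_iff _ _).1 this
  have hyU : y ∈ U := S.basicOpen_le g hyg
  let p := hU.primeIdealOf ⟨s, hs⟩
  let q := hU.primeIdealOf ⟨y, hyU⟩
  have hp : hU.fromSpec p = s := hU.fromSpec_primeIdealOf ⟨s, hs⟩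
  have hq : hU.fromSpec q = y := hU.fromSpec_primeIdealOf ⟨y, hyU⟩
  have hpq : p ⤳ q := by
    refine (hU.fromSpec.isOpenEmbedding.isInducing.specializes_iff (x := p) (y := q)).mp ?_
    rw [hp, hq]
    exact hsy
  have hle : p.asIdeal ≤ q.asIdeal := (PrimeSpectrum.le_iff_specializes p q).mpr hpq
  have hgq' : g ∉ q.asIdeal := by
    have h1 : q ∈ hU.fromSpec ⁻¹ᵁ S.basicOpen g := by
      show hU.fromSpec q ∈ S.basicOpen g
      rw [hq]; exact hyg
    rw [hU.fromSpec_preimage_basicOpen] at h1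
    exact h1
  have heq : q.asIdeal = p.asIdeal := by
    rw [← hker]
    exact hgq q.asIdeal q.isPrime (hker ▸ hle) hgq'
  have hqp : q = p := PrimeSpectrum.ext heq
  have : y = s := by rw [← hq, ← hp, hqp]
  subst this
  rfl

end Groth.Agent.Lib.helper7.FTPoint
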