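import Mathlib
import Groth.Agent.Lib.helper7.DimLift

/-!
# Incomparability for finite morphisms and dimension
-/

set_option autoImplicit false
universe u

open AlgebraicGeometry CategoryTheory TopologicalSpace Set

namespace Groth.Agent.Lib.helper7.FinDim

/-- Incomparability: for a finite morphism, distinct points of a fibre do not specialize to
one another. -/
theorem eq_of_specializes_of_isFinite {X Y : Scheme.{u}} (f : X ⟶ Y) [IsFinite f] {x x' : X}
    (h : x' ⤳ x) (hf : f x' = f x) : x' = x := by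
  obtain ⟨_, ⟨V, hV : IsAffineOpen V, rfl⟩, hyV, -⟩ :=
    Y.isBasis_affineOpens.exists_subset_of_mem_open (Set.mem_univ (f x)) isOpen_univ
  have hU : IsAffineOpen (f ⁻¹ᵁ V) := hV.preimage f
  have hxU : x ∈ f ⁻¹ᵁ V := hyV
  have hx'U : x' ∈ f ⁻¹ᵁ V := by
    show f x' ∈ V
    rw [hf]; exact hyV
  have hfin : (f.appLE V (f ⁻¹ᵁ V) le_rfl).hom.Finite := by
    rw [← Scheme.Hom.app_eq_appLE]
    exact IsFinite.finite_app f V hV
  have hle : hU.primeIdealOf ⟨x', hx'U⟩ ≤ hU.primeIdealOf ⟨x, hxU⟩ := by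
    rw [PrimeSpectrum.le_iff_specializes]
    apply hU.fromSpec.isOpenEmbedding.toIsInducing.specializes_iff.mp
    rw [hU.fromSpec_primeIdealOf, hU.fromSpec_primeIdealOf]
    exact h
  have hc1 := congrArg PrimeSpectrum.asIdeal
    (IsAffineOpen.comap_primeIdealOf_appLE V hV (f ⁻¹ᵁ V) hU le_rfl hxU)
  have hc2 := congrArg PrimeSpectrum.asIdeal
    (IsAffineOpen.comap_primeIdealOf_appLE V hV (f ⁻¹ᵁ V) hU le_rfl hx'U)
  have hc : (hU.primeIdealOf ⟨x', hx'U⟩).asIdeal.comap (f.appLE V (f ⁻¹ᵁ V) le_rfl).hom =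
      (hU.primeIdealOf ⟨x, hxU⟩).asIdeal.comap (f.appLE V (f ⁻¹ᵁ V) le_rfl).hom := by
    rw [show (hU.primeIdealOf ⟨x', hx'U⟩).asIdeal.comap (f.appLE V (f ⁻¹ᵁ V) le_rfl).hom = _
      from hc2, show (hU.primeIdealOf ⟨x, hxU⟩).asIdeal.comap (f.appLE V (f ⁻¹ᵁ V) le_rfl).hom = _
      from hc1]
    congr 2
    exact Subtype.ext hf
  have heq : hU.primeIdealOf ⟨x', hx'U⟩ = hU.primeIdealOf ⟨x, hxU⟩ := by
    by_contra hne
    have hlt : (hU.primeIdealOf ⟨x', hx'U⟩).asIdeal < (hU.primeIdealOf ⟨x, hxU⟩).asIdeal :=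
      lt_of_le_of_ne hle (fun e => hne (PrimeSpectrum.ext e))
    algebraize [(f.appLE V (f ⁻¹ᵁ V) le_rfl).hom]
    have : Algebra.IsIntegral Γ(Y, V) Γ(X, f ⁻¹ᵁ V) := Algebra.IsIntegral.of_finite _ _
    exact (Ideal.IsIntegral.comap_lt_comap (R := Γ(Y, V)) hlt).ne hc
  have h1 := hU.fromSpec_primeIdealOf ⟨x', hx'U⟩
  have h2 := hU.fromSpec_primeIdealOf ⟨x, hxU⟩
  rw [heq] at h1
  exact h1.symm.trans h2

theorem topologicalKrullDim_eq_range_of_isFinite {X Y : Scheme.{u}} (f : X ⟶ Y) [IsFinite f] :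
    topologicalKrullDim X = topologicalKrullDim (Set.range f) := by
  have hclosed : IsClosedMap f := f.isClosedMap
  have hrc : IsClosed (Set.range f) := hclosed.isClosed_range
  have : QuasiSober ↥(Set.range f) := hrc.isClosedEmbedding_subtypeVal.quasiSober
  apply le_antisymm
  · refine DimLift.topologicalKrullDim_le_of_incomparable (Set.rangeFactorization f)
      (f.continuous.subtype_mk _) ?_
    intro x x' h hfx
    exact eq_of_specializes_of_isFinite f h (congrArg Subtype.val hfx)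
  · refine DimLift.topologicalKrullDim_le_of_isClosedMap (Set.rangeFactorization f)
      Set.rangeFactorization_surjective ?_
    intro C hC
    have h1 : IsClosed (f '' C) := hclosed C hC
    have h2 : Set.rangeFactorization f '' C = Subtype.val ⁻¹' (f '' C) := by
      ext ⟨y, hy⟩
      constructor
      · rintro ⟨c, hc, hcy⟩
        exact ⟨c, hc, congrArg Subtype.val hcy⟩
      · rintro ⟨c, hc, hcy⟩
        exact ⟨c, hc, Subtype.ext hcy⟩
    rw [h2]
    exact h1.preimage continuous_subtype_val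

end Groth.Agent.Lib.helper7.FinDim
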