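import Mathlib
import Groth.Agent.Lib.helper9.Semi
import Groth.Agent.Lib.helper19.FinLen

/-!
# Finite length and support: modules of finite length have support in maximal ideals;
support of a localized module; minimal points of the support.
-/

universe u v

namespace Groth.Agent.Lib.helper7.FinLenSupp

open Groth.Agent.Lib.helper9

/-- finite length is transported by semilinear equivalences. -/
theorem SemiEquiv.isFiniteLength {R S M N : Type*} [CommRing R] [CommRing S]
    [AddCommGroup M] [AddCommGroup N] [Module R M] [Module S N] (E : SemiEquiv R S M N)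
    (h : IsFiniteLength R M) : IsFiniteLength S N := by
  letI : Algebra R S := (E.σ : R →+* S).toAlgebra
  letI : Module R N := Module.compHom N (E.σ : R →+* S)
  haveI : IsScalarTower R S N := IsScalarTower.of_algebraMap_smul fun r n => rfl
  let e : M ≃ₗ[R] N := { E.e with map_smul' := fun r m => E.map_smul r m }
  have h2 : IsFiniteLength R N := e.isFiniteLength h
  rw [isFiniteLength_iff_isNoetherian_isArtinian] at h2 ⊢
  exact ⟨isNoetherian_of_tower R h2.1, isArtinian_of_tower R h2.2⟩

/-- the support of a module of finite length consists of maximal ideals. -/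
theorem isMaximal_of_mem_support_of_isFiniteLength {R : Type*} [CommRing R] {M : Type*}
    [AddCommGroup M] [Module R M] (h : IsFiniteLength R M) :
    ∀ p ∈ Module.support R M, p.asIdeal.IsMaximal := by
  induction h with
  | of_subsingleton =>
    intro p hp
    rw [Module.support_eq_empty] at hp
    exact hp.elim
  | @of_simple_quotient M _ _ N hs _ ih =>
    intro p hp
    rw [Module.support_of_exact (f := N.subtype) (g := N.mkQ)
      (LinearMap.exact_subtype_mkQ N) N.injective_subtype N.mkQ_surjective] at hp
    rcases hp with hp | hp
    · exact ih p hp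
    · obtain ⟨I, hI, ⟨e⟩⟩ := isSimpleModule_iff_quot_maximal.1 hs
      rw [e.support_eq] at hp
      have hle : I ≤ p.asIdeal := by
        have := Module.annihilator_le_of_mem_support hp
        rwa [Ideal.annihilator_quotient] at this
      have := hI.eq_of_le p.2.ne_top hle
      rw [← this]
      exact hI

/-- over a Noetherian ring, a finite module has finite length iff its support consists of
maximal ideals. -/
theorem isFiniteLength_iff_support {A : Type u} [CommRing A] [IsNoetherianRing A]
    (N : Type v) [AddCommGroup N] [Module A N] [Module.Finite A N] :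
    IsFiniteLength A N ↔ ∀ p ∈ Module.support A N, p.asIdeal.IsMaximal :=
  ⟨isMaximal_of_mem_support_of_isFiniteLength,
    Groth.Agent.Lib.helper19.FinLen.isFiniteLength_of_support_maximal N⟩

/-- the support of a localized module. -/
theorem mem_support_localizedModule_iff {A : Type*} [CommRing A] (q : Ideal A) [q.IsPrime]
    (M : Type*) [AddCommGroup M] [Module A M]
    (p' : PrimeSpectrum (Localization.AtPrime q)) :
    p' ∈ Module.support (Localization.AtPrime q) (LocalizedModule q.primeCompl M) ↔
      PrimeSpectrum.comap (algebraMap A (Localization.AtPrime q)) p' ∈ Module.support A M := by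
  have hPq : (PrimeSpectrum.comap (algebraMap A (Localization.AtPrime q)) p').asIdeal ≤ q := by
    intro a ha
    by_contra hq
    have hu : IsUnit (algebraMap A (Localization.AtPrime q) a) :=
      IsLocalization.map_units (Localization.AtPrime q) (⟨a, hq⟩ : q.primeCompl)
    exact p'.2.ne_top (Ideal.eq_top_of_isUnit_mem _ ha hu)
  constructor
  · intro h
    have h1 := Module.support_subset_preimage_comap (R := A) (A := Localization.AtPrime q)
      (M := LocalizedModule q.primeCompl M) h
    rw [Set.mem_preimage, Module.mem_support_iff'] at h1
    obtain ⟨m', hm'⟩ := h1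
    rw [Module.mem_support_iff']
    induction m' using LocalizedModule.induction_on with
    | h m s =>
      refine ⟨m, fun r hr h0 => hm' r hr ?_⟩
      rw [LocalizedModule.smul'_mk, h0, LocalizedModule.zero_mk]
  · intro h
    rw [Module.mem_support_iff'] at h ⊢
    obtain ⟨m, hm⟩ := h
    refine ⟨LocalizedModule.mk m 1, fun r' hr' h0 => ?_⟩
    obtain ⟨a, s, rfl⟩ := IsLocalization.exists_mk'_eq q.primeCompl r'
    have ha : a ∉ (PrimeSpectrum.comap (algebraMap A (Localization.AtPrime q)) p').asIdeal := by
      intro ha
      apply hr'
      have : algebraMap A (Localization.AtPrime q) a ∈ p'.asIdeal := ha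
      rw [← IsLocalization.mk'_spec' (Localization.AtPrime q) a s] at this
      rcases p'.2.mem_or_mem this with h1 | h1
      · exact absurd (Ideal.eq_top_of_isUnit_mem _ h1
          (IsLocalization.map_units (Localization.AtPrime q) s)) p'.2.ne_top
      · exact h1
    rw [← Localization.mk_eq_mk', LocalizedModule.mk_smul_mk,
      ← LocalizedModule.zero_mk (1 : q.primeCompl), LocalizedModule.mk_eq] at h0
    obtain ⟨t, ht⟩ := h0
    rw [smul_zero, smul_zero, one_smul] at ht
    have hta : (t : A) * a ∉ (PrimeSpectrum.comap (algebraMap A (Localization.AtPrime q)) p').asIdeal := by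
      intro h1
      rcases (PrimeSpectrum.comap (algebraMap A (Localization.AtPrime q)) p').2.mem_or_mem h1
        with h2 | h2
      · exact t.2 (hPq h2)
      · exact ha h2
    apply hm _ hta
    rw [mul_smul]
    exact ht

/-- `q` is a minimal point of the support of a finite module `M` over a Noetherian ring iff
`M_q` is a nonzero module of finite length over `A_q`. -/
theorem minimal_support_iff {A : Type u} [CommRing A] [IsNoetherianRing A]
    (M : Type v) [AddCommGroup M] [Module A M] [Module.Finite A M] (q : PrimeSpectrum A) :
    (q ∈ Module.support A M ∧ ∀ q' ∈ Module.support A M, q' ≤ q → q' = q) ↔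
      (Nontrivial (LocalizedModule q.asIdeal.primeCompl M) ∧
        IsFiniteLength (Localization.AtPrime q.asIdeal)
          (LocalizedModule q.asIdeal.primeCompl M)) := by
  rw [isFiniteLength_iff_support]
  refine and_congr Iff.rfl ⟨fun h p' hp' => ?_, fun h q' hq' hle => ?_⟩
  · rw [mem_support_localizedModule_iff] at hp'
    have hle : PrimeSpectrum.comap (algebraMap A (Localization.AtPrime q.asIdeal)) p' ≤ q := by
      intro a ha
      by_contra hq
      have hu : IsUnit (algebraMap A (Localization.AtPrime q.asIdeal) a) :=
        IsLocalization.map_units (Localization.AtPrime q.asIdeal) (⟨a, hq⟩ : q.asIdeal.primeCompl)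
      exact p'.2.ne_top (Ideal.eq_top_of_isUnit_mem _ ha hu)
    have h1 := h _ hp' hle
    have h2 : PrimeSpectrum.comap (algebraMap A (Localization.AtPrime q.asIdeal)) p' =
        PrimeSpectrum.comap (algebraMap A (Localization.AtPrime q.asIdeal))
          (IsLocalRing.closedPoint _) := by
      rw [h1]
      ext1
      exact (IsLocalization.AtPrime.under_maximalIdeal (Localization.AtPrime q.asIdeal)
        q.asIdeal).symm
    have h3 := PrimeSpectrum.localization_comap_injective (Localization.AtPrime q.asIdeal)
      q.asIdeal.primeCompl h2
    rw [h3]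
    exact IsLocalRing.maximalIdeal.isMaximal _
  · have hdisj : Disjoint (q.asIdeal.primeCompl : Set A) (q'.asIdeal : Set A) := by
      rw [Set.disjoint_left]
      intro a ha ha'
      exact ha (hle ha')
    let p' : PrimeSpectrum (Localization.AtPrime q.asIdeal) :=
      ⟨Ideal.map (algebraMap A (Localization.AtPrime q.asIdeal)) q'.asIdeal,
        IsLocalization.isPrime_of_isPrime_disjoint q.asIdeal.primeCompl _ _ q'.2 hdisj⟩
    have hcomap : PrimeSpectrum.comap (algebraMap A (Localization.AtPrime q.asIdeal)) p' = q' := by
      ext1
      exact IsLocalization.under_map_of_isPrime_disjoint q.asIdeal.primeCompl _ q'.2 hdisj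
    have hp' : p' ∈ Module.support (Localization.AtPrime q.asIdeal)
        (LocalizedModule q.asIdeal.primeCompl M) := by
      rw [mem_support_localizedModule_iff, hcomap]
      exact hq'
    have hmax := h p' hp'
    have h4 : p'.asIdeal = IsLocalRing.maximalIdeal _ := IsLocalRing.eq_maximalIdeal hmax
    rw [← hcomap]
    ext1
    change Ideal.comap _ p'.asIdeal = _
    rw [h4]
    exact IsLocalization.AtPrime.under_maximalIdeal (Localization.AtPrime q.asIdeal) q.asIdeal

end Groth.Agent.Lib.helper7.FinLenSupp
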