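import Mathlib

/-!
# Finite unramified morphisms with a one-point fibre and trivial residue extension

Ring-level Nakayama arguments and their scheme-level translation: if `f : X ⟶ S` is finite and
formally unramified, `f ⁻¹ {s} = {x}` and `κ(s) → κ(x)` is surjective, then there is an affine open
`V ∋ s` and `r ∈ Γ(S, V)` with `s ∈ D(r)` such that `r • Γ(X, f⁻¹ V) ⊆ image of Γ(S, V)`.
-/

universe u
open CategoryTheory AlgebraicGeometry IsLocalRing

namespace Groth.Agent.Lib.helper7.FinUnr

/-- Nakayama: a finite formally unramified local homomorphism of local rings with surjective residue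
field map is surjective. -/
lemma surjective_algebraMap_of_residue {A B : Type*} [CommRing A] [CommRing B] [IsLocalRing A]
    [IsLocalRing B] [Algebra A B] [IsLocalHom (algebraMap A B)] [Module.Finite A B]
    [Algebra.FormallyUnramified A B]
    (H : Function.Surjective (algebraMap (ResidueField A) (ResidueField B))) :
    Function.Surjective (algebraMap A B) := by
  change Function.Surjective (Algebra.linearMap A B)
  rw [← LinearMap.range_eq_top, ← top_le_iff]
  apply Submodule.le_of_le_smul_of_le_jacobson_bot Module.Finite.fg_top (maximalIdeal_le_jacobson _)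
  rw [Ideal.smul_top_eq_map, Algebra.FormallyUnramified.map_maximalIdeal]
  rintro x -
  obtain ⟨a, ha⟩ := H (residue B x)
  obtain ⟨a, rfl⟩ := residue_surjective a
  have ha' : residue B (algebraMap A B a) = residue B x := ha
  rw [← sub_eq_zero, ← map_sub, residue_eq_zero_iff] at ha'
  rw [← sub_sub_self (algebraMap _ _ a) x]
  exact sub_mem (Submodule.mem_sup_left ⟨_, rfl⟩) (Submodule.mem_sup_right ha')

/-- Spreading out surjectivity of `R_p → S_q` (unique prime `q` over `p`, `S` finite over `R`). -/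
lemma exists_mul_mem_range {R S : Type*} [CommRing R] [CommRing S] [Algebra R S] {p : Ideal R}
    [p.IsPrime] {q : Ideal S} [q.IsPrime] (hq : p.primesOver S = {q}) [Module.Finite R S]
    [q.LiesOver p]
    (H : Function.Surjective (Localization.localRingHom p q (algebraMap R S) (q.over_def p))) :
    ∃ r ∉ p, ∀ x : S, ∃ a : R, algebraMap R S a = x * algebraMap R S r := by
  classical
  obtain ⟨s, hs⟩ := Module.Finite.fg_top (R := R) (M := S)
  have (x : S) : ∃ a, ∃ b ∉ p, algebraMap R S a = x * algebraMap R S b := by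
    have := (IsLocalization.mk'_surjective p.primeCompl).exists.mp (H (algebraMap _ _ x))
    simp only [Localization.localRingHom_mk', Prod.exists, Subtype.exists, Ideal.mem_primeCompl_iff,
      IsLocalization.mk'_eq_iff_eq_mul, exists_prop, ← map_mul,
      IsLocalization.eq_iff_exists q.primeCompl] at this
    obtain ⟨a, b, hbp, c, hcq, hc⟩ := this
    obtain ⟨d, hd, e, he⟩ := Ideal.exists_notMem_dvd_algebraMap_of_primesOver_eq_singleton hq _ hcq
    exact ⟨d * a, d * b, ‹p.IsPrime›.mul_notMem hd hbp, by grind⟩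
  choose a b hbp e using this
  refine ⟨∏ i ∈ s, b i, prod_mem (S := p.primeCompl) fun _ _ ↦ hbp _, ?_⟩
  intro x
  have hx : x ∈ Submodule.span R (s : Set S) := hs ▸ Submodule.mem_top
  induction hx using Submodule.span_induction with
  | mem x hx =>
    refine ⟨a x * ∏ i ∈ s.erase x, b i, ?_⟩
    rw [map_mul, e, ← Finset.mul_prod_erase s b hx, map_mul]
    ring
  | zero => exact ⟨0, by simp⟩
  | add x y _ _ hx hy =>
    obtain ⟨a1, h1⟩ := hx
    obtain ⟨a2, h2⟩ := hy
    exact ⟨a1 + a2, by rw [map_add, h1, h2, add_mul]⟩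
  | smul c x _ hx =>
    obtain ⟨a1, h1⟩ := hx
    exact ⟨c * a1, by rw [map_mul, h1, Algebra.smul_def]; ring⟩

/-- Scheme-level: finite unramified, one-point fibre, trivial residue extension. -/
theorem exists_mul_mem_range_app {X S : Scheme.{u}} (f : X ⟶ S) [IsFinite f]
    [FormallyUnramified f] (x : X) (hx : f ⁻¹' {f x} = {x})
    (hκ : Function.Surjective (f.residueFieldMap x)) :
    ∃ (V : S.Opens) (_ : IsAffineOpen V) (r : Γ(S, V)), f x ∈ S.basicOpen r ∧
      ∀ y : Γ(X, f ⁻¹ᵁ V), ∃ a : Γ(S, V), f.app V a = y * f.app V r := by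
  obtain ⟨_, ⟨V, hV, rfl⟩, hsV, -⟩ :=
    S.isBasis_affineOpens.exists_subset_of_mem_open (Set.mem_univ (f x)) isOpen_univ
  have hW : IsAffineOpen (f ⁻¹ᵁ V) := hV.preimage f
  have hxW : x ∈ f ⁻¹ᵁ V := hsV
  set φ : Γ(S, V) →+* Γ(X, f ⁻¹ᵁ V) := (f.appLE V (f ⁻¹ᵁ V) le_rfl).hom with hφ
  have hfin : φ.Finite := by
    rw [hφ, Scheme.Hom.appLE_eq_app]
    exact IsFinite.finite_app f V hV
  have hunr : φ.FormallyUnramified :=
    HasRingHomProperty.appLE (P := @FormallyUnramified) f inferInstance ⟨V, hV⟩ ⟨_, hW⟩ le_rfl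
  algebraize [φ]
  let pp := hV.primeIdealOf ⟨f x, hsV⟩
  let qq := hW.primeIdealOf ⟨x, hxW⟩
  have hcomap : qq.comap φ = pp := IsAffineOpen.comap_primeIdealOf_appLE V hV _ hW le_rfl hxW
  haveI hlo : qq.asIdeal.LiesOver pp.asIdeal := ⟨(congr_arg PrimeSpectrum.asIdeal hcomap).symm⟩
  have hq : pp.asIdeal.primesOver Γ(X, f ⁻¹ᵁ V) = {qq.asIdeal} := by
    ext q'
    simp only [Ideal.primesOver, Set.mem_setOf_eq, Set.mem_singleton_iff]
    constructor
    · rintro ⟨hq'p, hq'o⟩
      let y' : PrimeSpectrum Γ(X, f ⁻¹ᵁ V) := ⟨q', hq'p⟩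
      have h1 : f (hW.fromSpec y') = hV.fromSpec (Spec.map (f.appLE V (f ⁻¹ᵁ V) le_rfl) y') := by
        rw [← Scheme.Hom.comp_apply, ← Scheme.Hom.comp_apply, IsAffineOpen.SpecMap_appLE_fromSpec]
      have h2 : Spec.map (f.appLE V (f ⁻¹ᵁ V) le_rfl) y' = pp := by
        apply PrimeSpectrum.ext
        exact hq'o.over.symm
      have h3 : hW.fromSpec y' ∈ f ⁻¹' {f x} := by
        rw [Set.mem_preimage, h1, h2, hV.fromSpec_primeIdealOf]
        rfl
      rw [hx, Set.mem_singleton_iff] at h3
      have h4 : y' = qq := by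
        apply hW.fromSpec.isOpenEmbedding.injective
        rw [h3, hW.fromSpec_primeIdealOf]
      exact congr_arg PrimeSpectrum.asIdeal h4
    · rintro rfl
      exact ⟨inferInstance, hlo⟩
  let e := IsAffineOpen.arrowStalkMapIso f V hV (f ⁻¹ᵁ V) hW le_rfl hxW
  letI := Localization.AtPrime.algebraOfLiesOver pp.asIdeal qq.asIdeal
  have hfinloc : Module.Finite (Localization.AtPrime pp.asIdeal)
      (Localization.AtPrime qq.asIdeal) := Localization.finite_of_primesOver_eq_singleton hq
  have hfinloc' : (Localization.localRingHom pp.asIdeal qq.asIdeal φ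
      (congr_arg PrimeSpectrum.asIdeal hcomap).symm).Finite := hfinloc
  haveI := RingHom.toMorphismProperty_respectsIso_iff.mp RingHom.finite_respectsIso
  haveI := RingHom.toMorphismProperty_respectsIso_iff.mp RingHom.surjective_respectsIso
  have hfinst : (f.stalkMap x).hom.Finite :=
    (MorphismProperty.arrow_mk_iso_iff (RingHom.toMorphismProperty RingHom.Finite) e).mpr hfinloc'
  have hsurj : Function.Surjective (f.stalkMap x).hom := by
    algebraize [(f.stalkMap x).hom]
    haveI : IsLocalHom (algebraMap (S.presheaf.stalk (f x)) (X.presheaf.stalk x)) :=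
      inferInstanceAs <| IsLocalHom (f.stalkMap x).hom
    haveI : Algebra.FormallyUnramified (S.presheaf.stalk (f x)) (X.presheaf.stalk x) := by
      rw [← RingHom.formallyUnramified_algebraMap, RingHom.algebraMap_toAlgebra]
      exact FormallyUnramified.stalkMap f x
    apply surjective_algebraMap_of_residue
    intro z
    obtain ⟨w, hw⟩ := hκ z
    refine ⟨w, ?_⟩
    obtain ⟨w, rfl⟩ := residue_surjective w
    exact hw
  have hsurjloc : Function.Surjective (Localization.localRingHom pp.asIdeal qq.asIdeal φ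
      (congr_arg PrimeSpectrum.asIdeal hcomap).symm) :=
    (MorphismProperty.arrow_mk_iso_iff
      (RingHom.toMorphismProperty (fun f => Function.Surjective f)) e).mp hsurj
  obtain ⟨r, hrp, hr⟩ := exists_mul_mem_range hq hsurjloc
  refine ⟨V, hV, r, ?_, ?_⟩
  · have h5 : pp ∈ PrimeSpectrum.basicOpen r := hrp
    rw [← hV.fromSpec_preimage_basicOpen] at h5
    have h6 : hV.fromSpec pp = f x := hV.fromSpec_primeIdealOf ⟨f x, hsV⟩
    rw [← h6]
    exact h5
  · intro y
    obtain ⟨a, ha⟩ := hr y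
    refine ⟨a, ?_⟩
    rw [Scheme.Hom.app_eq_appLE]
    exact ha

/-- If `r • Γ(X, f⁻¹ V)` lies in the image of `Γ(S, V)`, then `f.app D(r)` is surjective. -/
theorem app_basicOpen_surjective {X S : Scheme.{u}} (f : X ⟶ S) [IsAffineHom f] (V : S.Opens)
    (hV : IsAffineOpen V) (r : Γ(S, V))
    (hr : ∀ y : Γ(X, f ⁻¹ᵁ V), ∃ a : Γ(S, V), f.app V a = y * f.app V r) :
    Function.Surjective (f.app (S.basicOpen r)) := by
  have hW : IsAffineOpen (f ⁻¹ᵁ V) := hV.preimage f
  have hle : S.basicOpen r ≤ V := S.basicOpen_le r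
  let i : f ⁻¹ᵁ S.basicOpen r ⟶ f ⁻¹ᵁ V := (TopologicalSpace.Opens.map f.base).map (homOfLE hle)
  have hloc := hW.isLocalization_of_eq_basicOpen (f.app V r) i (Scheme.preimage_basicOpen f r)
  letI := (X.presheaf.map i.op).hom.toAlgebra
  have hnat : ∀ t : Γ(S, V), f.app (S.basicOpen r) (S.presheaf.map (homOfLE hle).op t) =
      X.presheaf.map i.op (f.app V t) := by
    intro t
    have := f.naturality (homOfLE hle).op
    exact congr($this t)
  have hunit : IsUnit (S.presheaf.map (homOfLE hle).op r) :=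
    S.toRingedSpace.isUnit_res_basicOpen r
  obtain ⟨u, hu⟩ := hunit
  intro z
  obtain ⟨⟨y, ⟨_, n, rfl⟩⟩, hy⟩ := IsLocalization.surj (Submonoid.powers (f.app V r)) z
  obtain ⟨a, ha⟩ := hr y
  refine ⟨S.presheaf.map (homOfLE hle).op a * ((u⁻¹ : (Γ(S, S.basicOpen r))ˣ) : Γ(S, S.basicOpen r)) ^ (n + 1), ?_⟩
  have h1 : X.presheaf.map i.op (f.app V r) = f.app (S.basicOpen r) (u : Γ(S, S.basicOpen r)) := by
    rw [hu, hnat]
  have h2 : f.app (S.basicOpen r) (u : Γ(S, S.basicOpen r)) *
      f.app (S.basicOpen r) ((u⁻¹ : (Γ(S, S.basicOpen r))ˣ) : Γ(S, S.basicOpen r)) = 1 := by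
    rw [← map_mul, Units.mul_inv, map_one]
  have hy' : z * (X.presheaf.map i.op (f.app V r)) ^ n = X.presheaf.map i.op y := by
    simpa [RingHom.algebraMap_toAlgebra] using hy
  rw [map_mul, map_pow, hnat, ha, map_mul, ← hy', h1, pow_succ]
  calc z * (f.app (S.basicOpen r)) ↑u ^ n * (f.app (S.basicOpen r)) ↑u *
        ((f.app (S.basicOpen r)) ↑u⁻¹ ^ n * (f.app (S.basicOpen r)) ↑u⁻¹)
      = z * ((f.app (S.basicOpen r)) ↑u * (f.app (S.basicOpen r)) ↑u⁻¹) ^ n *
        ((f.app (S.basicOpen r)) ↑u * (f.app (S.basicOpen r)) ↑u⁻¹) := by ring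
    _ = z := by rw [h2, one_pow, mul_one, mul_one]

/-- Finite unramified with one-point fibre and trivial residue field extension is a closed
immersion near the point. -/
theorem exists_isClosedImmersion_morphismRestrict {X S : Scheme.{u}} (f : X ⟶ S) [IsFinite f]
    [FormallyUnramified f] (x : X) (hx : f ⁻¹' {f x} = {x})
    (hκ : Function.Surjective (f.residueFieldMap x)) :
    ∃ U : S.Opens, f x ∈ U ∧ IsClosedImmersion (f ∣_ U) := by
  obtain ⟨V, hV, r, hxr, hr⟩ := exists_mul_mem_range_app f x hx hκ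
  refine ⟨S.basicOpen r, hxr, ?_⟩
  have hU : IsAffineOpen (S.basicOpen r) := hV.basicOpen r
  haveI : IsAffine (S.basicOpen r).toScheme := hU
  haveI : IsAffine (f ⁻¹ᵁ S.basicOpen r).toScheme := hU.preimage f
  apply IsClosedImmersion.of_surjective_of_isAffine
  have hgen : ∀ U' : S.Opens, U' = S.basicOpen r → Function.Surjective (f.app U') := by
    rintro _ rfl
    exact app_basicOpen_surjective f V hV r hr
  have h1 := hgen ((S.basicOpen r).ι ''ᵁ ⊤) (by simp)
  intro z
  obtain ⟨w, hw⟩ := (ConcreteCategory.bijective_of_isIso (X.presheaf.map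
    (eqToHom (image_morphismRestrict_preimage f (S.basicOpen r) ⊤)).op)).surjective z
  obtain ⟨v, rfl⟩ := h1 w
  refine ⟨v, ?_⟩
  rw [morphismRestrict_appTop]
  exact hw

end Groth.Agent.Lib.helper7.FinUnr
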