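import Mathlib

/-!
# Generic image of a morphism locally of finite type (EGA IV 1.8-type generic statements)

* `exists_ne_zero_forall_exists_comap_eq`: for an injective finite type map of domains `A → C`
  there is `a ≠ 0` with `D(a)` contained in the image of `Spec C → Spec A`.
* `exists_notMem_forall_exists_comap_eq`: variant for a finite type ring map and a prime `q₀`
  lying over the generic point.
* `genericPoint_mem_interior_range`: scheme version.
-/

universe u

open TensorProduct AlgebraicGeometry CategoryTheory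

namespace Groth.Agent.Lib.helper7.GenImg

theorem exists_ne_zero_forall_exists_comap_eq {A C : Type u} [CommRing A] [IsDomain A]
    [CommRing C] [IsDomain C] [Algebra A C] [Algebra.FiniteType A C]
    (hinj : Function.Injective (algebraMap A C)) :
    ∃ a : A, a ≠ 0 ∧ ∀ p : Ideal A, p.IsPrime → a ∉ p →
      ∃ q : Ideal C, q.IsPrime ∧ q.comap (algebraMap A C) = p := by
  classical
  have hnt : Nontrivial (FractionRing A ⊗[A] C) :=
    Algebra.TensorProduct.nontrivial_of_algebraMap_injective_of_isDomain A (FractionRing A) C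
      (IsFractionRing.injective A (FractionRing A)) hinj
  obtain ⟨M, hM⟩ := Ideal.exists_maximal (FractionRing A ⊗[A] C)
  let _ : Field ((FractionRing A ⊗[A] C) ⧸ M) := Ideal.Quotient.field M
  have hft : Algebra.FiniteType (FractionRing A) ((FractionRing A ⊗[A] C) ⧸ M) :=
    Algebra.FiniteType.of_surjective (Ideal.Quotient.mkₐ (FractionRing A) M)
      (Ideal.Quotient.mkₐ_surjective _ M)
  have hfin : Module.Finite (FractionRing A) ((FractionRing A ⊗[A] C) ⧸ M) :=
    finite_of_finite_type_of_isJacobsonRing _ _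
  have halg1 := IsLocalization.isAlgebraic (FractionRing A) (nonZeroDivisors A)
  have halg : Algebra.IsAlgebraic A ((FractionRing A ⊗[A] C) ⧸ M) :=
    Algebra.IsAlgebraic.trans A (FractionRing A) _
  let ψ : C →ₐ[A] ((FractionRing A ⊗[A] C) ⧸ M) :=
    (Ideal.Quotient.mkₐ A M).comp Algebra.TensorProduct.includeRight
  obtain ⟨s, hs⟩ := (Algebra.FiniteType.out : (⊤ : Subalgebra A C).FG)
  obtain ⟨a, ha0, hint⟩ := Algebra.IsAlgebraic.exists_integral_multiples A (s.image ψ)
  have hφinj : Function.Injective (algebraMap A ((FractionRing A ⊗[A] C) ⧸ M)) := by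
    rw [IsScalarTower.algebraMap_eq A (FractionRing A) ((FractionRing A ⊗[A] C) ⧸ M)]
    exact (algebraMap (FractionRing A) ((FractionRing A ⊗[A] C) ⧸ M)).injective.comp
      (IsFractionRing.injective A (FractionRing A))
  refine ⟨a, ha0, fun p hp hap => ?_⟩
  haveI := hp
  have hunits : ∀ y : p.primeCompl,
      IsUnit (algebraMap A ((FractionRing A ⊗[A] C) ⧸ M) y) := fun y =>
    IsUnit.mk0 _ (fun h0 => y.2 (by
      have : (y : A) = 0 := hφinj (by rw [h0, map_zero])
      rw [this]; exact p.zero_mem))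
  let f : Localization.AtPrime p →+* ((FractionRing A ⊗[A] C) ⧸ M) := IsLocalization.lift hunits
  obtain ⟨V, hV, hloc⟩ := IsLocalRing.exists_factor_valuationRing f
  have hf : ∀ x : A, f (algebraMap A (Localization.AtPrime p) x) =
      algebraMap A ((FractionRing A ⊗[A] C) ⧸ M) x :=
    fun x => IsLocalization.lift_eq hunits x
  have hAV : ∀ x : A, algebraMap A ((FractionRing A ⊗[A] C) ⧸ M) x ∈ V.toSubring :=
    fun x => by rw [← hf]; exact hV _
  have hunitV : ∀ x : A, x ∉ p → (algebraMap A ((FractionRing A ⊗[A] C) ⧸ M) x)⁻¹ ∈ V := by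
    intro x hx
    have h1 : IsUnit (algebraMap A (Localization.AtPrime p) x) :=
      IsLocalization.map_units (Localization.AtPrime p) (⟨x, hx⟩ : p.primeCompl)
    have h2 : IsUnit ((f.codRestrict V.toSubring hV) (algebraMap A _ x)) := h1.map _
    obtain ⟨⟨u, hu⟩, hu'⟩ := isUnit_iff_exists_inv.mp h2
    have h3 : f (algebraMap A _ x) * u = 1 := congrArg Subtype.val hu'
    rw [hf] at h3
    rw [inv_eq_of_mul_eq_one_right h3]; exact hu
  have hintV : ∀ z : (FractionRing A ⊗[A] C) ⧸ M, IsIntegral A z → z ∈ V := by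
    intro z hz
    obtain ⟨P, hP, hPz⟩ := hz
    let g : A →+* V.toSubring :=
      (algebraMap A ((FractionRing A ⊗[A] C) ⧸ M)).codRestrict V.toSubring hAV
    haveI : IsFractionRing V.toSubring ((FractionRing A ⊗[A] C) ⧸ M) :=
      inferInstanceAs (IsFractionRing V _)
    have hz' : IsIntegral V.toSubring z := by
      refine ⟨P.map g, hP.map g, ?_⟩
      rw [Polynomial.eval₂_map]
      exact hPz
    obtain ⟨y, hy⟩ := IsIntegrallyClosed.algebraMap_eq_of_integral hz'
    rw [← hy]; exact y.2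
  have hψV : ∀ c : C, ψ c ∈ V.toSubring := by
    have hs' : ∀ c ∈ s, ψ c ∈ V := by
      intro c hc
      have h1 : a • ψ c ∈ V := hintV _ (hint _ (Finset.mem_image_of_mem ψ hc))
      have h2 : ψ c = (algebraMap A ((FractionRing A ⊗[A] C) ⧸ M) a)⁻¹ * (a • ψ c) := by
        rw [Algebra.smul_def, inv_mul_cancel_left₀]
        exact fun h0 => ha0 (hφinj (by rw [h0, map_zero]))
      rw [h2]; exact V.mul_mem _ _ (hunitV a hap) h1
    intro c
    have hc : c ∈ Algebra.adjoin A (s : Set C) := by rw [hs]; trivial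
    induction hc using Algebra.adjoin_induction with
    | mem x hx => exact hs' x hx
    | algebraMap r => rw [AlgHom.commutes]; exact hAV r
    | add x y _ _ hx hy => rw [map_add]; exact V.add_mem _ _ hx hy
    | mul x y _ _ hx hy => rw [map_mul]; exact V.mul_mem _ _ hx hy
  let Ψ : C →+* V.toSubring := (ψ : C →+* _).codRestrict V.toSubring hψV
  haveI : IsLocalRing V.toSubring := V.isLocalRing
  refine ⟨(IsLocalRing.maximalIdeal V.toSubring).comap Ψ, Ideal.comap_isPrime _ _, ?_⟩
  ext x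
  rw [Ideal.mem_comap, Ideal.mem_comap, IsLocalRing.mem_maximalIdeal, mem_nonunits_iff]
  have hΨ : Ψ (algebraMap A C x) = (f.codRestrict V.toSubring hV) (algebraMap A _ x) :=
    Subtype.ext (by
      show ψ (algebraMap A C x) = f (algebraMap A _ x)
      rw [hf, AlgHom.commutes])
  rw [hΨ]
  constructor
  · intro hnu
    by_contra hx
    exact hnu ((IsLocalization.map_units (Localization.AtPrime p) (⟨x, hx⟩ : p.primeCompl)).map _)
  · intro hx hu
    have h1 : IsUnit (algebraMap A (Localization.AtPrime p) x) := hloc.map_nonunit _ hu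
    exact (IsLocalization.AtPrime.isUnit_to_map_iff (Localization.AtPrime p) p x).mp h1 hx

theorem exists_notMem_forall_exists_comap_eq {A' B' : Type u} [CommRing A'] [CommRing B']
    (φ : A' →+* B') (hφ : φ.FiniteType) (q₀ : Ideal B') [q₀.IsPrime]
    (hmin : ∀ p : Ideal A', p.IsPrime → q₀.comap φ ≤ p) :
    ∃ a : A', a ∉ q₀.comap φ ∧ ∀ p : Ideal A', p.IsPrime → a ∉ p →
      ∃ q : Ideal B', q.IsPrime ∧ q.comap φ = p := by
  have hp₀ : (q₀.comap φ).IsPrime := Ideal.comap_isPrime φ q₀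
  let g : A' ⧸ q₀.comap φ →+* B' ⧸ q₀ := Ideal.quotientMap q₀ φ le_rfl
  have hginj : Function.Injective g := Ideal.quotientMap_injective
  have hgcomp : g.comp (Ideal.Quotient.mk (q₀.comap φ)) = (Ideal.Quotient.mk q₀).comp φ :=
    Ideal.quotientMap_comp_mk le_rfl
  have hgft : g.FiniteType := by
    have h1 : (g.comp (Ideal.Quotient.mk (q₀.comap φ))).FiniteType := by
      rw [hgcomp]
      exact (RingHom.FiniteType.of_surjective _ Ideal.Quotient.mk_surjective).comp hφ
    exact RingHom.FiniteType.of_comp_finiteType h1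
  algebraize [g]
  obtain ⟨a, ha0, ha⟩ := exists_ne_zero_forall_exists_comap_eq
    (A := A' ⧸ q₀.comap φ) (C := B' ⧸ q₀) hginj
  obtain ⟨a', rfl⟩ := Ideal.Quotient.mk_surjective a
  refine ⟨a', fun h => ha0 (Ideal.Quotient.eq_zero_iff_mem.mpr h), fun p hp hap => ?_⟩
  have hle : q₀.comap φ ≤ p := hmin p hp
  have hpbar : (p.map (Ideal.Quotient.mk (q₀.comap φ))).IsPrime :=
    Ideal.map_isPrime_of_surjective Ideal.Quotient.mk_surjective (by rwa [Ideal.mk_ker])
  have hcomap : (p.map (Ideal.Quotient.mk (q₀.comap φ))).comap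
      (Ideal.Quotient.mk (q₀.comap φ)) = p := by
    rw [Ideal.comap_map_of_surjective _ Ideal.Quotient.mk_surjective,
      ← RingHom.ker_eq_comap_bot, Ideal.mk_ker, sup_eq_left.mpr hle]
  have hnot : Ideal.Quotient.mk (q₀.comap φ) a' ∉ p.map (Ideal.Quotient.mk (q₀.comap φ)) := by
    intro hmem
    have : a' ∈ (p.map (Ideal.Quotient.mk (q₀.comap φ))).comap
        (Ideal.Quotient.mk (q₀.comap φ)) := hmem
    rw [hcomap] at this
    exact hap this
  obtain ⟨qb, hqb, hqbp⟩ := ha _ hpbar hnot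
  refine ⟨qb.comap (Ideal.Quotient.mk q₀), Ideal.comap_isPrime _ _, ?_⟩
  have hqbp' : qb.comap g = p.map (Ideal.Quotient.mk (q₀.comap φ)) := hqbp
  rw [Ideal.comap_comap, ← hgcomp, ← Ideal.comap_comap, hqbp', hcomap]

theorem genericPoint_mem_interior_range {X Y : Scheme.{u}} (f : X ⟶ Y) [LocallyOfFiniteType f]
    [IrreducibleSpace Y] (h : genericPoint Y ∈ Set.range f) :
    genericPoint Y ∈ interior (Set.range f) := by
  obtain ⟨x, hx⟩ := h
  obtain ⟨_, ⟨U, hU : IsAffineOpen U, rfl⟩, hηU, -⟩ :=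
    Y.isBasis_affineOpens.exists_subset_of_mem_open (Set.mem_univ (genericPoint Y)) isOpen_univ
  have hxU : x ∈ f ⁻¹ᵁ U := by
    show f x ∈ U
    rw [hx]; exact hηU
  obtain ⟨_, ⟨V, hV : IsAffineOpen V, rfl⟩, hxV, hVU⟩ :=
    X.isBasis_affineOpens.exists_subset_of_mem_open hxU (f ⁻¹ᵁ U).2
  have hφ : (f.appLE U V hVU).hom.FiniteType := LocallyOfFiniteType.finiteType_appLE f hU hV hVU
  have hcomap : (hV.primeIdealOf ⟨x, hxV⟩).asIdeal.comap (f.appLE U V hVU).hom =
      (hU.primeIdealOf ⟨f x, hVU hxV⟩).asIdeal :=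
    congrArg PrimeSpectrum.asIdeal (IsAffineOpen.comap_primeIdealOf_appLE U hU V hV hVU hxV)
  have hmin : ∀ p : Ideal Γ(Y, U), p.IsPrime →
      (hV.primeIdealOf ⟨x, hxV⟩).asIdeal.comap (f.appLE U V hVU).hom ≤ p := by
    intro p hp
    rw [hcomap]
    have h1 : hU.fromSpec (hU.primeIdealOf ⟨f x, hVU hxV⟩) ⤳ hU.fromSpec ⟨p, hp⟩ := by
      rw [hU.fromSpec_primeIdealOf]
      show f x ⤳ _
      rw [hx]
      exact (genericPoint_spec Y).specializes (Set.mem_univ _)
    have h2 := hU.fromSpec.isOpenEmbedding.toIsInducing.specializes_iff.mp h1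
    exact (PrimeSpectrum.le_iff_specializes _ ⟨p, hp⟩).mpr h2
  obtain ⟨a, ha0, ha⟩ := exists_notMem_forall_exists_comap_eq (f.appLE U V hVU).hom hφ
    (hV.primeIdealOf ⟨x, hxV⟩).asIdeal hmin
  rw [mem_interior]
  refine ⟨hU.fromSpec '' (PrimeSpectrum.basicOpen a : Set (PrimeSpectrum Γ(Y, U))), ?_,
    hU.fromSpec.isOpenEmbedding.isOpenMap _ (PrimeSpectrum.basicOpen a).2, ?_⟩
  · rintro _ ⟨p, hp, rfl⟩
    obtain ⟨q, hq, hqp⟩ := ha p.asIdeal p.2 hp
    refine ⟨hV.fromSpec ⟨q, hq⟩, ?_⟩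
    have h1 := IsAffineOpen.SpecMap_appLE_fromSpec f hU hV hVU
    have h2 : (hV.fromSpec ≫ f) ⟨q, hq⟩ = (Spec.map (f.appLE U V hVU) ≫ hU.fromSpec) ⟨q, hq⟩ := by
      rw [h1]
    rw [Scheme.Hom.comp_apply, Scheme.Hom.comp_apply] at h2
    rw [h2]
    congr 1
    exact PrimeSpectrum.ext hqp
  · refine ⟨hU.primeIdealOf ⟨f x, hVU hxV⟩, ?_, ?_⟩
    · show a ∉ (hU.primeIdealOf ⟨f x, hVU hxV⟩).asIdeal
      rw [← hcomap]; exact ha0
    · rw [hU.fromSpec_primeIdealOf]; exact hx

end Groth.Agent.Lib.helper7.GenImg
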