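import Mathlib

/-!
# Descent of `geometrically P` along a surjective base change
-/

universe u

open CategoryTheory CategoryTheory.Limits AlgebraicGeometry

namespace Groth.Agent.Lib.helper7.GeomDesc

/-- If `P` descends along surjective morphisms, then `geometrically P` descends along
surjective base change. -/
theorem geometrically_of_pullback_snd {P : ObjectProperty Scheme.{u}}
    (hP : ∀ {Z Z' : Scheme.{u}} (p : Z' ⟶ Z), Surjective p → P Z' → P Z)
    {X Y Y' : Scheme.{u}} (f : X ⟶ Y) (g : Y' ⟶ Y) [Surjective g]
    (h : geometrically P (pullback.snd f g)) : geometrically P f := by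
  intro K _ y Z fst snd hpb
  obtain ⟨pt⟩ : Nonempty ↥(Spec (.of K)) := inferInstance
  obtain ⟨y', hy'⟩ := g.surjective (y pt)
  obtain ⟨w, hw1, hw2⟩ := Scheme.Pullback.exists_preimage_pullback pt y' hy'.symm
  let W := pullback y g
  let a : Spec (.of ↑(W.residueField w)) ⟶ Spec (.of K) :=
    W.fromSpecResidueField w ≫ pullback.fst y g
  let b : Spec (.of ↑(W.residueField w)) ⟶ Y' := W.fromSpecResidueField w ≫ pullback.snd y g
  have hab : a ≫ y = b ≫ g := by
    simp only [a, b, Category.assoc, pullback.condition]
  have hsub : Subsingleton ↥(Spec (.of K)) := inferInstance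
  have hasurj : Surjective a := ⟨fun z => ⟨Nonempty.some inferInstance, Subsingleton.elim _ _⟩⟩
  have hp1 : Surjective (pullback.fst snd a) := inferInstance
  have hbig : IsPullback (pullback.fst snd a ≫ fst) (pullback.snd snd a) f (a ≫ y) :=
    (IsPullback.of_hasPullback snd a).paste_horiz hpb
  rw [hab] at hbig
  let q : pullback snd a ⟶ pullback f g :=
    pullback.lift (pullback.fst snd a ≫ fst) (pullback.snd snd a ≫ b)
      (by rw [Category.assoc, Category.assoc, hpb.w, ← hab, pullback.condition_assoc])
  have hq1 : q ≫ pullback.fst f g = pullback.fst snd a ≫ fst := pullback.lift_fst _ _ _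
  have hq2 : q ≫ pullback.snd f g = pullback.snd snd a ≫ b := pullback.lift_snd _ _ _
  have hleft : IsPullback q (pullback.snd snd a) (pullback.snd f g) b := by
    refine IsPullback.of_right ?_ hq2 (IsPullback.of_hasPullback f g)
    rw [hq1]; exact hbig
  exact hP (pullback.fst snd a) hp1 (h b q (pullback.snd snd a) hleft)

/-- Variant: `P` only needs to descend along flat surjective morphisms. -/
theorem geometrically_of_pullback_snd' {P : ObjectProperty Scheme.{u}}
    (hP : ∀ {Z Z' : Scheme.{u}} (p : Z' ⟶ Z), Surjective p → Flat p → P Z' → P Z)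
    {X Y Y' : Scheme.{u}} (f : X ⟶ Y) (g : Y' ⟶ Y) [Surjective g]
    (h : geometrically P (pullback.snd f g)) : geometrically P f := by
  intro K _ y Z fst snd hpb
  obtain ⟨pt⟩ : Nonempty ↥(Spec (.of K)) := inferInstance
  obtain ⟨y', hy'⟩ := g.surjective (y pt)
  obtain ⟨w, hw1, hw2⟩ := Scheme.Pullback.exists_preimage_pullback pt y' hy'.symm
  let W := pullback y g
  let a : Spec (.of ↑(W.residueField w)) ⟶ Spec (.of K) :=
    W.fromSpecResidueField w ≫ pullback.fst y g
  let b : Spec (.of ↑(W.residueField w)) ⟶ Y' := W.fromSpecResidueField w ≫ pullback.snd y g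
  have hab : a ≫ y = b ≫ g := by
    simp only [a, b, Category.assoc, pullback.condition]
  have hsub : Subsingleton ↥(Spec (.of K)) := inferInstance
  have hasurj : Surjective a := ⟨fun z => ⟨Nonempty.some inferInstance, Subsingleton.elim _ _⟩⟩
  have haflat : Flat a := inferInstance
  have hp1 : Surjective (pullback.fst snd a) := inferInstance
  have hp1' : Flat (pullback.fst snd a) := inferInstance
  have hbig : IsPullback (pullback.fst snd a ≫ fst) (pullback.snd snd a) f (a ≫ y) :=
    (IsPullback.of_hasPullback snd a).paste_horiz hpb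
  rw [hab] at hbig
  let q : pullback snd a ⟶ pullback f g :=
    pullback.lift (pullback.fst snd a ≫ fst) (pullback.snd snd a ≫ b)
      (by rw [Category.assoc, Category.assoc, hpb.w, ← hab, pullback.condition_assoc])
  have hq1 : q ≫ pullback.fst f g = pullback.fst snd a ≫ fst := pullback.lift_fst _ _ _
  have hq2 : q ≫ pullback.snd f g = pullback.snd snd a ≫ b := pullback.lift_snd _ _ _
  have hleft : IsPullback q (pullback.snd snd a) (pullback.snd f g) b := by
    refine IsPullback.of_right ?_ hq2 (IsPullback.of_hasPullback f g)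
    rw [hq1]; exact hbig
  exact hP (pullback.fst snd a) hp1 hp1' (h b q (pullback.snd snd a) hleft)

theorem isReduced_of_flat_of_surjective {Z Z' : Scheme.{u}} (p : Z' ⟶ Z) [Flat p] [Surjective p]
    [IsReduced Z'] : IsReduced Z := by
  refine @isReduced_of_isReduced_stalk Z (fun z => ?_)
  obtain ⟨z', rfl⟩ := p.surjective z
  have hflat : (p.stalkMap z').hom.Flat := Flat.stalkMap p z'
  algebraize [(p.stalkMap z').hom]
  have : IsLocalHom (algebraMap (Z.presheaf.stalk (p z')) (Z'.presheaf.stalk z')) :=
    inferInstanceAs (IsLocalHom (p.stalkMap z').hom)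
  have : Module.FaithfullyFlat (Z.presheaf.stalk (p z')) (Z'.presheaf.stalk z') :=
    Module.FaithfullyFlat.of_flat_of_isLocalHom
  have hinj : Function.Injective (algebraMap (Z.presheaf.stalk (p z')) (Z'.presheaf.stalk z')) :=
    FaithfulSMul.algebraMap_injective _ _
  exact isReduced_of_injective (algebraMap _ _) hinj

theorem irreducibleSpace_of_surjective {Z Z' : Scheme.{u}} (p : Z' ⟶ Z) [Surjective p]
    [IrreducibleSpace ↥Z'] : IrreducibleSpace ↥Z := by
  have h1 : IsIrreducible (p '' Set.univ) :=
    (IrreducibleSpace.isIrreducible_univ ↥Z').image p p.continuous.continuousOn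
  rw [Set.image_univ_of_surjective p.surjective] at h1
  exact (irreducibleSpace_def ↥Z).mpr h1

theorem isIntegral_of_flat_of_surjective {Z Z' : Scheme.{u}} (p : Z' ⟶ Z) [Flat p] [Surjective p]
    [IsIntegral Z'] : IsIntegral Z := by
  have := isReduced_of_flat_of_surjective p
  have := irreducibleSpace_of_surjective p
  exact isIntegral_of_irreducibleSpace_of_isReduced Z

/-- `Spec K ⟶ Spec k` is surjective for a field extension. -/
theorem surjective_SpecMap_of_field {k : Type u} [Field k] {Y : Scheme.{u}} [Nonempty ↥Y]
    (g : Y ⟶ Spec (CommRingCat.of k)) : Surjective g :=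
  ⟨fun z => ⟨Nonempty.some inferInstance, Subsingleton.elim _ _⟩⟩

end Groth.Agent.Lib.helper7.GeomDesc
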