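import Mathlib

/-! Helper lemmas on ℕ-graded rings (helper7). -/

namespace Groth.Agent.Lib.helper7

universe u

open DirectSum

section

variable {R A : Type u} [CommRing R] [CommRing A] [Algebra R A] (𝒜 : ℕ → Submodule R A)
  [GradedAlgebra 𝒜]

theorem span_le_irrelevant (E : Set A) (hE : ∀ e ∈ E, ∃ d : ℕ, 0 < d ∧ e ∈ 𝒜 d) :
    Ideal.span E ≤ (HomogeneousIdeal.irrelevant 𝒜).toIdeal := by
  rw [Ideal.span_le]
  intro e he
  obtain ⟨d, hd, hed⟩ := hE e he
  exact HomogeneousIdeal.mem_irrelevant_of_mem 𝒜 hd hed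

theorem mem_adjoin_of_irrelevant_eq_span (E : Set A) (hE : ∀ e ∈ E, ∃ d : ℕ, 0 < d ∧ e ∈ 𝒜 d)
    (h : (HomogeneousIdeal.irrelevant 𝒜).toIdeal = Ideal.span E) :
    ∀ (n : ℕ) (x : A), x ∈ 𝒜 n → x ∈ Algebra.adjoin (𝒜 0) E := by
  classical
  intro n
  induction n using Nat.strong_induction_on with
  | _ n ih =>
    intro x hx
    rcases Nat.eq_zero_or_pos n with rfl | hn
    · exact Subalgebra.algebraMap_mem (Algebra.adjoin (𝒜 0) E) (⟨x, hx⟩ : 𝒜 0)
    · have hxirr : x ∈ (HomogeneousIdeal.irrelevant 𝒜).toIdeal :=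
        HomogeneousIdeal.mem_irrelevant_of_mem 𝒜 hn hx
      rw [h, Ideal.span, Submodule.mem_span_set'] at hxirr
      obtain ⟨k, c, g, hsum⟩ := hxirr
      have hx2 : x = ((decompose 𝒜 x n : 𝒜 n) : A) := by
        rw [decompose_of_mem_same 𝒜 hx]
      rw [hx2, ← hsum, decompose_sum]
      rw [DFinsupp.finsetSum_apply, AddSubmonoidClass.coe_finsetSum]
      refine Subalgebra.sum_mem _ fun i _ => ?_
      obtain ⟨d, hd, hgd⟩ := hE (g i) (g i).2
      rw [smul_eq_mul]
      by_cases hdn : d ≤ n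
      · rw [coe_decompose_mul_of_right_mem_of_le 𝒜 hgd hdn]
        refine Subalgebra.mul_mem _ ?_ (Algebra.subset_adjoin (g i).2)
        exact ih (n - d) (by omega) _ (SetLike.coe_mem _)
      · rw [coe_decompose_mul_of_right_mem_of_not_le 𝒜 hgd hdn]
        exact Subalgebra.zero_mem _

theorem irrelevant_eq_span_iff_adjoin_eq_top (E : Set A)
    (hE : ∀ e ∈ E, ∃ d : ℕ, 0 < d ∧ e ∈ 𝒜 d) :
    (HomogeneousIdeal.irrelevant 𝒜).toIdeal = Ideal.span E ↔ Algebra.adjoin (𝒜 0) E = ⊤ := by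
  classical
  constructor
  · intro h
    rw [eq_top_iff]
    intro x _
    rw [← DirectSum.sum_support_decompose 𝒜 x]
    exact Subalgebra.sum_mem _ fun n _ =>
      mem_adjoin_of_irrelevant_eq_span 𝒜 E hE h n _ (SetLike.coe_mem _)
  · intro h
    apply le_antisymm _ (span_le_irrelevant 𝒜 E hE)
    have key : ∀ y ∈ Algebra.adjoin (𝒜 0) E, ∃ a ∈ 𝒜 0, y - a ∈ Ideal.span E := by
      intro y hy
      induction hy using Algebra.adjoin_induction with
      | mem e he => exact ⟨0, zero_mem _, by simpa using Ideal.subset_span he⟩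
      | algebraMap r => exact ⟨r, r.2, by simp⟩
      | add y y' _ _ hy hy' =>
        obtain ⟨a, ha, hya⟩ := hy
        obtain ⟨a', ha', hya'⟩ := hy'
        refine ⟨a + a', add_mem ha ha', ?_⟩
        have : y + y' - (a + a') = (y - a) + (y' - a') := by ring
        rw [this]; exact add_mem hya hya'
      | mul y y' _ _ hy hy' =>
        obtain ⟨a, ha, hya⟩ := hy
        obtain ⟨a', ha', hya'⟩ := hy'
        refine ⟨a * a', ?_, ?_⟩
        · have := SetLike.GradedMul.mul_mem (A := 𝒜) ha ha'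
          simpa using this
        · have : y * y' - a * a' = y * (y' - a') + a' * (y - a) := by ring
          rw [this]
          exact add_mem (Ideal.mul_mem_left _ _ hya') (Ideal.mul_mem_left _ _ hya)
    intro x hx
    obtain ⟨a, ha, hxa⟩ := key x (by rw [h]; trivial)
    have ha_irr : a ∈ (HomogeneousIdeal.irrelevant 𝒜).toIdeal := by
      have h1 := span_le_irrelevant 𝒜 E hE hxa
      have : a = x - (x - a) := by ring
      rw [this]
      exact sub_mem hx h1
    have ha0 : a = 0 := by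
      have h2 : GradedRing.proj 𝒜 0 a = 0 := ha_irr
      rw [GradedRing.proj_apply, decompose_of_mem_same 𝒜 ha] at h2
      exact h2
    rw [ha0, sub_zero] at hxa
    exact hxa

theorem irrelevant_fg_iff_finiteType :
    (HomogeneousIdeal.irrelevant 𝒜).toIdeal.FG ↔ Algebra.FiniteType (𝒜 0) A := by
  classical
  constructor
  · rintro ⟨s, hs⟩
    let E : Finset A := s.biUnion (fun x => (decompose 𝒜 x).support.image
      (fun n => ((decompose 𝒜 x n : 𝒜 n) : A)))
    have hsirr : ∀ x ∈ s, x ∈ (HomogeneousIdeal.irrelevant 𝒜).toIdeal := by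
      intro x hx; rw [← hs]; exact Ideal.subset_span hx
    have hE : ∀ e ∈ (E : Set A), ∃ d : ℕ, 0 < d ∧ e ∈ 𝒜 d := by
      intro e he
      simp only [E, Finset.coe_biUnion, Finset.coe_image, Set.mem_iUnion, Set.mem_image,
        Finset.mem_coe] at he
      obtain ⟨x, hx, n, _, rfl⟩ := he
      rcases Nat.eq_zero_or_pos n with rfl | hn
      · refine ⟨1, one_pos, ?_⟩
        have h2 : GradedRing.proj 𝒜 0 x = 0 := hsirr x hx
        rw [GradedRing.proj_apply] at h2
        rw [h2]; exact zero_mem _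
      · exact ⟨n, hn, SetLike.coe_mem _⟩
    have hspan : (HomogeneousIdeal.irrelevant 𝒜).toIdeal = Ideal.span (E : Set A) := by
      apply le_antisymm _ (span_le_irrelevant 𝒜 _ hE)
      rw [← hs, Ideal.span_le]
      intro x hx
      rw [← DirectSum.sum_support_decompose 𝒜 x]
      refine Ideal.sum_mem _ fun n hn => Ideal.subset_span ?_
      simp only [E, Finset.coe_biUnion, Finset.coe_image, Set.mem_iUnion, Set.mem_image,
        Finset.mem_coe]
      exact ⟨x, hx, n, hn, rfl⟩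
    exact ⟨⟨E, (irrelevant_eq_span_iff_adjoin_eq_top 𝒜 _ hE).mp hspan⟩⟩
  · intro hft
    obtain ⟨s, hs, hhom⟩ := GradedAlgebra.exists_finset_adjoin_eq_top_and_homogeneous_ne_zero 𝒜
    have hE : ∀ e ∈ (s : Set A), ∃ d : ℕ, 0 < d ∧ e ∈ 𝒜 d := by
      intro e he
      obtain ⟨n, hn, hen⟩ := hhom e he
      exact ⟨n, Nat.pos_of_ne_zero hn, hen⟩
    exact ⟨s, ((irrelevant_eq_span_iff_adjoin_eq_top 𝒜 _ hE).mpr hs).symm⟩

theorem isNoetherianRing_iff :
    IsNoetherianRing A ↔ IsNoetherianRing (𝒜 0) ∧ Algebra.FiniteType (𝒜 0) A := by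
  constructor
  · intro h
    refine ⟨inferInstance, (irrelevant_fg_iff_finiteType 𝒜).mp ?_⟩
    exact (isNoetherianRing_iff_ideal_fg A).mp h _
  · rintro ⟨h0, hft⟩
    exact Algebra.FiniteType.isNoetherianRing (𝒜 0) A

theorem away_isNoetherianRing [IsNoetherianRing A] {d : ℕ} (f : A) (hf : f ∈ 𝒜 d) :
    IsNoetherianRing (HomogeneousLocalization.Away 𝒜 f) := by
  obtain ⟨h0, hft⟩ := (isNoetherianRing_iff 𝒜).mp inferInstance
  have := HomogeneousLocalization.Away.finiteType (𝒜 := 𝒜) f d hf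
  exact Algebra.FiniteType.isNoetherianRing (𝒜 0) _

theorem degree_le_irrelevant_pow [Algebra.FiniteType (𝒜 0) A] (n : ℕ) (hn : 0 < n) :
    ∃ m₀ : ℕ, ∀ m : ℕ, m₀ ≤ m →
      (𝒜 m : Set A) ⊆ ((HomogeneousIdeal.irrelevant 𝒜).toIdeal ^ n : Ideal A) := by
  classical
  obtain ⟨s, hs, hhom⟩ := GradedAlgebra.exists_finset_adjoin_eq_top_and_homogeneous_ne_zero 𝒜
  have hE : ∀ e ∈ (s : Set A), ∃ d : ℕ, 0 < d ∧ e ∈ 𝒜 d := by
    intro e he
    obtain ⟨n, hn, hen⟩ := hhom e he
    exact ⟨n, Nat.pos_of_ne_zero hn, hen⟩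
  have hspan := (irrelevant_eq_span_iff_adjoin_eq_top 𝒜 _ hE).mpr hs
  choose! deg hdeg using hE
  induction n, hn using Nat.le_induction with
  | base =>
    refine ⟨1, fun m hm x hx => ?_⟩
    rw [pow_one]
    exact HomogeneousIdeal.mem_irrelevant_of_mem 𝒜 (by omega) hx
  | succ n hn ih =>
    obtain ⟨m₀, hm₀⟩ := ih
    refine ⟨m₀ + s.sup deg + 1, fun m hm x hx => ?_⟩
    have hxirr : x ∈ (HomogeneousIdeal.irrelevant 𝒜).toIdeal :=
      HomogeneousIdeal.mem_irrelevant_of_mem 𝒜 (by omega) hx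
    rw [hspan, Ideal.span, Submodule.mem_span_set'] at hxirr
    obtain ⟨k, c, g, hsum⟩ := hxirr
    have hx2 : x = ((decompose 𝒜 x m : 𝒜 m) : A) := by
      rw [decompose_of_mem_same 𝒜 hx]
    rw [SetLike.mem_coe, hx2, ← hsum, decompose_sum]
    rw [DFinsupp.finsetSum_apply, AddSubmonoidClass.coe_finsetSum]
    refine Ideal.sum_mem _ fun i _ => ?_
    obtain ⟨hd, hgd⟩ := hdeg (g i) (g i).2
    have hdle : deg (g i) ≤ s.sup deg := Finset.le_sup (f := deg) (g i).2
    rw [smul_eq_mul]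
    have hdn : deg (g i) ≤ m := by omega
    rw [coe_decompose_mul_of_right_mem_of_le 𝒜 hgd hdn, pow_succ]
    refine Ideal.mul_mem_mul ?_ ?_
    · exact hm₀ (m - deg (g i)) (by omega) (SetLike.coe_mem _)
    · rw [hspan]; exact Ideal.subset_span (g i).2

theorem graded_pow_le (h : ℕ) (m : ℕ) : (𝒜 h : Submodule R A) ^ m ≤ 𝒜 (m * h) := by
  induction m with
  | zero =>
    rw [pow_zero, Submodule.one_le, zero_mul]
    exact SetLike.GradedOne.one_mem
  | succ m ih =>
    rw [pow_succ, Submodule.mul_le]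
    intro a ha b hb
    have := SetLike.GradedMul.mul_mem (A := 𝒜) (ih ha) hb
    rwa [show m * h + h = (m + 1) * h by ring] at this

theorem graded_mul_le (i j : ℕ) : (𝒜 i : Submodule R A) * 𝒜 j ≤ 𝒜 (i + j) := by
  rw [Submodule.mul_le]
  intro a ha b hb
  exact SetLike.GradedMul.mul_mem (A := 𝒜) ha hb

/-- homogeneous decomposition with respect to the ideal generated by `𝒜 q`. -/
theorem mem_mul_of_mem_span_degree {q n : ℕ} (hqn : q ≤ n) {x : A} (hx : x ∈ 𝒜 n)
    (hxJ : x ∈ Ideal.span (𝒜 q : Set A)) : x ∈ (𝒜 q : Submodule R A) * 𝒜 (n - q) := by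
  classical
  rw [Ideal.span, Submodule.mem_span_set'] at hxJ
  obtain ⟨k, c, g, hsum⟩ := hxJ
  have hx2 : x = ((decompose 𝒜 x n : 𝒜 n) : A) := by
    rw [decompose_of_mem_same 𝒜 hx]
  rw [hx2, ← hsum, decompose_sum]
  rw [DFinsupp.finsetSum_apply, AddSubmonoidClass.coe_finsetSum]
  refine Submodule.sum_mem _ fun i _ => ?_
  rw [smul_eq_mul, coe_decompose_mul_of_right_mem_of_le 𝒜 (g i).2 hqn]
  have h := Submodule.mul_mem_mul (M := (𝒜 q : Submodule R A)) (N := 𝒜 (n - q)) (g i).2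
    (SetLike.coe_mem (decompose 𝒜 (c i) (n - q)))
  rw [mul_comm ((g i : A))] at h
  exact h

theorem exists_degree_eq_mul [Algebra.FiniteType (𝒜 0) A] :
    ∃ q M : ℕ, 0 < q ∧ ∀ n : ℕ, M ≤ n → q ≤ n ∧ (𝒜 n : Submodule R A) ≤ 𝒜 q * 𝒜 (n - q) := by
  classical
  obtain ⟨s, hs, hhom⟩ := GradedAlgebra.exists_finset_adjoin_eq_top_and_homogeneous_ne_zero 𝒜
  have hE : ∀ e ∈ (s : Set A), ∃ d : ℕ, 0 < d ∧ e ∈ 𝒜 d := by
    intro e he
    obtain ⟨n, hn, hen⟩ := hhom e he
    exact ⟨n, Nat.pos_of_ne_zero hn, hen⟩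
  have hspan := (irrelevant_eq_span_iff_adjoin_eq_top 𝒜 _ hE).mpr hs
  choose! deg hdeg using hE
  let q := ∏ f ∈ s, deg f
  have hq : 0 < q := Finset.prod_pos fun f hf => (hdeg f hf).1
  have hrad : (HomogeneousIdeal.irrelevant 𝒜).toIdeal ≤ (Ideal.span (𝒜 q : Set A)).radical := by
    rw [hspan, Ideal.span_le]
    intro f hf
    refine ⟨q / deg f, Ideal.subset_span ?_⟩
    have h1 := SetLike.pow_mem_graded (q / deg f) (hdeg f hf).2
    have h2 : deg f ∣ q := Finset.dvd_prod_of_mem deg hf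
    rwa [smul_eq_mul, Nat.div_mul_cancel h2] at h1
  obtain ⟨k, hk⟩ := Ideal.exists_pow_le_of_le_radical_of_fg hrad
    ((irrelevant_fg_iff_finiteType 𝒜).mpr inferInstance)
  obtain ⟨m₀, hm₀⟩ := degree_le_irrelevant_pow 𝒜 (k + 1) (Nat.succ_pos k)
  refine ⟨q, m₀ + q, hq, fun n hn => ⟨by omega, fun x hx => ?_⟩⟩
  apply mem_mul_of_mem_span_degree 𝒜 (by omega) hx
  apply hk
  exact Ideal.pow_le_pow_right (Nat.le_succ k) (hm₀ n (by omega) hx)

theorem graded_finiteType_pow_degree_eq [Algebra.FiniteType (𝒜 0) A] :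
    ∃ h : ℕ, 0 < h ∧ ∀ m : ℕ, 0 < m → 𝒜 (m * h) = (𝒜 h : Submodule R A) ^ m := by
  obtain ⟨q, M, hq, hqM⟩ := exists_degree_eq_mul 𝒜
  -- iterate
  have iter : ∀ t n : ℕ, t * q + M ≤ n →
      (𝒜 n : Submodule R A) ≤ (𝒜 q : Submodule R A) ^ t * 𝒜 (n - t * q) := by
    intro t
    induction t with
    | zero => intro n _; simp
    | succ t ih =>
      intro n hn
      have h1 : t * q + M ≤ n := by nlinarith
      refine (ih n h1).trans ?_
      have h2 : M ≤ n - t * q := by
        have : (t + 1) * q = t * q + q := by ring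
        omega
      obtain ⟨_, h3⟩ := hqM (n - t * q) h2
      rw [pow_succ, mul_assoc]
      have h4 : n - t * q - q = n - (t + 1) * q := by
        have : (t + 1) * q = t * q + q := by ring
        omega
      rw [← h4]
      exact mul_le_mul' le_rfl h3
  refine ⟨q * (M + 1), by positivity, fun m hm => ?_⟩
  induction m, hm using Nat.le_induction with
  | base => simp
  | succ m hm ih =>
    apply le_antisymm _ (graded_pow_le 𝒜 _ _)
    have h1 : (M + 1) * q + M ≤ (m + 1) * (q * (M + 1)) := by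
      have : q * (M + 1) + M ≤ (m + 1) * (q * (M + 1)) := by
        have h3 : 2 * (q * (M + 1)) ≤ (m + 1) * (q * (M + 1)) :=
          Nat.mul_le_mul_right _ (by omega)
        have h4 : M < q * (M + 1) := by nlinarith
        omega
      linarith [mul_comm q (M + 1)]
    refine (iter (M + 1) _ h1).trans ?_
    have h2 : (m + 1) * (q * (M + 1)) - (M + 1) * q = m * (q * (M + 1)) := by
      have : (m + 1) * (q * (M + 1)) = m * (q * (M + 1)) + (M + 1) * q := by ring
      omega
    rw [h2, ih, pow_succ' (𝒜 (q * (M + 1)) : Submodule R A) m]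
    refine mul_le_mul' ?_ le_rfl
    have := graded_pow_le 𝒜 q (M + 1)
    rwa [mul_comm (M + 1) q] at this

section Module

variable {M : Type u} [AddCommGroup M] [Module R M] [Module A M] [IsScalarTower R A M]
  (ℳ : ℕ → Submodule R M) [DirectSum.Decomposition ℳ] [SetLike.GradedSMul 𝒜 ℳ]

theorem coe_decompose_smul_of_mem (a : A) {m : M} {e : ℕ} (hm : m ∈ ℳ e) (n : ℕ) :
    ((decompose ℳ (a • m) n : ℳ n) : M) =
      if e ≤ n then ((decompose 𝒜 a (n - e) : 𝒜 (n - e)) : A) • m else 0 := by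
  classical
  conv_lhs => rw [← DirectSum.sum_support_decompose 𝒜 a, Finset.sum_smul, decompose_sum,
    DFinsupp.finsetSum_apply, AddSubmonoidClass.coe_finsetSum]
  have hterm : ∀ i : ℕ, ((decompose ℳ (((decompose 𝒜 a i : 𝒜 i) : A) • m) n : ℳ n) : M) =
      if i + e = n then ((decompose 𝒜 a i : 𝒜 i) : A) • m else 0 := by
    intro i
    have hmem : ((decompose 𝒜 a i : 𝒜 i) : A) • m ∈ ℳ (i + e) := by
      have := SetLike.GradedSMul.smul_mem (A := 𝒜) (B := ℳ)
        (SetLike.coe_mem (decompose 𝒜 a i)) hm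
      rwa [vadd_eq_add] at this
    split_ifs with h
    · subst h
      exact decompose_of_mem_same ℳ hmem
    · exact decompose_of_mem_ne ℳ hmem h
  simp_rw [hterm]
  split_ifs with hen
  · rw [Finset.sum_eq_single (n - e)]
    · rw [if_pos (by omega)]
    · intro i _ hi
      rw [if_neg (by omega)]
    · intro hi
      rw [DFinsupp.notMem_support_iff] at hi
      rw [hi]; simp
  · apply Finset.sum_eq_zero
    intro i _
    rw [if_neg (by omega)]

theorem graded_fg_module_eventually_shift_generated [Algebra.FiniteType (𝒜 0) A]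
    [Module.Finite A M] :
    ∃ (n₁ h : ℕ), 0 < h ∧ ∀ n : ℕ, n₁ ≤ n →
      ℳ (n + h) = (𝒜 h : Submodule R A) • (ℳ n : Submodule R M) := by
  classical
  obtain ⟨q, M₀, hq, hqM⟩ := exists_degree_eq_mul 𝒜
  obtain ⟨T, hT⟩ := (Module.Finite.fg_top : (⊤ : Submodule A M).FG)
  -- homogeneous generators
  let T' : Finset M := T.biUnion (fun x => (decompose ℳ x).support.image
      (fun n => ((decompose ℳ x n : ℳ n) : M)))
  have hT'hom : ∀ t ∈ T', ∃ e : ℕ, t ∈ ℳ e := by
    intro t ht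
    simp only [T', Finset.mem_biUnion, Finset.mem_image] at ht
    obtain ⟨x, _, n, _, rfl⟩ := ht
    exact ⟨n, SetLike.coe_mem _⟩
  have hT' : Submodule.span A (T' : Set M) = ⊤ := by
    rw [eq_top_iff, ← hT, Submodule.span_le]
    intro x hx
    rw [← DirectSum.sum_support_decompose ℳ x]
    refine Submodule.sum_mem _ fun n hn => Submodule.subset_span ?_
    simp only [T', Finset.coe_biUnion, Finset.coe_image, Set.mem_iUnion, Set.mem_image,
      Finset.mem_coe]
    exact ⟨x, hx, n, hn, rfl⟩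
  choose! deg hdeg using hT'hom
  refine ⟨T'.sup deg + M₀, q, hq, fun n hn => ?_⟩
  apply le_antisymm
  · intro x hx
    have hxtop : x ∈ Submodule.span A (T' : Set M) := by rw [hT']; trivial
    rw [Submodule.mem_span_set'] at hxtop
    obtain ⟨k, c, g, hsum⟩ := hxtop
    have hx2 : x = ((decompose ℳ x (n + q) : ℳ (n + q)) : M) := by
      rw [decompose_of_mem_same ℳ hx]
    rw [hx2, ← hsum, decompose_sum]
    rw [DFinsupp.finsetSum_apply, AddSubmonoidClass.coe_finsetSum]
    refine Submodule.sum_mem _ fun i _ => ?_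
    have hgd := hdeg (g i) (g i).2
    have hdle : deg (g i) ≤ T'.sup deg := Finset.le_sup (f := deg) (g i).2
    rw [coe_decompose_smul_of_mem 𝒜 ℳ (c i) hgd, if_pos (by omega)]
    obtain ⟨hq1, hq2⟩ := hqM (n + q - deg (g i)) (by omega)
    have hc := hq2 (SetLike.coe_mem (decompose 𝒜 (c i) (n + q - deg (g i))))
    have hsub : n + q - deg (g i) - q = n - deg (g i) := by omega
    rw [hsub] at hc
    refine Submodule.mul_induction_on hc ?_ ?_
    · intro a ha b hb
      rw [mul_smul]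
      refine Submodule.smul_mem_smul ha ?_
      have := SetLike.GradedSMul.smul_mem (A := 𝒜) (B := ℳ) hb hgd
      have h3 : n - deg (g i) + deg (g i) = n := by omega
      rw [vadd_eq_add, h3] at this
      exact this
    · intro y z hy hz
      rw [add_smul]
      exact add_mem hy hz
  · rw [Submodule.smul_le]
    intro a ha m hm
    have := SetLike.GradedSMul.smul_mem (A := 𝒜) (B := ℳ) ha hm
    rwa [vadd_eq_add, add_comm] at this

end Module

end

end Groth.Agent.Lib.helper7
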