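import Mathlib
import Groth.Agent.S2292
import Groth.Agent.Lib.lead.AdicRetract

namespace Groth.Agent.Lib.helper7.InvLimMod

universe u v

section
variable {A : Type u} [CommRing A] (I : Ideal A)
    {M : ℕ → Type v} [∀ n, AddCommGroup (M n)] [∀ n, Module A (M n)]
    (f : ∀ n, M (n + 1) →ₗ[A] M n) (hf : ∀ n, Function.Surjective (f n))
    (hker : ∀ n, LinearMap.ker (f n) = I ^ (n + 1) • (⊤ : Submodule A (M (n + 1))))

/-- The composite `M n → M 0`. -/
def F : ∀ n, M n →ₗ[A] M 0
  | 0 => LinearMap.id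
  | (n + 1) => (F n).comp (f n)

include hf hker in
theorem ker_F_le (n : ℕ) : LinearMap.ker (F f n) ≤ I • (⊤ : Submodule A (M n)) := by
  induction n with
  | zero => intro y hy; have : y = 0 := hy; rw [this]; exact zero_mem _
  | succ n ih =>
    intro y hy
    have h1 : f n y ∈ I • (⊤ : Submodule A (M n)) := ih hy
    have h2 : (I • (⊤ : Submodule A (M n))) = Submodule.map (f n) (I • (⊤ : Submodule A (M (n + 1)))) := by
      rw [Submodule.map_smul'', Submodule.map_top, LinearMap.range_eq_top.mpr (hf n)]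
    rw [h2] at h1
    obtain ⟨z, hz, hzy⟩ := h1
    have h3 : y - z ∈ LinearMap.ker (f n) := by
      rw [LinearMap.mem_ker, map_sub, hzy, sub_self]
    rw [hker n] at h3
    have h4 : y - z ∈ I • (⊤ : Submodule A (M (n + 1))) :=
      Submodule.smul_mono_left (Ideal.pow_le_self (Nat.succ_ne_zero n)) h3
    have : y = (y - z) + z := by abel
    rw [this]
    exact Submodule.add_mem _ h4 hz

variable {L : Type v} [AddCommGroup L] [Module A L] (π : ∀ n, L →ₗ[A] M n)
    (hπ : ∀ n, f n ∘ₗ π (n + 1) = π n)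

include hπ in
theorem F_comp_π (n : ℕ) : (F f n).comp (π n) = π 0 := by
  induction n with
  | zero => rfl
  | succ n ih =>
    show ((F f n).comp (f n)).comp (π (n + 1)) = π 0
    rw [LinearMap.comp_assoc, hπ n, ih]

/-- Nilpotent Nakayama. -/
theorem eq_top_of_sup_smul_eq_top {N : Type*} [AddCommGroup N] [Module A N] (P : Submodule A N)
    (k : ℕ) (hk : I ^ k • (⊤ : Submodule A N) = ⊥) (h : P ⊔ I • ⊤ = ⊤) : P = ⊤ := by
  have key : ∀ j : ℕ, P ⊔ I ^ j • (⊤ : Submodule A N) = ⊤ := by
    intro j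
    induction j with
    | zero => simp
    | succ j ih =>
      rw [eq_top_iff]
      calc (⊤ : Submodule A N) = P ⊔ I • ⊤ := h.symm
        _ = P ⊔ I • (P ⊔ I ^ j • ⊤) := by rw [ih]
        _ = P ⊔ (I • P ⊔ I • (I ^ j • ⊤)) := by rw [Submodule.smul_sup]
        _ ≤ P ⊔ I ^ (j + 1) • ⊤ := by
          refine sup_le le_sup_left (sup_le (Submodule.smul_le_right.trans le_sup_left) ?_)
          rw [← mul_smul, ← pow_succ']
          exact le_sup_right
  have := key k
  rwa [hk, sup_bot_eq] at this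


variable (hk : ∀ n, I ^ (n + 1) • (⊤ : Submodule A (M n)) = ⊥)
  {P : Type*} [AddCommGroup P] [Module A P] (φ : P →ₗ[A] L)
  (h0 : Function.Surjective ((π 0).comp φ))

include hf hker hπ hk h0 in
theorem surj_comp (n : ℕ) : Function.Surjective ((π n).comp φ) := by
  rw [← LinearMap.range_eq_top]
  apply eq_top_of_sup_smul_eq_top I _ (n + 1) (hk n)
  rw [eq_top_iff]
  intro y _
  obtain ⟨a, ha⟩ := h0 (F f n y)
  have h1 : y - π n (φ a) ∈ LinearMap.ker (F f n) := by
    rw [LinearMap.mem_ker, map_sub]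
    have := LinearMap.congr_fun (F_comp_π f π hπ n) (φ a)
    simp only [LinearMap.comp_apply] at this ha
    rw [this, ha, sub_self]
  have h2 := ker_F_le I f hf hker n h1
  have : y = π n (φ a) + (y - π n (φ a)) := by abel
  rw [this]
  exact Submodule.add_mem_sup ⟨a, rfl⟩ h2

include hf hker hπ hk h0 in
/-- One correction step. -/
theorem exists_step (y : L) (n : ℕ) (b : P) (hb : π n (φ b) = π n y) :
    ∃ δ : P, δ ∈ I ^ (n + 1) • (⊤ : Submodule A P) ∧ π (n + 1) (φ (b + δ)) = π (n + 1) y := by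
  have hz : π (n + 1) y - π (n + 1) (φ b) ∈ LinearMap.ker (f n) := by
    rw [LinearMap.mem_ker, map_sub]
    have h1 := LinearMap.congr_fun (hπ n) y
    have h2 := LinearMap.congr_fun (hπ n) (φ b)
    simp only [LinearMap.comp_apply] at h1 h2
    rw [h1, h2, hb, sub_self]
  rw [hker n] at hz
  have hs := surj_comp I f hf hker π hπ hk φ h0 (n + 1)
  have h2 : (I ^ (n + 1) • (⊤ : Submodule A (M (n + 1)))) =
      Submodule.map ((π (n + 1)).comp φ) (I ^ (n + 1) • (⊤ : Submodule A P)) := by
    rw [Submodule.map_smul'', Submodule.map_top, LinearMap.range_eq_top.mpr hs]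
  rw [h2] at hz
  obtain ⟨δ, hδ, hδz⟩ := hz
  refine ⟨δ, hδ, ?_⟩
  simp only [LinearMap.comp_apply] at hδz
  rw [map_add, map_add, hδz]
  abel


omit [∀ n, AddCommGroup (M n)] [∀ n, Module A (M n)] [AddCommGroup L] [Module A L] in
theorem map_mem_smul_top {P N : Type*} [AddCommGroup P] [Module A P] [AddCommGroup N] [Module A N]
    (g : P →ₗ[A] N) (J : Ideal A) {x : P} (hx : x ∈ J • (⊤ : Submodule A P)) :
    g x ∈ J • (⊤ : Submodule A N) := by
  have := Submodule.mem_map_of_mem (f := g) hx
  rw [Submodule.map_smul''] at this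
  exact Submodule.smul_mono le_rfl le_top this

include hπ in
theorem π_eq_zero_of_add (z : L) (n j : ℕ) (h : π (n + j) z = 0) : π n z = 0 := by
  induction j with
  | zero => exact h
  | succ j ih =>
    apply ih
    have := LinearMap.congr_fun (hπ (n + j)) z
    simp only [LinearMap.comp_apply] at this
    rw [← this]
    show f (n + j) (π (n + (j + 1)) z) = 0
    rw [h, map_zero]

variable (hinj : ∀ x : L, (∀ n, π n x = 0) → x = 0)

include hf hker hπ hk h0 hinj in
theorem exists_lift [IsPrecomplete I P] (y : L) (n₁ : ℕ) (a₁ : P) (h₁ : π n₁ (φ a₁) = π n₁ y) :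
    ∃ a : P, φ a = y ∧ a - a₁ ∈ I ^ (n₁ + 1) • (⊤ : Submodule A P) := by
  have hstep : ∀ (n : ℕ) (b : P), ∃ δ : P, π n (φ b) = π n y →
      (δ ∈ I ^ (n + 1) • (⊤ : Submodule A P) ∧ π (n + 1) (φ (b + δ)) = π (n + 1) y) := by
    intro n b
    by_cases hb : π n (φ b) = π n y
    · obtain ⟨δ, h1, h2⟩ := exists_step I f hf hker π hπ hk φ h0 y n b hb
      exact ⟨δ, fun _ => ⟨h1, h2⟩⟩
    · exact ⟨0, fun h => absurd h hb⟩
  choose δf hδf using hstep
  let b : ℕ → P := fun j => Nat.rec a₁ (fun j bj => bj + δf (n₁ + j) bj) j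
  have hb_succ : ∀ j, b (j + 1) = b j + δf (n₁ + j) (b j) := fun j => rfl
  have inv : ∀ j, π (n₁ + j) (φ (b j)) = π (n₁ + j) y := by
    intro j
    induction j with
    | zero => exact h₁
    | succ j ih =>
      rw [hb_succ]
      exact (hδf (n₁ + j) (b j) ih).2
  have hδmem : ∀ j, b (j + 1) - b j ∈ I ^ (n₁ + j + 1) • (⊤ : Submodule A P) := by
    intro j
    rw [hb_succ, add_sub_cancel_left]
    exact (hδf (n₁ + j) (b j) (inv j)).1
  have diff : ∀ j k, j ≤ k → b k - b j ∈ I ^ (n₁ + j + 1) • (⊤ : Submodule A P) := by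
    intro j k hjk
    induction k, hjk using Nat.le_induction with
    | base => rw [sub_self]; exact zero_mem _
    | succ k hjk ih =>
      have : b (k + 1) - b j = (b (k + 1) - b k) + (b k - b j) := by abel
      rw [this]
      refine Submodule.add_mem _ ?_ ih
      exact Submodule.smul_mono_left (Ideal.pow_le_pow_right (by omega)) (hδmem k)
  have hcauchy : ∀ {m n : ℕ}, m ≤ n → b m ≡ b n [SMOD (I ^ m • ⊤ : Submodule A P)] := by
    intro m n hmn
    rw [SModEq.sub_mem]
    have := diff m n hmn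
    have h2 : b m - b n = -(b n - b m) := by abel
    rw [h2]
    exact neg_mem (Submodule.smul_mono_left (Ideal.pow_le_pow_right (by omega)) this)
  obtain ⟨a, ha⟩ := IsPrecomplete.prec' (I := I) b hcauchy
  have haj : ∀ j, a - b j ∈ I ^ (n₁ + j + 1) • (⊤ : Submodule A P) := by
    intro j
    have h1 := ha (n₁ + j + 1 + j)
    rw [SModEq.sub_mem] at h1
    have h2 := diff j (n₁ + j + 1 + j) (by omega)
    have : a - b j = -(b (n₁ + j + 1 + j) - a) + (b (n₁ + j + 1 + j) - b j) := by abel
    rw [this]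
    refine Submodule.add_mem _ (neg_mem ?_) h2
    exact Submodule.smul_mono_left (Ideal.pow_le_pow_right (by omega)) h1
  refine ⟨a, ?_, ?_⟩
  · have hz : ∀ j, π (n₁ + j) (φ a - y) = 0 := by
      intro j
      have h1 : π (n₁ + j) (φ (a - b j)) ∈ I ^ (n₁ + j + 1) • (⊤ : Submodule A (M (n₁ + j))) :=
        map_mem_smul_top ((π (n₁ + j)).comp φ) _ (haj j)
      rw [hk (n₁ + j), Submodule.mem_bot] at h1
      have : φ a - y = φ (a - b j) + (φ (b j) - y) := by rw [map_sub]; abel
      rw [this, map_add, h1, zero_add, map_sub, inv j, sub_self]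
    have : φ a - y = 0 := by
      apply hinj
      intro n
      apply π_eq_zero_of_add f π hπ _ n n₁
      have := hz n
      rwa [Nat.add_comm] at this
    exact sub_eq_zero.mp this
  · have := haj 0
    exact this

end

section Main

variable {A : Type u} [CommRing A] (I : Ideal A) [IsAdicComplete I A]
    {M : ℕ → Type v} [∀ n, AddCommGroup (M n)] [∀ n, Module A (M n)]
    (f : ∀ n, M (n + 1) →ₗ[A] M n) (hf : ∀ n, Function.Surjective (f n))
    (hk : ∀ n, I ^ (n + 1) • (⊤ : Submodule A (M n)) = ⊥)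
    (hker : ∀ n, LinearMap.ker (f n) = I ^ (n + 1) • (⊤ : Submodule A (M (n + 1))))
    {L : Type v} [AddCommGroup L] [Module A L] (π : ∀ n, L →ₗ[A] M n)
    (hπ : ∀ n, f n ∘ₗ π (n + 1) = π n)
    (hinj : ∀ x : L, (∀ n, π n x = 0) → x = 0)
    (hlift : ∀ y : (∀ n, M n), (∀ n, f n (y (n + 1)) = y n) → ∃ x : L, ∀ n, π n x = y n)

include hf hlift in
theorem π_surjective (n : ℕ) : Function.Surjective (π n) := by
  intro b
  obtain ⟨y, hy, hb⟩ := Groth.Agent.S2292.exists_compat n M (fun k => f k) hf b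
  obtain ⟨x, hx⟩ := hlift y hy
  exact ⟨x, (hx n).trans hb⟩

include hf hk hker hπ hinj hlift in
theorem main (h0 : Module.Finite A (M 0)) :
    Module.Finite A L ∧ IsAdicComplete I L ∧
      ∀ n, Function.Surjective (π n) ∧ LinearMap.ker (π n) = I ^ (n + 1) • (⊤ : Submodule A L) := by
  classical
  have hsurjπ := π_surjective f hf π hlift
  obtain ⟨r, g, hg⟩ := Module.Finite.exists_fin (R := A) (M := M 0)
  choose x hx using fun i => hsurjπ 0 (g i)
  let φ : (Fin r → A) →ₗ[A] L := Fintype.linearCombination A x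
  have hcomp : (π 0).comp φ = Fintype.linearCombination A g := by
    apply LinearMap.ext
    intro c
    simp only [LinearMap.comp_apply, φ, Fintype.linearCombination_apply, map_sum, map_smul, hx]
  have h0s : Function.Surjective ((π 0).comp φ) := by
    rw [← LinearMap.range_eq_top, hcomp, Fintype.range_linearCombination, hg]
  have hP : IsAdicComplete I (Fin r → A) := Groth.Agent.Lib.lead.Adic.isAdicComplete_pi I
  have hφsurj : Function.Surjective φ := by
    intro y
    obtain ⟨a₁, ha₁⟩ := h0s (π 0 y)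
    obtain ⟨a, ha, -⟩ := exists_lift I f hf hker π hπ hk φ h0s hinj y 0 a₁ ha₁
    exact ⟨a, ha⟩
  have hkerπ : ∀ n, LinearMap.ker (π n) = I ^ (n + 1) • (⊤ : Submodule A L) := by
    intro n
    apply le_antisymm
    · intro y hy
      have hy0 : π n (φ 0) = π n y := by rw [map_zero, map_zero]; exact (LinearMap.mem_ker.mp hy).symm
      obtain ⟨a, ha, ha'⟩ := exists_lift I f hf hker π hπ hk φ h0s hinj y n 0 hy0
      rw [sub_zero] at ha'
      rw [← ha]
      exact map_mem_smul_top φ _ ha'
    · intro y hy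
      have := map_mem_smul_top (π n) _ hy
      rw [hk n, Submodule.mem_bot] at this
      exact this
  have hH : IsHausdorff I L := by
    refine ⟨?_⟩
    intro y hy
    apply hinj
    intro n
    have := hy (n + 1)
    rw [SModEq.zero, ← hkerπ n] at this
    exact this
  have hPc : IsPrecomplete I L := by
    refine ⟨?_⟩
    intro s hs
    have hcompat : ∀ n, f n (π (n + 1) (s (n + 1 + 1))) = π n (s (n + 1)) := by
      intro n
      have h1 := LinearMap.congr_fun (hπ n) (s (n + 1 + 1))
      simp only [LinearMap.comp_apply] at h1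
      rw [h1]
      have h2 := hs (Nat.le_succ (n + 1))
      rw [SModEq.sub_mem, ← hkerπ n, LinearMap.mem_ker, map_sub, sub_eq_zero] at h2
      exact h2.symm
    obtain ⟨y, hy⟩ := hlift (fun n => π n (s (n + 1))) hcompat
    refine ⟨y, fun n => ?_⟩
    cases n with
    | zero =>
      rw [SModEq.sub_mem]
      simp
    | succ n =>
      rw [SModEq.sub_mem, ← hkerπ n, LinearMap.mem_ker, map_sub, hy n, sub_self]
  exact ⟨Module.Finite.of_surjective φ hφsurj, { toIsHausdorff := hH, toIsPrecomplete := hPc },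
    fun n => ⟨hsurjπ n, hkerπ n⟩⟩

end Main

end Groth.Agent.Lib.helper7.InvLimMod
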