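import Mathlib
import Groth.Agent.Lib.helper7.InvLimMod

namespace Groth.Agent.Lib.helper7.InvLimProj

universe u v

variable {A : Type u} [CommRing A]

/-- Lifting property of a retract of `(A/J)^m` against surjections from modules killed by `J`. -/
theorem exists_lift_of_retract (J : Ideal A) {N : Type*} [AddCommGroup N] [Module A N]
    (m : ℕ) (i : N →ₗ[A] (Fin m → A ⧸ J)) (r : (Fin m → A ⧸ J) →ₗ[A] N)
    (hri : r ∘ₗ i = LinearMap.id)
    {T T' : Type*} [AddCommGroup T] [Module A T] [AddCommGroup T'] [Module A T']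
    (g : T →ₗ[A] T') (hg : Function.Surjective g) (hT : J • (⊤ : Submodule A T) = ⊥)
    (h : N →ₗ[A] T') : ∃ h' : N →ₗ[A] T, g ∘ₗ h' = h := by
  classical
  -- lifts of the images of the basis vectors
  choose t ht using fun j : Fin m => hg (h (r (Pi.single j (1 : A ⧸ J))))
  have hJ : ∀ j, J ≤ LinearMap.ker (LinearMap.toSpanSingleton A T (t j)) := by
    intro j a ha
    rw [LinearMap.mem_ker, LinearMap.toSpanSingleton_apply]
    have : a • t j ∈ J • (⊤ : Submodule A T) := Submodule.smul_mem_smul ha Submodule.mem_top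
    rwa [hT, Submodule.mem_bot] at this
  let ℓ : Fin m → (A ⧸ J) →ₗ[A] T := fun j =>
    Submodule.liftQ J (LinearMap.toSpanSingleton A T (t j)) (hJ j)
  let Λ : (Fin m → A ⧸ J) →ₗ[A] T := ∑ j, (ℓ j) ∘ₗ (LinearMap.proj j)
  have hΛ : g ∘ₗ Λ = h ∘ₗ r := by
    apply LinearMap.pi_ext
    intro j c
    obtain ⟨a, rfl⟩ := Ideal.Quotient.mk_surjective c
    have h1 : (Pi.single j (Ideal.Quotient.mk J a) : Fin m → A ⧸ J) =
        a • (Pi.single j (1 : A ⧸ J) : Fin m → A ⧸ J) := by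
      rw [← Pi.single_smul]
      congr 1
      rw [Algebra.smul_def, mul_one]
      rfl
    simp only [LinearMap.comp_apply, Λ, LinearMap.sum_apply, LinearMap.proj_apply]
    rw [Finset.sum_eq_single j]
    · rw [Pi.single_eq_same]
      show g (Submodule.liftQ J (LinearMap.toSpanSingleton A T (t j)) (hJ j)
        (Submodule.Quotient.mk a)) = _
      rw [Submodule.liftQ_apply, LinearMap.toSpanSingleton_apply, map_smul, ht j, h1, map_smul,
        map_smul]
    · intro k _ hk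
      rw [Pi.single_eq_of_ne hk, map_zero]
    · intro hj; exact absurd (Finset.mem_univ j) hj
  refine ⟨Λ ∘ₗ i, ?_⟩
  rw [← LinearMap.comp_assoc, hΛ, LinearMap.comp_assoc, hri, LinearMap.comp_id]


open Groth.Agent.Lib.helper7.InvLimMod

section Tower

variable (I : Ideal A)
    {M : ℕ → Type v} [∀ n, AddCommGroup (M n)] [∀ n, Module A (M n)]
    (f : ∀ n, M (n + 1) →ₗ[A] M n) (hf : ∀ n, Function.Surjective (f n))
    (hk : ∀ n, I ^ (n + 1) • (⊤ : Submodule A (M n)) = ⊥)
    (hker : ∀ n, LinearMap.ker (f n) = I ^ (n + 1) • (⊤ : Submodule A (M (n + 1))))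
    {L : Type v} [AddCommGroup L] [Module A L] (π : ∀ n, L →ₗ[A] M n)
    (hπ : ∀ n, f n ∘ₗ π (n + 1) = π n)
    {P : Type*} [AddCommGroup P] [Module A P] (φ : P →ₗ[A] L)
    (h0 : Function.Surjective ((π 0).comp φ))

include hk in
theorem le_ker_comp (n : ℕ) :
    (I ^ (n + 1) • ⊤ : Submodule A P) ≤ LinearMap.ker ((π n).comp φ) := by
  intro x hx
  have := map_mem_smul_top ((π n).comp φ) _ hx
  rwa [hk n, Submodule.mem_bot] at this

/-- The induced map `P / I^(n+1) P → M n`. -/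
noncomputable def φq (n : ℕ) : (P ⧸ (I ^ (n + 1) • ⊤ : Submodule A P)) →ₗ[A] M n :=
  Submodule.liftQ _ ((π n).comp φ) (le_ker_comp I hk π φ n)

theorem φq_mk (n : ℕ) (x : P) : φq I hk π φ n (Submodule.Quotient.mk x) = π n (φ x) := rfl

include hf hker hπ h0 in
theorem φq_surjective (n : ℕ) : Function.Surjective (φq I hk π φ n) := by
  intro y
  obtain ⟨x, hx⟩ := surj_comp I f hf hker π hπ hk φ h0 n y
  exact ⟨Submodule.Quotient.mk x, hx⟩

/-- transition map -/
noncomputable abbrev q (n : ℕ) : (P ⧸ (I ^ (n + 1 + 1) • ⊤ : Submodule A P)) →ₗ[A]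
    (P ⧸ (I ^ (n + 1) • ⊤ : Submodule A P)) :=
  Submodule.factorPow I P (Nat.le_succ (n + 1))

include hπ in
theorem φq_comp_q (n : ℕ) : φq I hk π φ n ∘ₗ q (P := P) I n = f n ∘ₗ φq I hk π φ (n + 1) := by
  apply Submodule.linearMap_qext
  apply LinearMap.ext
  intro x
  have := LinearMap.congr_fun (hπ n) (φ x)
  simp only [LinearMap.comp_apply] at this
  simp only [LinearMap.comp_apply, Submodule.mkQ_apply]
  rw [φq_mk, this]
  show φq I hk π φ n (Submodule.Quotient.mk x) = _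
  rw [φq_mk]

theorem smul_top_quot_eq_bot (n : ℕ) :
    I ^ (n + 1) • (⊤ : Submodule A (P ⧸ (I ^ (n + 1) • ⊤ : Submodule A P))) = ⊥ := by
  have h1 : (⊤ : Submodule A (P ⧸ (I ^ (n + 1) • ⊤ : Submodule A P))) =
      Submodule.map (Submodule.mkQ _) ⊤ := by
    rw [Submodule.map_top, Submodule.range_mkQ]
  rw [h1, ← Submodule.map_smul'', Submodule.mkQ_map_self]


include hf hker hπ h0 in
theorem exists_next_section (n : ℕ)
    (m : ℕ) (i : M (n + 1) →ₗ[A] (Fin m → A ⧸ I ^ (n + 1 + 1)))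
    (r : (Fin m → A ⧸ I ^ (n + 1 + 1)) →ₗ[A] M (n + 1)) (hri : r ∘ₗ i = LinearMap.id)
    (σ : M n →ₗ[A] (P ⧸ (I ^ (n + 1) • ⊤ : Submodule A P)))
    (hσ : φq I hk π φ n ∘ₗ σ = LinearMap.id) :
    ∃ σ' : M (n + 1) →ₗ[A] (P ⧸ (I ^ (n + 1 + 1) • ⊤ : Submodule A P)),
      φq I hk π φ (n + 1) ∘ₗ σ' = LinearMap.id ∧ q (P := P) I n ∘ₗ σ' = σ ∘ₗ f n := by
  let T' : Submodule A ((P ⧸ (I ^ (n + 1) • ⊤ : Submodule A P)) × M (n + 1)) :=
    LinearMap.ker ((φq I hk π φ n ∘ₗ LinearMap.fst A _ _) - (f n ∘ₗ LinearMap.snd A _ _))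
  have hcomp := φq_comp_q I f hk π hπ φ n
  let g : (P ⧸ (I ^ (n + 1 + 1) • ⊤ : Submodule A P)) →ₗ[A] T' :=
    LinearMap.codRestrict T' ((q (P := P) I n).prod (φq I hk π φ (n + 1))) (by
      intro p
      rw [LinearMap.mem_ker]
      show φq I hk π φ n (q (P := P) I n p) - f n (φq I hk π φ (n + 1) p) = 0
      have := LinearMap.congr_fun hcomp p
      simp only [LinearMap.comp_apply] at this
      rw [this, sub_self])
  have hg : Function.Surjective g := by
    rintro ⟨⟨pbar, y⟩, hy⟩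
    simp only [T', LinearMap.mem_ker, LinearMap.sub_apply, LinearMap.comp_apply,
      LinearMap.fst_apply, LinearMap.snd_apply, sub_eq_zero] at hy
    obtain ⟨p', hp'⟩ : ∃ p', q (P := P) I n p' = pbar := by
      obtain ⟨x, rfl⟩ := Submodule.Quotient.mk_surjective _ pbar
      exact ⟨Submodule.Quotient.mk x, rfl⟩
    have hz : y - φq I hk π φ (n + 1) p' ∈ LinearMap.ker (f n) := by
      rw [LinearMap.mem_ker, map_sub]
      have := LinearMap.congr_fun hcomp p'
      simp only [LinearMap.comp_apply] at this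
      rw [← this, hp', hy, sub_self]
    rw [hker n] at hz
    have hs := φq_surjective I f hf hk hker π hπ φ h0 (n + 1)
    have h2 : (I ^ (n + 1) • (⊤ : Submodule A (M (n + 1)))) =
        Submodule.map (φq I hk π φ (n + 1)) (I ^ (n + 1) • ⊤) := by
      rw [Submodule.map_smul'', Submodule.map_top, LinearMap.range_eq_top.mpr hs]
    rw [h2] at hz
    obtain ⟨δ, hδ, hδz⟩ := hz
    have hqδ : q (P := P) I n δ = 0 := by
      have := map_mem_smul_top (q (P := P) I n) _ hδ
      rwa [smul_top_quot_eq_bot, Submodule.mem_bot] at this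
    refine ⟨p' + δ, ?_⟩
    apply Subtype.ext
    show ((q (P := P) I n) (p' + δ), φq I hk π φ (n + 1) (p' + δ)) = (pbar, y)
    rw [map_add, map_add, hqδ, add_zero, hp', hδz]
    congr 1
    abel
  let h : M (n + 1) →ₗ[A] T' :=
    LinearMap.codRestrict T' ((σ ∘ₗ f n).prod LinearMap.id) (by
      intro y
      rw [LinearMap.mem_ker]
      show φq I hk π φ n (σ (f n y)) - f n y = 0
      have := LinearMap.congr_fun hσ (f n y)
      simp only [LinearMap.comp_apply, LinearMap.id_apply] at this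
      rw [this, sub_self])
  obtain ⟨σ', hσ'⟩ := exists_lift_of_retract (I ^ (n + 1 + 1)) m i r hri g hg
    (smul_top_quot_eq_bot I (n + 1)) h
  refine ⟨σ', ?_, ?_⟩
  · apply LinearMap.ext
    intro y
    have := congrArg (fun t : T' => t.1.2) (LinearMap.congr_fun hσ' y)
    exact this
  · apply LinearMap.ext
    intro y
    have := congrArg (fun t : T' => t.1.1) (LinearMap.congr_fun hσ' y)
    exact this

end Tower


section Main

variable (I : Ideal A) [IsAdicComplete I A]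
    {M : ℕ → Type v} [∀ n, AddCommGroup (M n)] [∀ n, Module A (M n)]
    (f : ∀ n, M (n + 1) →ₗ[A] M n) (hf : ∀ n, Function.Surjective (f n))
    (hk : ∀ n, I ^ (n + 1) • (⊤ : Submodule A (M n)) = ⊥)
    (hker : ∀ n, LinearMap.ker (f n) = I ^ (n + 1) • (⊤ : Submodule A (M (n + 1))))
    {L : Type v} [AddCommGroup L] [Module A L] (π : ∀ n, L →ₗ[A] M n)
    (hπ : ∀ n, f n ∘ₗ π (n + 1) = π n)
    (hinj : ∀ x : L, (∀ n, π n x = 0) → x = 0)
    (hlift : ∀ y : (∀ n, M n), (∀ n, f n (y (n + 1)) = y n) → ∃ x : L, ∀ n, π n x = y n)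
    (hproj : ∀ n, ∃ (m : ℕ) (i : M n →ₗ[A] (Fin m → A ⧸ I ^ (n + 1)))
      (r : (Fin m → A ⧸ I ^ (n + 1)) →ₗ[A] M n), r ∘ₗ i = LinearMap.id)

include hf hk hker hπ hinj hlift hproj in
theorem main_proj :
    Module.Finite A L ∧ Module.Projective A L ∧
      ∀ n, Function.Surjective (π n) ∧ LinearMap.ker (π n) = I ^ (n + 1) • (⊤ : Submodule A L) := by
  classical
  have h0fin : Module.Finite A (M 0) := by
    obtain ⟨m, i, r, hri⟩ := hproj 0
    have hr : Function.Surjective r := fun y => ⟨i y, LinearMap.congr_fun hri y⟩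
    exact Module.Finite.of_surjective r hr
  obtain ⟨hfin, hcompl, hrest⟩ := main I f hf hk hker π hπ hinj hlift h0fin
  refine ⟨hfin, ?_, hrest⟩
  obtain ⟨r, φ, hφ⟩ := Module.Finite.exists_fin' A L
  have h0s : Function.Surjective ((π 0).comp φ) := (hrest 0).1.comp hφ
  have hP : IsAdicComplete I (Fin r → A) := Groth.Agent.Lib.lead.Adic.isAdicComplete_pi I
  -- sections
  let Sec : ℕ → Type _ := fun n =>
    {σ : M n →ₗ[A] ((Fin r → A) ⧸ (I ^ (n + 1) • ⊤ : Submodule A (Fin r → A))) //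
      φq I hk π φ n ∘ₗ σ = LinearMap.id}
  have hσ0 : Nonempty (Sec 0) := by
    obtain ⟨m, i, rr, hri⟩ := hproj 0
    obtain ⟨σ', h1⟩ := exists_lift_of_retract (I ^ (0 + 1)) m i rr hri (φq I hk π φ 0)
      (φq_surjective I f hf hk hker π hπ φ h0s 0) (smul_top_quot_eq_bot I 0) LinearMap.id
    exact ⟨⟨σ', h1⟩⟩
  let σ0 : Sec 0 := Classical.choice hσ0
  have step : ∀ (n : ℕ) (s : Sec n), ∃ s' : Sec (n + 1),
      q (P := Fin r → A) I n ∘ₗ s'.1 = s.1 ∘ₗ f n := by
    intro n s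
    obtain ⟨m, i, rr, hri⟩ := hproj (n + 1)
    obtain ⟨σ', h1, h2⟩ := exists_next_section I f hf hk hker π hπ φ h0s n m i rr hri s.1 s.2
    exact ⟨⟨σ', h1⟩, h2⟩
  let σ : ∀ n, Sec n := fun n => Nat.rec σ0 (fun n s => Classical.choose (step n s)) n
  have hσc : ∀ n, q (P := Fin r → A) I n ∘ₗ (σ (n + 1)).1 = (σ n).1 ∘ₗ f n :=
    fun n => Classical.choose_spec (step n (σ n))
  have ha : StrictMono (fun n : ℕ => n + 1) := fun a b h => Nat.succ_lt_succ h
  let F : ∀ n : ℕ, L →ₗ[A] ((Fin r → A) ⧸ (I ^ (n + 1) • ⊤ : Submodule A (Fin r → A))) :=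
    fun n => (σ n).1 ∘ₗ π n
  have hF : ∀ {m : ℕ}, Submodule.factorPow I (Fin r → A) (ha.monotone m.le_succ) ∘ₗ F (m + 1) = F m := by
    intro m
    show q (P := Fin r → A) I m ∘ₗ ((σ (m + 1)).1 ∘ₗ π (m + 1)) = (σ m).1 ∘ₗ π m
    rw [← LinearMap.comp_assoc, hσc m, LinearMap.comp_assoc, hπ m]
  let s : L →ₗ[A] (Fin r → A) := IsAdicComplete.StrictMono.lift I ha F hF
  have hs : φ ∘ₗ s = LinearMap.id := by
    apply LinearMap.ext
    intro y
    have : φ (s y) - y = 0 := by
      apply hinj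
      intro n
      have h1 : (Submodule.Quotient.mk (s y) : (Fin r → A) ⧸ (I ^ (n + 1) • ⊤ : Submodule A (Fin r → A)))
          = F n y := IsAdicComplete.StrictMono.mk_lift I ha F hF y
      have h2 : π n (φ (s y)) = φq I hk π φ n (Submodule.Quotient.mk (s y)) := rfl
      rw [map_sub, h2, h1]
      show φq I hk π φ n ((σ n).1 (π n y)) - π n y = 0
      have := LinearMap.congr_fun (σ n).2 (π n y)
      simp only [LinearMap.comp_apply, LinearMap.id_apply] at this
      rw [this, sub_self]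
    simpa [sub_eq_zero] using this
  exact Module.Projective.of_split s φ hs

end Main

end Groth.Agent.Lib.helper7.InvLimProj
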