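import Mathlib
import Groth.Agent.Lib.helper7.Jac2

/-!
# Locally closed points in locally Noetherian schemes (EGA IV 10.5) — helper7 library
-/

set_option autoImplicit false
universe u

namespace Groth.Agent.Lib.helper7.Jac

open Topology Set TopologicalSpace CategoryTheory AlgebraicGeometry

/-- A nonempty compact locally closed subset `U ∩ F` of a T0 space contains a point `x` with
`closure {x} ∩ U = {x}`. -/
lemma exists_mem_closure_inter_eq_singleton {α : Type*} [TopologicalSpace α] [T0Space α]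
    {U F : Set α} (hF : IsClosed F) (hc : IsCompact (U ∩ F)) (hne : (U ∩ F).Nonempty) :
    ∃ x ∈ U ∩ F, closure ({x} : Set α) ∩ U = {x} := by
  obtain ⟨z, hz⟩ := hne
  have hcs : CompactSpace ↥(U ∩ F) := isCompact_iff_compactSpace.mp hc
  obtain ⟨w, -, hwcl⟩ := (isClosed_univ : IsClosed (univ : Set ↥(U ∩ F))).exists_closed_singleton
    ⟨⟨z, hz⟩, mem_univ _⟩
  have hwU : (w : α) ∈ U := w.2.1
  have hwF : (w : α) ∈ F := w.2.2
  have hclF : closure ({(w : α)} : Set α) ⊆ F :=
    hF.closure_subset_iff.mpr (singleton_subset_iff.mpr hwF)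
  refine ⟨w, w.2, ?_⟩
  ext y
  constructor
  · rintro ⟨hycl, hyU⟩
    have : (⟨y, hyU, hclF hycl⟩ : ↥(U ∩ F)) ∈ closure ({w} : Set ↥(U ∩ F)) :=
      mem_closure_singleton_subtype _ w hycl
    rw [hwcl.closure_eq, mem_singleton_iff] at this
    rw [mem_singleton_iff]
    exact congrArg Subtype.val this
  · intro hy
    rw [mem_singleton_iff] at hy
    subst hy
    exact ⟨subset_closure (mem_singleton _), hwU⟩

/-- **EGA IV 10.5.?**: in a locally Noetherian scheme every nonempty locally closed subset contains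
a point `z` with `{z}` locally closed. -/
theorem exists_isLocallyClosed_singleton {X : Scheme.{u}} [IsLocallyNoetherian X] {Z : Set X}
    (hZ : IsLocallyClosed Z) (hne : Z.Nonempty) :
    ∃ z ∈ Z, IsLocallyClosed ({z} : Set X) := by
  obtain ⟨z₀, hz₀⟩ := hne
  obtain ⟨_, ⟨V, hV : IsAffineOpen V, rfl⟩, hz₀V, -⟩ :=
    X.isBasis_affineOpens.exists_subset_of_mem_open (mem_univ z₀) isOpen_univ
  have hNR : IsNoetherianRing Γ(X, V) := IsLocallyNoetherian.component_noetherian ⟨V, hV⟩
  have hN : NoetherianSpace ↥(V : Set X) := noetherianSpace_of_isAffineOpen V hV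
  have hZV : IsLocallyClosed (Z ∩ (V : Set X)) := hZ.inter V.2.isLocallyClosed
  obtain ⟨U', F', hU', hF', hUF⟩ := hZV
  have hc : IsCompact (U' ∩ F') := by
    rw [← hUF, inter_comm, ← Subtype.image_preimage_coe]
    exact (NoetherianSpace.isCompact _).image continuous_subtype_val
  obtain ⟨x, hx, hxcl⟩ := exists_mem_closure_inter_eq_singleton hF' hc (hUF ▸ ⟨z₀, hz₀, hz₀V⟩)
  refine ⟨x, (hUF ▸ hx : x ∈ Z ∩ (V : Set X)).1, U', closure {x}, hU', isClosed_closure, ?_⟩
  rw [inter_comm, hxcl]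

/-- If `{p}` is locally closed in `Spec A`, the generic point of `Spec (A ⧸ p)` is open. -/
theorem isOpen_bot_quotient_of_isLocallyClosed {A : Type u} [CommRing A]
    (p : PrimeSpectrum A) (hp : IsLocallyClosed ({p} : Set (PrimeSpectrum A))) :
    IsOpen ({⟨⊥, Ideal.bot_prime⟩} : Set (PrimeSpectrum (A ⧸ p.asIdeal))) := by
  have hpprime : p.asIdeal.IsPrime := p.isPrime
  set φ : A →+* A ⧸ p.asIdeal := Ideal.Quotient.mk p.asIdeal with hφ
  have hsurj : Function.Surjective φ := Ideal.Quotient.mk_surjective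
  let b : PrimeSpectrum (A ⧸ p.asIdeal) := ⟨⊥, Ideal.bot_prime⟩
  have hcb : PrimeSpectrum.comap φ b = p := by
    apply PrimeSpectrum.ext
    change Ideal.comap φ ⊥ = p.asIdeal
    rw [← RingHom.ker_eq_comap_bot, Ideal.mk_ker]
  have hpre : PrimeSpectrum.comap φ ⁻¹' {p} = {b} := by
    ext r
    simp only [mem_preimage, mem_singleton_iff]
    constructor
    · intro h
      exact PrimeSpectrum.comap_injective_of_surjective φ hsurj (h.trans hcb.symm)
    · rintro rfl
      exact hcb
  have hlc : IsLocallyClosed ({b} : Set (PrimeSpectrum (A ⧸ p.asIdeal))) := by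
    rw [← hpre]
    exact hp.preimage (PrimeSpectrum.continuous_comap φ)
  obtain ⟨U, Z, hU, hZ, hUZ⟩ := hlc
  have hbZ : b ∈ Z := (hUZ ▸ mem_singleton b : b ∈ U ∩ Z).2
  have hZuniv : Z = univ := by
    rw [eq_univ_iff_forall]
    intro r
    have : closure {b} ⊆ Z := hZ.closure_subset_iff.mpr (singleton_subset_iff.mpr hbZ)
    apply this
    rw [PrimeSpectrum.closure_singleton]
    change r ∈ PrimeSpectrum.zeroLocus ((⊥ : Ideal (A ⧸ p.asIdeal)) : Set (A ⧸ p.asIdeal))
    rw [PrimeSpectrum.mem_zeroLocus]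
    exact fun x hx => by
      rw [SetLike.mem_coe, Ideal.mem_bot] at hx
      rw [hx]
      exact Ideal.zero_mem _
  change IsOpen ({b} : Set (PrimeSpectrum (A ⧸ p.asIdeal)))
  rw [hUZ, hZuniv, inter_univ]
  exact hU

end Groth.Agent.Lib.helper7.Jac
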