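import Mathlib
import Groth.Agent.Lib.helper7.Lim8b

/-!
# Cofiltered limits of schemes with affine transition maps (EGA IV 8), part 3 — helper7 library

* `eventually_not_isReduced` (EGA IV 8.7.x): a non-reduced limit has eventually non-reduced stages.
-/

set_option autoImplicit false
universe u
open CategoryTheory CategoryTheory.Limits AlgebraicGeometry

namespace Groth.Agent.Lib.helper7.Lim8

variable {I : Type u} [SmallCategory I] (D : I ⥤ Scheme.{u}) (c : Cone D)

lemma eventually_not_isReduced_aux [IsCofiltered I] (hc : IsLimit c)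
    [∀ {i j : I} (f : i ⟶ j), IsAffineHom (D.map f)] (i₀ : I) {T : Scheme.{u}} [IsAffine T]
    (g : T ⟶ D.obj i₀) [IsOpenImmersion g] (hx : ¬ IsReduced (pullback (c.π.app i₀) g)) :
    ∃ (i : I), ∀ (j : I) (_ : j ⟶ i), ¬ IsReduced (D.obj j) := by
  have hπaff : IsAffineHom (c.π.app i₀) := isAffineHom_π_app D c hc i₀
  have hE := isLimitPbCone D c i₀ g hc
  have hsnd : IsAffineHom (pullback.snd (c.π.app i₀) g) :=
    MorphismProperty.pullback_snd (P := @IsAffineHom) _ _ hπaff
  have haffpt0 : IsAffine (pullback (c.π.app i₀) g) :=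
    isAffine_of_isAffineHom (pullback.snd (c.π.app i₀) g)
  have haffpt : IsAffine (pbCone D c i₀ g).pt := haffpt0
  have hx' : ¬ _root_.IsReduced Γ((pbCone D c i₀ g).pt, ⊤) := fun hr =>
    hx (isReduced_of_isAffine_isReduced (X := (pbCone D c i₀ g).pt))
  obtain ⟨a, ⟨n, hn⟩, ha⟩ : ∃ a : Γ((pbCone D c i₀ g).pt, ⊤), IsNilpotent a ∧ a ≠ 0 := by
    by_contra hne
    push Not at hne
    exact hx' ⟨fun a ha => hne a ha⟩
  obtain ⟨j, t, rfl⟩ := exists_appTop_π_eq_of_isAffine_of_isLimit (pbDiagram D i₀ g)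
    (pbCone D c i₀ g) hE a
  have h0 : ((pbCone D c i₀ g).π.app j).appTop (t ^ n) = 0 := by rw [map_pow, hn]
  obtain ⟨k, f, hk⟩ := exists_appTop_map_eq_zero_of_isAffine_of_isLimit (pbDiagram D i₀ g)
    (pbCone D c i₀ g) hE j (t ^ n) h0
  refine ⟨k.left, fun j' ψ hred => ?_⟩
  let k' : Over i₀ := Over.mk (ψ ≫ k.hom)
  let f' : k' ⟶ k := Over.homMk ψ rfl
  have hfst : IsOpenImmersion (pullback.fst (D.map k'.hom) g) :=
    MorphismProperty.pullback_fst (P := @IsOpenImmersion) (D.map k'.hom) g inferInstance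
  have hred1 : IsReduced (D.obj k'.left) := hred
  have hred0 : IsReduced (pullback (D.map k'.hom) g) :=
    isReduced_of_isOpenImmersion (pullback.fst (D.map k'.hom) g)
  have hred' : IsReduced ((pbDiagram D i₀ g).obj k') := hred0
  set t' := ((pbDiagram D i₀ g).map (f' ≫ f)).appTop t with ht'
  have h1 : t' ^ n = 0 := by
    rw [ht', ← map_pow, Functor.map_comp, Scheme.Hom.comp_appTop, CommRingCat.comp_apply, hk,
      map_zero]
  have h2 : t' = 0 := IsReduced.eq_zero _ ⟨n, h1⟩
  have h3 : ((pbCone D c i₀ g).π.app k').appTop t' = ((pbCone D c i₀ g).π.app j).appTop t := by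
    rw [ht', ← CommRingCat.comp_apply, ← Scheme.Hom.comp_appTop, (pbCone D c i₀ g).w]
  apply ha
  rw [← h3, h2, map_zero]

/-- If the limit is not reduced then the stages are eventually not reduced. -/
theorem eventually_not_isReduced [IsCofiltered I] (hc : IsLimit c)
    [∀ {i j : I} (f : i ⟶ j), IsAffineHom (D.map f)] (h : ¬ IsReduced c.pt) :
    ∃ (i : I), ∀ (j : I) (_ : j ⟶ i), ¬ IsReduced (D.obj j) := by
  obtain ⟨i₀⟩ := IsCofiltered.nonempty (C := I)
  let 𝒰 : c.pt.OpenCover := (D.obj i₀).affineCover.pullback₁ (c.π.app i₀)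
  have hex : ∃ x, ¬ IsReduced (𝒰.X x) := by
    by_contra hall
    push Not at hall
    have : ∀ x, IsReduced (𝒰.X x) := hall
    exact h (IsReduced.of_openCover _ 𝒰)
  obtain ⟨x, hx⟩ := hex
  exact eventually_not_isReduced_aux D c hc i₀ ((D.obj i₀).affineCover.f x) hx

end Groth.Agent.Lib.helper7.Lim8
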