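import Mathlib
import Groth.Agent.Lib.helper7.Lim8c
import Groth.Agent.Lib.helper7.Lim8d

/-!
# Cofiltered limits of schemes with affine transition maps (EGA IV 8), part 5 — helper7 library

* `surjective_π_app_iff`
* `isReduced_of_flat_of_surjective`: reducedness descends along flat surjective morphisms.
* `isReduced_iff_forall_of_flat_of_surjective`
-/

set_option autoImplicit false
universe u
open CategoryTheory CategoryTheory.Limits AlgebraicGeometry

namespace Groth.Agent.Lib.helper7.Lim8

/-- Reducedness descends along flat surjective morphisms. -/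
theorem isReduced_of_flat_of_surjective {X Y : Scheme.{u}} (f : X ⟶ Y) [Flat f] [Surjective f]
    [IsReduced X] : IsReduced Y := by
  have : ∀ y : Y, _root_.IsReduced (Y.presheaf.stalk y) := by
    intro y
    obtain ⟨x, rfl⟩ := f.surjective y
    have hflat : (f.stalkMap x).hom.Flat := Flat.stalkMap f x
    have hloc : IsLocalHom (f.stalkMap x).hom := inferInstance
    have hinj : Function.Injective (f.stalkMap x).hom := by
      algebraize [(f.stalkMap x).hom]
      have : Module.FaithfullyFlat (Y.presheaf.stalk (f x)) (X.presheaf.stalk x) :=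
        Module.FaithfullyFlat.of_flat_of_isLocalHom
      exact FaithfulSMul.algebraMap_injective (Y.presheaf.stalk (f x)) (X.presheaf.stalk x)
    exact isReduced_of_injective (f.stalkMap x).hom hinj
  exact isReduced_of_isReduced_stalk Y

variable {I : Type u} [SmallCategory I] (D : I ⥤ Scheme.{u}) (c : Cone D)

/-- **EGA IV 8.3.8 (i)**: `lim D ⟶ D i` is surjective iff all transition maps to `D i` are. -/
theorem surjective_π_app_iff [IsCofiltered I] (hc : IsLimit c)
    [∀ {i j : I} (f : i ⟶ j), IsAffineHom (D.map f)] (i : I) :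
    Surjective (c.π.app i) ↔ ∀ (j : I) (φ : j ⟶ i), Surjective (D.map φ) := by
  have key := range_π_app D c hc i
  constructor
  · intro h j φ
    refine ⟨fun x => ?_⟩
    obtain ⟨s, rfl⟩ := h.surj x
    refine ⟨c.π.app j s, ?_⟩
    rw [← Scheme.Hom.comp_apply, c.w]
  · intro h
    refine ⟨fun x => ?_⟩
    have : x ∈ Set.range ⇑(c.π.app i) := by
      rw [key]
      exact Set.mem_iInter₂.mpr fun j φ => (h j φ).surj x
    exact this

/-- **EGA IV 8.7.x**: with flat surjective transition maps, the limit is reduced iff all stages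
are. -/
theorem isReduced_iff_forall_of_flat_of_surjective [IsCofiltered I] (hc : IsLimit c)
    [∀ {i j : I} (f : i ⟶ j), IsAffineHom (D.map f)]
    (hf : ∀ (i j : I) (φ : i ⟶ j), Flat (D.map φ) ∧ Surjective (D.map φ)) :
    IsReduced c.pt ↔ ∀ (i : I), IsReduced (D.obj i) := by
  constructor
  · intro h i
    have h1 : Flat (c.π.app i) := flat_π_app D c hc i fun j φ => (hf j i φ).1
    have h2 : Surjective (c.π.app i) :=
      (surjective_π_app_iff D c hc i).mpr fun j φ => (hf j i φ).2
    have h3 : IsReduced (((Functor.const I).obj c.pt).obj i) := h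
    exact isReduced_of_flat_of_surjective (c.π.app i)
  · intro h
    by_contra hne
    obtain ⟨i, hi⟩ := eventually_not_isReduced D c hc hne
    exact hi i (𝟙 i) (h i)

/-- **EGA IV 8.7.x**: with flat surjective transition maps (and a quasi-compact stage), the limit
is integral iff the stages eventually are. -/
theorem isIntegral_iff_eventually_of_flat_of_surjective [IsCofiltered I] (hc : IsLimit c)
    [∀ {i j : I} (f : i ⟶ j), IsAffineHom (D.map f)] (i₀ : I) [CompactSpace (D.obj i₀)]
    (hf : ∀ (i j : I) (φ : i ⟶ j), Flat (D.map φ) ∧ Surjective (D.map φ)) :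
    IsIntegral c.pt ↔ ∃ (i : I) (_ : i ⟶ i₀), ∀ (j : I) (_ : j ⟶ i), IsIntegral (D.obj j) := by
  have hd : ∀ (i j : I) (φ : i ⟶ j), IsDominant (D.map φ) := fun i j φ =>
    have := (hf i j φ).2
    inferInstance
  constructor
  · intro h
    rw [isIntegral_iff_irreducibleSpace_and_isReduced] at h
    obtain ⟨i, f, hi⟩ := (irreducibleSpace_iff_eventually D c hc i₀ hd).mp h.1
    have hr := (isReduced_iff_forall_of_flat_of_surjective D c hc hf).mp h.2
    refine ⟨i, f, fun j g => ?_⟩
    rw [isIntegral_iff_irreducibleSpace_and_isReduced]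
    exact ⟨hi j g, hr j⟩
  · rintro ⟨i, f, hi⟩
    rw [isIntegral_iff_irreducibleSpace_and_isReduced]
    refine ⟨(irreducibleSpace_iff_eventually D c hc i₀ hd).mpr ⟨i, f, fun j g => ?_⟩, ?_⟩
    · exact ((isIntegral_iff_irreducibleSpace_and_isReduced _).mp (hi j g)).1
    · by_contra hne
      obtain ⟨i', hi'⟩ := eventually_not_isReduced D c hc hne
      exact hi' (IsCofiltered.min i i') (IsCofiltered.minToRight i i')
        ((isIntegral_iff_irreducibleSpace_and_isReduced _).mp
          (hi _ (IsCofiltered.minToLeft i i'))).2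

end Groth.Agent.Lib.helper7.Lim8
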