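import Mathlib
import Groth.Agent.Lib.helper7.Lim8

/-!
# Cofiltered limits of schemes with affine transition maps (EGA IV 8), part 6 — helper7 library

Irreducible / connected components of a limit with dominant transition maps (EGA IV 8.4.2).
-/

set_option autoImplicit false
universe u
open CategoryTheory CategoryTheory.Limits AlgebraicGeometry TopologicalSpace

namespace Groth.Agent.Lib.helper7.Lim8

section Topology

/-- Abstract form of EGA IV 8.4.2 (i). -/
lemma bijOn_irreducibleComponents {S T : Type*} [TopologicalSpace S] [TopologicalSpace T]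
    (π : S → T) (hπ : Continuous π) (hd : DenseRange π)
    (hfin : (irreducibleComponents S).Finite)
    (hsep : ∀ Ya ∈ irreducibleComponents S, ∀ Yb ∈ irreducibleComponents S,
      closure (π '' Ya) ⊆ closure (π '' Yb) → Ya = Yb) :
    Set.BijOn (fun Y : Set S => closure (π '' Y)) (irreducibleComponents S)
      (irreducibleComponents T) := by
  have hirr : ∀ Y ∈ irreducibleComponents S, IsIrreducible (closure (π '' Y)) := fun Y hY =>
    ((hY.1 : IsIrreducible Y).image π hπ.continuousOn).closure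
  have h1 : Set.range π ⊆ ⋃ Y ∈ irreducibleComponents S, closure (π '' Y) := by
    rintro _ ⟨s, rfl⟩
    exact Set.mem_biUnion (irreducibleComponent_mem_irreducibleComponents s)
      (subset_closure ⟨s, mem_irreducibleComponent, rfl⟩)
  have h2 : IsClosed (⋃ Y ∈ irreducibleComponents S, closure (π '' Y)) :=
    hfin.isClosed_biUnion fun _ _ => isClosed_closure
  have key : ∀ Z : Set T, IsIrreducible Z →
      ∃ Y ∈ irreducibleComponents S, Z ⊆ closure (π '' Y) := by
    intro Z hZ
    classical
    obtain ⟨z, hz, hZz⟩ := isIrreducible_iff_sUnion_isClosed.mp hZ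
      (hfin.image (fun Y : Set S => closure (π '' Y))).toFinset
      (by
        intro z hz
        rw [Set.Finite.mem_toFinset] at hz
        obtain ⟨Y, -, rfl⟩ := hz
        exact isClosed_closure)
      (by
        intro t _
        have ht : t ∈ ⋃ Y ∈ irreducibleComponents S, closure (π '' Y) :=
          closure_minimal h1 h2 (hd t)
        rw [Set.mem_iUnion₂] at ht
        obtain ⟨Y, hY, htY⟩ := ht
        refine Set.mem_sUnion.mpr ⟨closure (π '' Y), ?_, htY⟩
        rw [Set.Finite.coe_toFinset]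
        exact ⟨Y, hY, rfl⟩)
    rw [Set.Finite.mem_toFinset] at hz
    obtain ⟨Y, hY, rfl⟩ := hz
    exact ⟨Y, hY, hZz⟩
  refine ⟨?_, ?_, ?_⟩
  · intro Y hY
    refine ⟨hirr Y hY, fun Z hZ hYZ => ?_⟩
    obtain ⟨Y', hY', hZY'⟩ := key Z hZ
    have : Y = Y' := hsep Y hY Y' hY' (hYZ.trans hZY')
    subst this
    exact hZY'
  · intro Y hY Y' hY' h
    exact hsep Y hY Y' hY' (le_of_eq h)
  · intro Z hZ
    obtain ⟨Y, hY, hZY⟩ := key Z hZ.1
    exact ⟨Y, hY, Set.Subset.antisymm (hZ.2 (hirr Y hY) hZY) hZY⟩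

/-- A Noetherian space has finitely many connected components. -/
lemma finite_range_connectedComponent (X : Type*) [TopologicalSpace X] [NoetherianSpace X] :
    (Set.range (connectedComponent : X → Set X)).Finite := by
  have hfin := NoetherianSpace.finite_irreducibleComponents (α := X)
  refine (hfin.image (fun Y : Set X => ⋃ y ∈ Y, connectedComponent y)).subset ?_
  rintro _ ⟨x, rfl⟩
  refine ⟨irreducibleComponent x, irreducibleComponent_mem_irreducibleComponents x, ?_⟩
  apply Set.Subset.antisymm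
  · refine Set.iUnion₂_subset fun y hy => ?_
    have hsub : irreducibleComponent x ⊆ connectedComponent x :=
      (isIrreducible_irreducibleComponent (x := x)).isPreirreducible.isPreconnected
        |>.subset_connectedComponent mem_irreducibleComponent
    rw [connectedComponent_eq (hsub hy)]
  · exact Set.subset_biUnion_of_mem (u := fun y => connectedComponent y)
      (mem_irreducibleComponent (x := x))

/-- In a Noetherian space, connected components are open. -/
lemma isOpen_connectedComponent_of_noetherianSpace {X : Type*} [TopologicalSpace X]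
    [NoetherianSpace X] (x : X) : IsOpen (connectedComponent x) := by
  have hfin := finite_range_connectedComponent X
  have : (connectedComponent x)ᶜ =
      ⋃ C ∈ (Set.range (connectedComponent : X → Set X) \ {connectedComponent x}), C := by
    ext y
    simp only [Set.mem_compl_iff, Set.mem_iUnion, exists_prop]
    constructor
    · intro hy
      refine ⟨connectedComponent y, ⟨⟨y, rfl⟩, fun h => hy ?_⟩, mem_connectedComponent⟩
      rw [Set.mem_singleton_iff] at h
      rw [← h]
      exact mem_connectedComponent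
    · rintro ⟨_, ⟨⟨z, rfl⟩, hne⟩, hyz⟩ hyx
      apply hne
      rw [Set.mem_singleton_iff, connectedComponent_eq hyz, connectedComponent_eq hyx]
  rw [← isClosed_compl_iff, this]
  refine (hfin.subset Set.sdiff_subset).isClosed_biUnion ?_
  rintro _ ⟨⟨z, rfl⟩, -⟩
  exact isClosed_connectedComponent

/-- Abstract form of EGA IV 8.4.2 (ii). -/
lemma bijOn_connectedComponents {S T : Type*} [TopologicalSpace S] [TopologicalSpace T]
    (π : S → T) (hπ : Continuous π) (hd : DenseRange π)
    (hfin : (Set.range (connectedComponent : S → Set S)).Finite)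
    (hsep : ∀ s : S, ∃ V : Set T, IsClopen V ∧ π ⁻¹' V = connectedComponent s) :
    Set.BijOn (fun C : Set S => closure (π '' C)) (Set.range connectedComponent)
      (Set.range connectedComponent) := by
  have key : ∀ s : S, ∀ V : Set T, IsClopen V → π ⁻¹' V = connectedComponent s →
      closure (π '' connectedComponent s) = V ∧ V = connectedComponent (π s) := by
    intro s V hV hVs
    have h1 : closure (π '' connectedComponent s) = V := by
      apply Set.Subset.antisymm
      · apply closure_minimal _ hV.isClosed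
        rintro _ ⟨t, ht, rfl⟩
        rw [← hVs] at ht
        exact ht
      · refine (hd.open_subset_closure_inter hV.isOpen).trans (closure_mono ?_)
        rintro _ ⟨hv, ⟨t, rfl⟩⟩
        exact ⟨t, by rw [← hVs]; exact hv, rfl⟩
    have h2 : IsPreconnected V := by
      rw [← h1]
      exact ((isPreconnected_connectedComponent).image π hπ.continuousOn).closure
    have h3 : π s ∈ V := by
      have : s ∈ π ⁻¹' V := hVs ▸ mem_connectedComponent
      exact this
    exact ⟨h1, Set.Subset.antisymm (h2.subset_connectedComponent h3)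
      (hV.connectedComponent_subset h3)⟩
  have key' : ∀ s : S, closure (π '' connectedComponent s) = connectedComponent (π s) := by
    intro s
    obtain ⟨V, hV, hVs⟩ := hsep s
    obtain ⟨h1, h2⟩ := key s V hV hVs
    rw [h1, h2]
  refine ⟨?_, ?_, ?_⟩
  · rintro _ ⟨s, rfl⟩
    exact ⟨π s, (key' s).symm⟩
  · rintro _ ⟨s, rfl⟩ _ ⟨s', rfl⟩ h
    dsimp only at h
    rw [key', key'] at h
    obtain ⟨V, hV, hVs⟩ := hsep s
    obtain ⟨-, h2⟩ := key s V hV hVs
    have h4 : π s' ∈ V := by
      rw [h2, h]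
      exact mem_connectedComponent
    have : s' ∈ connectedComponent s := by
      rw [← hVs]
      exact h4
    exact connectedComponent_eq this
  · rintro _ ⟨t, rfl⟩
    have h1 : Set.range π ⊆
        ⋃ C ∈ Set.range (connectedComponent : S → Set S), closure (π '' C) := by
      rintro _ ⟨s, rfl⟩
      exact Set.mem_biUnion ⟨s, rfl⟩ (subset_closure ⟨s, mem_connectedComponent, rfl⟩)
    have h2 : IsClosed (⋃ C ∈ Set.range (connectedComponent : S → Set S), closure (π '' C)) :=
      hfin.isClosed_biUnion fun _ _ => isClosed_closure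
    have h3 : t ∈ ⋃ C ∈ Set.range (connectedComponent : S → Set S), closure (π '' C) :=
      closure_minimal h1 h2 (hd t)
    rw [Set.mem_iUnion₂] at h3
    obtain ⟨_, ⟨s, rfl⟩, hts⟩ := h3
    refine ⟨connectedComponent s, ⟨s, rfl⟩, ?_⟩
    dsimp only
    rw [key'] at hts ⊢
    exact connectedComponent_eq hts

end Topology

variable {I : Type u} [SmallCategory I] (D : I ⥤ Scheme.{u}) (c : Cone D)

/-- **EGA IV 8.4.2 (i)**, irreducible components. -/
theorem exists_bijOn_irreducibleComponents [IsCofiltered I] (hc : IsLimit c)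
    [∀ {i j : I} (f : i ⟶ j), IsAffineHom (D.map f)] (i₀ : I)
    [NoetherianSpace c.pt] (hd : ∀ (i j : I) (φ : i ⟶ j), IsDominant (D.map φ)) :
    ∃ (i : I) (_ : i ⟶ i₀), ∀ (j : I) (_ : j ⟶ i),
      Set.BijOn (fun Y : Set c.pt => closure (⇑(c.π.app j) '' (Y : Set c.pt) : Set (D.obj j)))
        (irreducibleComponents c.pt) (irreducibleComponents (D.obj j)) := by
  classical
  have hfin := NoetherianSpace.finite_irreducibleComponents (α := c.pt)
  have step1 : ∀ Ya Yb : Set c.pt, ∃ k : I, Ya ∈ irreducibleComponents c.pt →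
      Yb ∈ irreducibleComponents c.pt → Ya ≠ Yb → ∀ (j : I) (_ : j ⟶ k),
      ¬ closure (⇑(c.π.app j) '' Ya) ⊆ closure (⇑(c.π.app j) '' Yb) := by
    intro Ya Yb
    by_cases h : Ya ∈ irreducibleComponents c.pt ∧ Yb ∈ irreducibleComponents c.pt ∧ Ya ≠ Yb
    · obtain ⟨hYa, hYb, hne⟩ := h
      have hnsub : ¬ Ya ⊆ Yb := fun hsub =>
        hne (Set.Subset.antisymm hsub (hYa.2 hYb.1 hsub))
      obtain ⟨s, hsa, hsb⟩ := Set.not_subset.mp hnsub
      have hYbc : IsClosed Yb := isClosed_of_mem_irreducibleComponents Yb hYb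
      obtain ⟨k, ψ, V, hsV, hVu⟩ := exists_basic_open_over D c hc i₀ hYbc.isOpen_compl
        (show s ∈ Ybᶜ from hsb)
      refine ⟨k, fun _ _ _ j f hsub => ?_⟩
      have h1 : c.π.app j s ∈ closure (⇑(c.π.app j) '' Yb) :=
        hsub (subset_closure ⟨s, hsa, rfl⟩)
      rw [mem_closure_iff] at h1
      obtain ⟨_, hyW, ⟨t, htb, rfl⟩⟩ := h1 (⇑(D.map f) ⁻¹' (V : Set (D.obj k)))
        (V.2.preimage (D.map f).continuous)
        (by rw [Set.mem_preimage, π_app_apply]; exact hsV)
      rw [Set.mem_preimage, π_app_apply] at hyW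
      exact hVu hyW htb
    · obtain ⟨k⟩ := IsCofiltered.nonempty (C := I)
      exact ⟨k, fun h1 h2 h3 => absurd ⟨h1, h2, h3⟩ h⟩
  choose k hk using step1
  let O : Finset I := insert i₀ ((hfin.prod hfin).toFinset.image fun p => k p.1 p.2)
  obtain ⟨i, hi⟩ := IsCofiltered.inf_objs_exists O
  obtain ⟨f₀⟩ := hi (Finset.mem_insert_self i₀ _)
  refine ⟨i, f₀, fun j g => ?_⟩
  have hdom : IsDominant (c.π.app j) :=
    (isDominant_π_app_iff D c hc j).mpr fun j' φ => hd j' j φ
  refine bijOn_irreducibleComponents _ (c.π.app j).continuous hdom.denseRange hfin ?_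
  intro Ya hYa Yb hYb hsub
  by_contra hne
  have hmem : k Ya Yb ∈ O := by
    refine Finset.mem_insert_of_mem (Finset.mem_image.mpr ⟨(Ya, Yb), ?_, rfl⟩)
    rw [Set.Finite.mem_toFinset]
    exact ⟨hYa, hYb⟩
  obtain ⟨f⟩ := hi hmem
  exact hk Ya Yb hYa hYb hne j (g ≫ f) hsub

/-- Clopen subsets of the limit descend to clopen subsets of all sufficiently fine stages. -/
lemma exists_isClopen_preimage_eq [IsCofiltered I] (hc : IsLimit c)
    [∀ {i j : I} (f : i ⟶ j), IsAffineHom (D.map f)] (i₀ : I) [CompactSpace (D.obj i₀)]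
    (hd : ∀ (i j : I) (φ : i ⟶ j), IsDominant (D.map φ)) {u : Set c.pt} (hu : IsClopen u) :
    ∃ (i : I) (_ : i ⟶ i₀), ∀ (j : I) (_ : j ⟶ i), ∃ W : Set (D.obj j), IsClopen W ∧
      ⇑(c.π.app j) ⁻¹' W = u := by
  have hcpt : CompactSpace c.pt := compactSpace_pt D c hc i₀
  have huc : IsCompact u := hu.isClosed.isCompact
  have hvc : IsCompact uᶜ := hu.compl.isClosed.isCompact
  obtain ⟨k, φ, V₁, V₂, hV₁, hV₂, e₁', e₂'⟩ :=
    exists_preimage_eq_over₂ D c hc i₀ ⟨u, hu.isOpen⟩ ⟨uᶜ, hu.compl.isOpen⟩ huc hvc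
  have e₁ : (⇑(c.π.app k) ⁻¹' (V₁ : Set (D.obj k)) : Set c.pt) = u := e₁'
  have e₂ : (⇑(c.π.app k) ⁻¹' (V₂ : Set (D.obj k)) : Set c.pt) = uᶜ := e₂'
  have hk : CompactSpace (D.obj k) := compactSpace_obj D φ
  obtain ⟨j, ψ, h2⟩ := exists_map_preimage_le_map_preimage D c hc (U := ⊤) (V := V₁ ⊔ V₂)
    isCompact_univ
    (by
      intro s _
      by_cases hs : s ∈ u
      · left; rw [← e₁] at hs; exact hs
      · right
        have hs' : s ∈ uᶜ := hs
        rw [← e₂] at hs'; exact hs')
  refine ⟨j, ψ ≫ φ, fun j' g => ⟨⇑(D.map (g ≫ ψ)) ⁻¹' (V₁ : Set (D.obj k)), ?_, ?_⟩⟩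
  · have hdom : IsDominant (c.π.app j') :=
      (isDominant_π_app_iff D c hc j').mpr fun j'' φ' => hd j'' j' φ'
    have hcompl : (⇑(D.map (g ≫ ψ)) ⁻¹' (V₁ : Set (D.obj k)))ᶜ =
        ⇑(D.map (g ≫ ψ)) ⁻¹' (V₂ : Set (D.obj k)) := by
      apply Set.Subset.antisymm
      · intro y hy
        have h3 : D.map ψ (D.map g y) ∈ V₁ ⊔ V₂ :=
          h2 (show D.map g y ∈ D.map ψ ⁻¹ᵁ ⊤ from trivial)
        rw [← map_comp_apply] at h3
        rcases h3 with h3 | h3
        · exact absurd h3 hy
        · exact h3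
      · intro y hy₂ hy₁
        have hopen : IsOpen (⇑(D.map (g ≫ ψ)) ⁻¹' ((V₁ : Set (D.obj k)) ∩ V₂)) :=
          (V₁.2.inter V₂.2).preimage (D.map (g ≫ ψ)).continuous
        obtain ⟨_, ⟨hz₁, hz₂⟩, ⟨t, rfl⟩⟩ := dense_iff_inter_open.mp hdom.denseRange _ hopen
          ⟨y, hy₁, hy₂⟩
        rw [π_app_apply] at hz₁ hz₂
        have ht₁ : t ∈ u := by rw [← e₁]; exact hz₁
        have ht₂ : t ∈ uᶜ := by rw [← e₂]; exact hz₂
        exact ht₂ ht₁
    refine ⟨?_, V₁.2.preimage (D.map (g ≫ ψ)).continuous⟩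
    rw [← isOpen_compl_iff, hcompl]
    exact V₂.2.preimage (D.map (g ≫ ψ)).continuous
  · rw [π_preimage_map_preimage, e₁]

/-- **EGA IV 8.4.2 (ii)**, connected components. -/
theorem exists_bijOn_connectedComponents [IsCofiltered I] (hc : IsLimit c)
    [∀ {i j : I} (f : i ⟶ j), IsAffineHom (D.map f)] (i₀ : I) [CompactSpace (D.obj i₀)]
    [NoetherianSpace c.pt] (hd : ∀ (i j : I) (φ : i ⟶ j), IsDominant (D.map φ)) :
    ∃ (i : I) (_ : i ⟶ i₀), ∀ (j : I) (_ : j ⟶ i),
      Set.BijOn (fun C : Set c.pt => closure (⇑(c.π.app j) '' (C : Set c.pt) : Set (D.obj j)))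
        (Set.range (connectedComponent : c.pt → Set c.pt))
        (Set.range (connectedComponent : D.obj j → Set (D.obj j))) := by
  classical
  have hfin := finite_range_connectedComponent c.pt
  have step1 : ∀ C : Set c.pt, ∃ k : I, C ∈ Set.range (connectedComponent : c.pt → Set c.pt) →
      ∀ (j : I) (_ : j ⟶ k), ∃ W : Set (D.obj j), IsClopen W ∧ ⇑(c.π.app j) ⁻¹' W = C := by
    intro C
    by_cases h : C ∈ Set.range (connectedComponent : c.pt → Set c.pt)
    · obtain ⟨s, rfl⟩ := h
      obtain ⟨i, -, hi⟩ := exists_isClopen_preimage_eq D c hc i₀ hd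
        (u := connectedComponent s)
        ⟨isClosed_connectedComponent, isOpen_connectedComponent_of_noetherianSpace s⟩
      exact ⟨i, fun _ => hi⟩
    · obtain ⟨k⟩ := IsCofiltered.nonempty (C := I)
      exact ⟨k, fun h1 => absurd h1 h⟩
  choose k hk using step1
  let O : Finset I := insert i₀ (hfin.toFinset.image k)
  obtain ⟨i, hi⟩ := IsCofiltered.inf_objs_exists O
  obtain ⟨f₀⟩ := hi (Finset.mem_insert_self i₀ _)
  refine ⟨i, f₀, fun j g => ?_⟩
  have hdom : IsDominant (c.π.app j) :=
    (isDominant_π_app_iff D c hc j).mpr fun j' φ => hd j' j φ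
  refine bijOn_connectedComponents _ (c.π.app j).continuous hdom.denseRange hfin ?_
  intro s
  have hmem : k (connectedComponent s) ∈ O := by
    refine Finset.mem_insert_of_mem (Finset.mem_image.mpr ⟨connectedComponent s, ?_, rfl⟩)
    rw [Set.Finite.mem_toFinset]
    exact ⟨s, rfl⟩
  obtain ⟨f⟩ := hi hmem
  exact hk (connectedComponent s) ⟨s, rfl⟩ j (g ≫ f)

end Groth.Agent.Lib.helper7.Lim8
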