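import Mathlib
import Groth.Agent.Lib.helper7.Lim8f

/-!
# Cofiltered limits of schemes with affine transition maps (EGA IV 8), part 7 — helper7 library

Components of a limit whose transition maps are topological embeddings (EGA IV 8.4.x):
the projections are eventually dominant, so the dominant case applies to the system over a stage.
-/

set_option autoImplicit false
universe u
open CategoryTheory CategoryTheory.Limits AlgebraicGeometry TopologicalSpace

namespace Groth.Agent.Lib.helper7.Lim8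

variable {I : Type u} [SmallCategory I] (D : I ⥤ Scheme.{u}) (c : Cone D)

/-- If the transition maps are embeddings and a stage is a Noetherian space, the projections from
the limit are eventually dominant. -/
theorem exists_forall_isDominant_π_app_of_isEmbedding [IsCofiltered I] (hc : IsLimit c)
    [∀ {i j : I} (f : i ⟶ j), IsAffineHom (D.map f)] (i₀ : I) [NoetherianSpace (D.obj i₀)]
    (he : ∀ (i j : I) (φ : i ⟶ j), Topology.IsEmbedding ⇑(D.map φ)) :
    ∃ (j₀ : I) (_ : j₀ ⟶ i₀), ∀ (j : I) (_ : j ⟶ j₀), IsDominant (c.π.app j) := by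
  let W : (D.obj i₀).Opens := ⟨(closure (Set.range ⇑(c.π.app i₀)))ᶜ, isClosed_closure.isOpen_compl⟩
  have hWc : IsCompact (W : Set (D.obj i₀)) := NoetherianSpace.isCompact _
  obtain ⟨j₀, φ₀, h0⟩ := exists_map_preimage_le_map_preimage D c hc (U := W) (V := ⊥) hWc
    (by
      intro s hs
      exact (hs (subset_closure (Set.mem_range_self s))).elim)
  refine ⟨j₀, φ₀, fun j g => ⟨?_⟩⟩
  rw [DenseRange, dense_iff_inter_open]
  rintro O hO ⟨y, hy⟩
  obtain ⟨O', hO', rfl⟩ := (he j i₀ (g ≫ φ₀)).isInducing.isOpen_iff.mp hO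
  have hy' : D.map (g ≫ φ₀) y ∈ closure (Set.range ⇑(c.π.app i₀)) := by
    by_contra hn
    have : D.map g y ∈ D.map φ₀ ⁻¹ᵁ W := by
      change D.map φ₀ (D.map g y) ∈ (closure (Set.range ⇑(c.π.app i₀)))ᶜ
      rw [← map_comp_apply]
      exact hn
    exact h0 this
  obtain ⟨_, hzO, ⟨s, rfl⟩⟩ := mem_closure_iff.mp hy' O' hO' hy
  refine ⟨c.π.app j s, ?_, ⟨s, rfl⟩⟩
  rw [Set.mem_preimage, π_app_apply]
  exact hzO

section Over

variable (j₀ : I)

/-- The system restricted to the stages over `j₀` has affine transition maps. -/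
lemma isAffineHom_over_map [∀ {i j : I} (f : i ⟶ j), IsAffineHom (D.map f)] {i j : Over j₀}
    (f : i ⟶ j) : IsAffineHom ((Over.forget j₀ ⋙ D).map f) := by
  dsimp
  infer_instance

/-- **EGA IV 8.4.2 (i)** with eventually dominant projections. -/
theorem exists_bijOn_irreducibleComponents_of_eventually [IsCofiltered I] (hc : IsLimit c)
    [∀ {i j : I} (f : i ⟶ j), IsAffineHom (D.map f)] [NoetherianSpace c.pt]
    (hdom : ∀ (j : I) (_ : j ⟶ j₀), IsDominant (c.π.app j)) :
    ∃ (i : I) (_ : i ⟶ j₀), ∀ (j : I) (_ : j ⟶ i),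
      Set.BijOn (fun Y : Set c.pt => closure (⇑(c.π.app j) '' (Y : Set c.pt) : Set (D.obj j)))
        (irreducibleComponents c.pt) (irreducibleComponents (D.obj j)) := by
  have haff : ∀ {i j : Over j₀} (f : i ⟶ j), IsAffineHom ((Over.forget j₀ ⋙ D).map f) :=
    fun f => isAffineHom_over_map D j₀ f
  have hN : NoetherianSpace (c.whisker (Over.forget j₀)).pt := ‹NoetherianSpace c.pt›
  have hd : ∀ (i j : Over j₀) (φ : i ⟶ j), IsDominant ((Over.forget j₀ ⋙ D).map φ) := by
    intro i j φ
    have h1 : IsDominant (c.π.app i.left ≫ D.map φ.left) := by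
      rw [c.w]
      exact hdom j.left j.hom
    exact IsDominant.of_comp (f := c.π.app i.left) (g := D.map φ.left)
  obtain ⟨i, -, hi⟩ := exists_bijOn_irreducibleComponents (Over.forget j₀ ⋙ D)
    (c.whisker (Over.forget j₀))
    ((Functor.Initial.isLimitWhiskerEquiv (Over.forget j₀) c).symm hc) (Over.mk (𝟙 j₀)) hd
  refine ⟨i.left, i.hom, fun j g => ?_⟩
  exact hi (Over.mk (g ≫ i.hom)) (Over.homMk g rfl)

/-- **EGA IV 8.4.2 (ii)** with eventually dominant projections. -/
theorem exists_bijOn_connectedComponents_of_eventually [IsCofiltered I] (hc : IsLimit c)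
    [∀ {i j : I} (f : i ⟶ j), IsAffineHom (D.map f)] [CompactSpace (D.obj j₀)]
    [NoetherianSpace c.pt]
    (hdom : ∀ (j : I) (_ : j ⟶ j₀), IsDominant (c.π.app j)) :
    ∃ (i : I) (_ : i ⟶ j₀), ∀ (j : I) (_ : j ⟶ i),
      Set.BijOn (fun C : Set c.pt => closure (⇑(c.π.app j) '' (C : Set c.pt) : Set (D.obj j)))
        (Set.range (connectedComponent : c.pt → Set c.pt))
        (Set.range (connectedComponent : D.obj j → Set (D.obj j))) := by
  have haff : ∀ {i j : Over j₀} (f : i ⟶ j), IsAffineHom ((Over.forget j₀ ⋙ D).map f) :=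
    fun f => isAffineHom_over_map D j₀ f
  have hN : NoetherianSpace (c.whisker (Over.forget j₀)).pt := ‹NoetherianSpace c.pt›
  have hC : CompactSpace ((Over.forget j₀ ⋙ D).obj (Over.mk (𝟙 j₀))) :=
    ‹CompactSpace (D.obj j₀)›
  have hd : ∀ (i j : Over j₀) (φ : i ⟶ j), IsDominant ((Over.forget j₀ ⋙ D).map φ) := by
    intro i j φ
    have h1 : IsDominant (c.π.app i.left ≫ D.map φ.left) := by
      rw [c.w]
      exact hdom j.left j.hom
    exact IsDominant.of_comp (f := c.π.app i.left) (g := D.map φ.left)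
  obtain ⟨i, -, hi⟩ := exists_bijOn_connectedComponents (Over.forget j₀ ⋙ D)
    (c.whisker (Over.forget j₀))
    ((Functor.Initial.isLimitWhiskerEquiv (Over.forget j₀) c).symm hc) (Over.mk (𝟙 j₀)) hd
  refine ⟨i.left, i.hom, fun j g => ?_⟩
  exact hi (Over.mk (g ≫ i.hom)) (Over.homMk g rfl)

end Over

/-- **EGA IV 8.4.x (i)**: irreducible components, transition maps embeddings. -/
theorem exists_bijOn_irreducibleComponents_of_isEmbedding [IsCofiltered I] (hc : IsLimit c)
    [∀ {i j : I} (f : i ⟶ j), IsAffineHom (D.map f)] (i₀ : I) [NoetherianSpace (D.obj i₀)]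
    [NoetherianSpace c.pt] (he : ∀ (i j : I) (φ : i ⟶ j), Topology.IsEmbedding ⇑(D.map φ)) :
    ∃ (i : I) (_ : i ⟶ i₀), ∀ (j : I) (_ : j ⟶ i),
      Set.BijOn (fun Y : Set c.pt => closure (⇑(c.π.app j) '' (Y : Set c.pt) : Set (D.obj j)))
        (irreducibleComponents c.pt) (irreducibleComponents (D.obj j)) := by
  obtain ⟨j₀, φ₀, hdom⟩ := exists_forall_isDominant_π_app_of_isEmbedding D c hc i₀ he
  obtain ⟨i, f, hi⟩ := exists_bijOn_irreducibleComponents_of_eventually D c j₀ hc hdom
  exact ⟨i, f ≫ φ₀, hi⟩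

/-- **EGA IV 8.4.x (ii)**: connected components, transition maps embeddings. -/
theorem exists_bijOn_connectedComponents_of_isEmbedding [IsCofiltered I] (hc : IsLimit c)
    [∀ {i j : I} (f : i ⟶ j), IsAffineHom (D.map f)] (i₀ : I) [NoetherianSpace (D.obj i₀)]
    [NoetherianSpace c.pt] (he : ∀ (i j : I) (φ : i ⟶ j), Topology.IsEmbedding ⇑(D.map φ)) :
    ∃ (i : I) (_ : i ⟶ i₀), ∀ (j : I) (_ : j ⟶ i),
      Set.BijOn (fun C : Set c.pt => closure (⇑(c.π.app j) '' (C : Set c.pt) : Set (D.obj j)))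
        (Set.range (connectedComponent : c.pt → Set c.pt))
        (Set.range (connectedComponent : D.obj j → Set (D.obj j))) := by
  obtain ⟨j₀, φ₀, hdom⟩ := exists_forall_isDominant_π_app_of_isEmbedding D c hc i₀ he
  have hcpt : CompactSpace (D.obj j₀) := compactSpace_obj D φ₀
  obtain ⟨i, f, hi⟩ := exists_bijOn_connectedComponents_of_eventually D c j₀ hc hdom
  exact ⟨i, f ≫ φ₀, hi⟩

end Groth.Agent.Lib.helper7.Lim8
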