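import Mathlib

/-!
Helper lemmas (helper7): spaces in which every point has a Noetherian open neighbourhood.
-/

namespace Groth.Agent.Lib.helper7

open TopologicalSpace AlgebraicGeometry CategoryTheory

universe u

/-- In a space where every point has a Noetherian open neighbourhood, every subset of a compact
set is compact. -/
theorem isCompact_of_subset_of_locallyNoetherianSpace {T : Type*} [TopologicalSpace T]
    (h : ∀ x : T, ∃ U : Opens T, x ∈ U ∧ NoetherianSpace U)
    {K : Set T} (hK : IsCompact K) {t : Set T} (ht : t ⊆ K) : IsCompact t := by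
  choose U hxU hU using h
  obtain ⟨s, hs⟩ := hK.elim_finite_subcover (fun x : T => (U x : Set T)) (fun x => (U x).isOpen)
    (fun x _ => Set.mem_iUnion.mpr ⟨x, hxU x⟩)
  have e : t = ⋃ x ∈ s, (t ∩ (U x : Set T)) := by
    ext y
    simp only [Set.mem_iUnion, Set.mem_inter_iff, exists_and_left, exists_prop]
    constructor
    · intro hy
      have := hs (ht hy)
      simp only [Set.mem_iUnion, exists_prop] at this
      exact ⟨hy, this⟩
    · exact fun hy => hy.1
  rw [e]
  refine s.isCompact_biUnion fun x _ => ?_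
  exact (noetherianSpace_set_iff _).mp (hU x) _ Set.inter_subset_right

/-- A locally Noetherian scheme has a locally Noetherian underlying space. -/
theorem exists_noetherianSpace_nhd_of_isLocallyNoetherian (X : Scheme.{u}) [IsLocallyNoetherian X]
    (x : X) : ∃ U : X.Opens, x ∈ U ∧ NoetherianSpace U := by
  obtain ⟨U, hU, hxU, _⟩ := exists_isAffineOpen_mem_and_subset (U := ⊤) (x := x) (by simp)
  have : IsNoetherianRing Γ(X, U) := IsLocallyNoetherian.component_noetherian ⟨U, hU⟩
  exact ⟨U, hxU, noetherianSpace_of_isAffineOpen U hU⟩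

/-- If `f ≫ g` is quasi-compact and the source has a locally Noetherian underlying space, then
`f` is quasi-compact. -/
theorem quasiCompact_of_comp_of_locallyNoetherianSpace {X Y Z : Scheme.{u}} (f : X ⟶ Y) (g : Y ⟶ Z)
    [QuasiCompact (f ≫ g)]
    (hX : ∀ x : X, ∃ U : X.Opens, x ∈ U ∧ NoetherianSpace U) : QuasiCompact f := by
  refine ⟨fun V hV hVc => ?_⟩
  -- cover `V` by preimages of affine opens of `Z`
  have hW : ∀ y : Y, ∃ W : Z.Opens, IsAffineOpen W ∧ g y ∈ W := fun y => by
    obtain ⟨W, hW, hyW, _⟩ := exists_isAffineOpen_mem_and_subset (U := ⊤) (x := g y) (by simp)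
    exact ⟨W, hW, hyW⟩
  choose W hWaff hyW using hW
  obtain ⟨s, hs⟩ := hVc.elim_finite_subcover (fun y : Y => g ⁻¹' (W y : Set Z))
    (fun y => (W y).isOpen.preimage g.continuous)
    (fun y _ => Set.mem_iUnion.mpr ⟨y, hyW y⟩)
  have hK : IsCompact (⋃ y ∈ s, (f ≫ g) ⁻¹' (W y : Set Z)) :=
    s.isCompact_biUnion fun y _ =>
      QuasiCompact.isCompact_preimage (f := f ≫ g) _ (W y).isOpen (hWaff y).isCompact
  refine isCompact_of_subset_of_locallyNoetherianSpace hX hK ?_
  intro x hx
  have := hs hx
  simp only [Set.mem_iUnion, Set.mem_preimage, exists_prop] at this ⊢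
  obtain ⟨y, hy, hxy⟩ := this
  exact ⟨y, hy, by simpa using hxy⟩

end Groth.Agent.Lib.helper7
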