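import Mathlib
import Groth.Prelude.Def_ProCons
import Groth.Agent.Lib.helper7.PC7
import Groth.Agent.Lib.helper23.ProConsLib

/-!
# Open morphisms of schemes are generalizing
-/

set_option autoImplicit false
universe u

namespace Groth.Agent.Lib.helper7.PC

open Topology Set TopologicalSpace CategoryTheory AlgebraicGeometry

/-- An open morphism of schemes lifts generizations. -/
theorem generalizingMap_of_isOpenMap {X Y : Scheme.{u}} (f : X ⟶ Y) (hf : IsOpenMap f) :
    GeneralizingMap f := by
  intro x y' hy'
  have hZ : ProCons.IsProConstructible (f ⁻¹' {y'}) :=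
    Groth.Agent.Lib.helper23.ProConsLib.isProConstructible_preimage f {y'}
      (isProConstructible_singleton y')
  have hcl : x ∈ closure (f ⁻¹' {y'}) := by
    rw [mem_closure_iff]
    intro U hU hxU
    have h1 : IsOpen (f '' U) := hf U hU
    have h2 : y' ∈ f '' U := hy'.mem_open h1 ⟨x, hxU, rfl⟩
    obtain ⟨u, huU, hu⟩ := h2
    exact ⟨u, huU, hu⟩
  obtain ⟨z, hz, hzx⟩ := exists_specializes_of_mem_closure_of_isProConstructible hZ hcl
  exact ⟨z, hzx, hz⟩

end Groth.Agent.Lib.helper7.PC
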