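import Mathlib

/-! Quasi-separated morphisms via affine opens (helper7). -/

universe u

open AlgebraicGeometry CategoryTheory TopologicalSpace

namespace Groth.Agent.Lib.helper7.QSep

variable {X S : Scheme.{u}}

theorem isQuasiSeparated_of_affine_inter (s : Set X)
    (H : ∀ U V : X.affineOpens, (U : Set X) ⊆ s → (V : Set X) ⊆ s → IsCompact ((U : Set X) ∩ (V : Set X))) :
    IsQuasiSeparated s := by
  intro U V hUs hUo hUc hVs hVo hVc
  obtain ⟨sU, hsU, rfl⟩ := isCompact_and_isOpen_iff_finite_and_eq_biUnion_affineOpens.mp ⟨hUc, hUo⟩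
  obtain ⟨sV, hsV, rfl⟩ := isCompact_and_isOpen_iff_finite_and_eq_biUnion_affineOpens.mp ⟨hVc, hVo⟩
  rw [Set.iUnion₂_inter]
  refine hsU.isCompact_biUnion fun i hi => ?_
  rw [Set.inter_iUnion₂]
  refine hsV.isCompact_biUnion fun j hj => ?_
  exact H i j ((Set.subset_biUnion_of_mem (u := fun i : X.affineOpens => (i : Set X)) hi).trans hUs)
    ((Set.subset_biUnion_of_mem (u := fun i : X.affineOpens => (i : Set X)) hj).trans hVs)

theorem quasiSeparated_iff_isQuasiSeparated_preimage (f : X ⟶ S) :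
    QuasiSeparated f ↔ ∀ W : S.affineOpens, IsQuasiSeparated (f ⁻¹ᵁ (W : S.Opens) : Set X) := by
  constructor
  · intro h W
    exact f.isQuasiSeparated_preimage W.2.isQuasiSeparated
  · intro h
    rw [HasAffineProperty.eq_targetAffineLocally @QuasiSeparated]
    intro W
    exact (isQuasiSeparated_iff_quasiSeparatedSpace _ (f ⁻¹ᵁ (W : S.Opens)).2).mp (h W)

end Groth.Agent.Lib.helper7.QSep
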