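import Mathlib
import Groth.Agent.S4367

/-! Reduced (locally) closed subschemes (helper7). -/

universe u

open AlgebraicGeometry CategoryTheory

namespace Groth.Agent.Lib.helper7.RedSub

/-- The closed subscheme defined by the vanishing ideal of a closed set is reduced. -/
theorem isReduced_subscheme_vanishingIdeal {X : Scheme.{u}} (T : TopologicalSpace.Closeds X) :
    IsReduced (Scheme.IdealSheafData.vanishingIdeal T).subscheme := by
  set I := Scheme.IdealSheafData.vanishingIdeal T
  have : ∀ V, IsReduced (I.subschemeCover.openCover.X V) := by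
    intro V
    show IsReduced (Spec (.of (Γ(X, V.1) ⧸ I.ideal V)))
    have : _root_.IsReduced (Γ(X, V.1) ⧸ I.ideal V) := by
      have h : (I.ideal V).IsRadical := by
        show (PrimeSpectrum.vanishingIdeal _).IsRadical
        exact PrimeSpectrum.isRadical_vanishingIdeal _
      exact (Ideal.isRadical_iff_quotient_reduced _).mp h
    infer_instance
  exact IsReduced.of_openCover _ I.subschemeCover.openCover

theorem range_subschemeι_vanishingIdeal {X : Scheme.{u}} (T : TopologicalSpace.Closeds X) :
    Set.range (Scheme.IdealSheafData.vanishingIdeal T).subschemeι = (T : Set X) := by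
  rw [Scheme.IdealSheafData.range_subschemeι]
  exact Scheme.IdealSheafData.coe_support_vanishingIdeal T

/-- Two closed immersions with reduced sources and the same range are isomorphic over the target. -/
theorem exists_iso_of_isClosedImmersion_of_range_eq {Y Y' U : Scheme.{u}} (c : Y ⟶ U) (c' : Y' ⟶ U)
    [IsClosedImmersion c] [IsClosedImmersion c'] [IsReduced Y] [IsReduced Y']
    (h : Set.range c = Set.range c') : ∃ e : Y ≅ Y', e.hom ≫ c' = c := by
  obtain ⟨a, ha⟩ := Groth.Agent.S4367.result c c' h.le
  obtain ⟨b, hb⟩ := Groth.Agent.S4367.result c' c h.ge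
  have hab : a ≫ b = 𝟙 _ := by
    rw [← cancel_mono c, Category.assoc, hb, ha, Category.id_comp]
  have hba : b ≫ a = 𝟙 _ := by
    rw [← cancel_mono c', Category.assoc, ha, hb, Category.id_comp]
  exact ⟨⟨a, b, hab, hba⟩, ha⟩

end Groth.Agent.Lib.helper7.RedSub
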