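import Mathlib

/-! Uniqueness of spreading out for targets locally of finite type (helper7). -/

namespace Groth.Agent.Lib.helper7

universe u

open AlgebraicGeometry CategoryTheory Opposite TopologicalSpace

set_option backward.isDefEq.respectTransparency.types false in
theorem spread_out_unique_of_locallyOfFiniteType
    {X Y S : Scheme.{u}} (sX : X ⟶ S) (sY : Y ⟶ S) [LocallyOfFiniteType sY]
    (f g : X ⟶ Y) (hf : f ≫ sY = sX) (hg : g ≫ sY = sX) {x : X} (e : f x = g x)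
    (H : f.stalkMap x =
      Y.presheaf.stalkSpecializes (Inseparable.of_eq e.symm).specializes ≫ g.stalkMap x) :
    ∃ U : X.Opens, x ∈ U ∧ U.ι ≫ f = U.ι ≫ g := by
  classical
  obtain ⟨_, ⟨W : S.Opens, hW, rfl⟩, hxW, -⟩ :=
    S.isBasis_affineOpens.exists_subset_of_mem_open (Set.mem_univ (sY (f x))) isOpen_univ
  obtain ⟨_, ⟨V : Y.Opens, hV, rfl⟩, hxV, hVW⟩ :=
    Y.isBasis_affineOpens.exists_subset_of_mem_open
      (show f x ∈ (sY ⁻¹ᵁ W : Y.Opens) from hxW) (sY ⁻¹ᵁ W).2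
  have hxV' : g x ∈ V := e ▸ hxV
  obtain ⟨_, ⟨U₀ : X.Opens, hU₀, rfl⟩, hxU₀, hU₀V⟩ :=
    X.isBasis_affineOpens.exists_subset_of_mem_open
      (show x ∈ (f ⁻¹ᵁ V ⊓ g ⁻¹ᵁ V : X.Opens) from ⟨hxV, hxV'⟩) (f ⁻¹ᵁ V ⊓ g ⁻¹ᵁ V).2
  have hU₀f : U₀ ≤ f ⁻¹ᵁ V := fun _ h => (hU₀V h).1
  have hU₀g : U₀ ≤ g ⁻¹ᵁ V := fun _ h => (hU₀V h).2
  have hft := sY.finiteType_appLE hW hV hVW
  -- germs agree
  have hgerm : f.appLE V U₀ hU₀f ≫ X.presheaf.germ U₀ x hxU₀ =
      g.appLE V U₀ hU₀g ≫ X.presheaf.germ U₀ x hxU₀ := by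
    simp only [Scheme.Hom.appLE, Category.assoc, X.presheaf.germ_res', ← Scheme.Hom.germ_stalkMap, H]
    simp only [TopCat.Presheaf.germ_stalkSpecializes_assoc, Scheme.Hom.germ_stalkMap]
  letI algV : Algebra Γ(S, W) Γ(Y, V) := (sY.appLE W V hVW).hom.toAlgebra
  have hft' : Algebra.FiniteType Γ(S, W) Γ(Y, V) := hft
  obtain ⟨t, ht⟩ := hft'.out
  -- shrink the neighbourhood so that the two maps agree on a finite set
  have hfin : ∀ t' : Finset Γ(Y, V), ∃ (U : X.Opens) (hU : U ≤ U₀), x ∈ U ∧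
      ∀ b ∈ t', (f.appLE V U (hU.trans hU₀f)).hom b = (g.appLE V U (hU.trans hU₀g)).hom b := by
    intro t'
    induction t' using Finset.induction_on with
    | empty => exact ⟨U₀, le_rfl, hxU₀, by simp⟩
    | insert b t' _ ih =>
      obtain ⟨U, hU, hxU, hUt⟩ := ih
      have hb : X.presheaf.germ U₀ x hxU₀ ((f.appLE V U₀ hU₀f).hom b) =
          X.presheaf.germ U₀ x hxU₀ ((g.appLE V U₀ hU₀g).hom b) := by
        have := congrArg (fun k => k.hom b) hgerm
        simpa using this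
      obtain ⟨W', hxW', i₁, i₂, hW'⟩ := X.presheaf.germ_eq x hxU₀ hxU₀ _ _ hb
      refine ⟨U ⊓ W', inf_le_left.trans hU, ⟨hxU, hxW'⟩, ?_⟩
      intro c hc
      rw [Finset.mem_insert] at hc
      rcases hc with rfl | hc
      · have h1 := Scheme.Hom.appLE_map f hU₀f (homOfLE (inf_le_right.trans i₁.le : U ⊓ W' ≤ U₀)).op
        have h2 := Scheme.Hom.appLE_map g hU₀g (homOfLE (inf_le_right.trans i₁.le : U ⊓ W' ≤ U₀)).op
        rw [← h1, ← h2]
        have h3 : (homOfLE (inf_le_right.trans i₁.le : U ⊓ W' ≤ U₀)).op =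
            i₁.op ≫ (homOfLE (inf_le_right : U ⊓ W' ≤ W')).op := rfl
        have h4 : (homOfLE (inf_le_right.trans i₁.le : U ⊓ W' ≤ U₀)).op =
            i₂.op ≫ (homOfLE (inf_le_right : U ⊓ W' ≤ W')).op := rfl
        simp only [CommRingCat.hom_comp, RingHom.coe_comp, Function.comp_apply]
        conv_lhs => rw [h3]
        conv_rhs => rw [h4]
        simp only [Functor.map_comp, CommRingCat.hom_comp, RingHom.coe_comp, Function.comp_apply]
        exact congrArg _ hW'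
      · have h1 := Scheme.Hom.appLE_map f (hU.trans hU₀f) (homOfLE (inf_le_left : U ⊓ W' ≤ U)).op
        have h2 := Scheme.Hom.appLE_map g (hU.trans hU₀g) (homOfLE (inf_le_left : U ⊓ W' ≤ U)).op
        rw [← h1, ← h2]
        simp only [CommRingCat.hom_comp, RingHom.coe_comp, Function.comp_apply]
        exact congrArg _ (hUt c hc)
  obtain ⟨U, hU, hxU, hUt⟩ := hfin t
  refine ⟨U, hxU, ?_⟩
  have hUf : U ≤ f ⁻¹ᵁ V := hU.trans hU₀f
  have hUg : U ≤ g ⁻¹ᵁ V := hU.trans hU₀g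
  have hUW : U ≤ sX ⁻¹ᵁ W := by
    intro z hz
    have : f z ∈ V := hUf hz
    have h2 : sY (f z) ∈ W := hVW this
    rw [← hf]
    exact h2
  have key : f.appLE V U hUf = g.appLE V U hUg := by
    letI algU : Algebra Γ(S, W) Γ(X, U) := (sX.appLE W U hUW).hom.toAlgebra
    have hcongr : ∀ (a b : X ⟶ S) (h : a = b) (e₁ : U ≤ a ⁻¹ᵁ W),
        a.appLE W U e₁ = b.appLE W U (h ▸ e₁) := by
      rintro a b rfl e₁; rfl
    have c1 : sY.appLE W V hVW ≫ f.appLE V U hUf = sX.appLE W U hUW := by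
      rw [Scheme.Hom.appLE_comp_appLE]
      exact hcongr _ _ hf _
    have c2 : sY.appLE W V hVW ≫ g.appLE V U hUg = sX.appLE W U hUW := by
      rw [Scheme.Hom.appLE_comp_appLE]
      exact hcongr _ _ hg _
    let φ' : Γ(Y, V) →ₐ[Γ(S, W)] Γ(X, U) :=
      { (f.appLE V U hUf).hom with
        commutes' := fun r => congrArg (fun k => k.hom r) c1 }
    let ψ' : Γ(Y, V) →ₐ[Γ(S, W)] Γ(X, U) :=
      { (g.appLE V U hUg).hom with
        commutes' := fun r => congrArg (fun k => k.hom r) c2 }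
    have hφψ : φ' = ψ' := AlgHom.ext_of_adjoin_eq_top ht (fun b hb => hUt b hb)
    ext b
    exact AlgHom.congr_fun hφψ b
  rw [← Scheme.Hom.resLE_comp_ι _ hUf, ← Scheme.Hom.resLE_comp_ι _ hUg]
  congr 1
  have : IsAffine V := hV
  suffices ∀ (U₁ V₁) (eU : U = U₁) (eV : V = V₁),
      f.appLE V₁ U₁ (eU ▸ eV ▸ hUf) = g.appLE V₁ U₁ (eU ▸ eV ▸ hUg) by
    rw [← cancel_mono V.toScheme.isoSpec.hom]
    simp only [Scheme.isoSpec, asIso_hom, Scheme.toSpecΓ_naturality,
      Scheme.Hom.app_eq_appLE, Scheme.Hom.resLE_appLE]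
    congr 2
    apply this <;> simp
  rintro U V rfl rfl
  exact key

set_option backward.isDefEq.respectTransparency.types false in
theorem spread_out_unique_of_locallyOfFiniteType'
    {X Y S : Scheme.{u}} (sX : X ⟶ S) (sY : Y ⟶ S) [LocallyOfFiniteType sY]
    (f g : X ⟶ Y) (hf : f ≫ sY = sX) (hg : g ≫ sY = sX) {x : X}
    (e : X.fromSpecStalk x ≫ f = X.fromSpecStalk x ≫ g) :
    ∃ U : X.Opens, x ∈ U ∧ U.ι ≫ f = U.ι ≫ g := by
  fapply spread_out_unique_of_locallyOfFiniteType sX sY f g hf hg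
  · simpa using congr($e (IsLocalRing.closedPoint _))
  · apply Spec.map_injective
    rw [← cancel_mono (Y.fromSpecStalk _)]
    simpa [Scheme.SpecMap_stalkSpecializes_fromSpecStalk]

set_option backward.defeqAttrib.useBackward true in
set_option backward.isDefEq.respectTransparency false in
theorem partialMap_equiv_of_fromSpecStalkOfMem_eq_of_locallyOfFiniteType
    {X Y S : Scheme.{u}} [X.Over S] [Y.Over S] [IrreducibleSpace X]
    [LocallyOfFiniteType (Y ↘ S)]
    {x : X} (f g : X.PartialMap Y) [f.IsOver S] [g.IsOver S]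
    (hxf : x ∈ f.domain) (hxg : x ∈ g.domain)
    (H : f.fromSpecStalkOfMem hxf = g.fromSpecStalkOfMem hxg) : f.equiv g := by
  have hdense : Dense ((f.domain ⊓ g.domain) : Set X) :=
    f.dense_domain.inter_of_isOpen_left g.dense_domain f.domain.2
  have hfS : f.hom ≫ (Y ↘ S) = f.domain.ι ≫ (X ↘ S) := CategoryTheory.comp_over f.hom S
  have hgS : g.hom ≫ (Y ↘ S) = g.domain.ι ≫ (X ↘ S) := CategoryTheory.comp_over g.hom S
  have := spread_out_unique_of_locallyOfFiniteType' (X := (f.domain ⊓ g.domain).toScheme)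
    ((f.domain ⊓ g.domain).ι ≫ (X ↘ S)) (Y ↘ S)
    (X.homOfLE inf_le_left ≫ f.hom) (X.homOfLE inf_le_right ≫ g.hom)
    (by rw [Category.assoc, hfS, Scheme.homOfLE_ι_assoc])
    (by rw [Category.assoc, hgS, Scheme.homOfLE_ι_assoc]) (x := ⟨x, hxf, hxg⟩) ?_
  · obtain ⟨U, hxU, e⟩ := this
    refine ⟨(f.domain ⊓ g.domain).ι ''ᵁ U, ((f.domain ⊓ g.domain).ι ''ᵁ U).2.dense
      ⟨_, ⟨_, hxU, rfl⟩⟩,
      ((Set.image_subset_range _ _).trans_eq (Subtype.range_val)).trans inf_le_left,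
      ((Set.image_subset_range _ _).trans_eq (Subtype.range_val)).trans inf_le_right, ?_⟩
    rw [← cancel_epi (Scheme.Hom.isoImage _ _).hom]
    simp only [Scheme.PartialMap.restrict_hom, ← Category.assoc] at e ⊢
    convert! e using 2 <;> rw [← cancel_mono (Scheme.Opens.ι _)] <;> simp
  · rw [← f.fromSpecStalkOfMem_restrict hdense inf_le_left ⟨hxf, hxg⟩,
      ← g.fromSpecStalkOfMem_restrict hdense inf_le_right ⟨hxf, hxg⟩] at H
    simpa only [Scheme.PartialMap.fromSpecStalkOfMem, Scheme.PartialMap.restrict_domain,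
      Scheme.Opens.fromSpecStalkOfMem, Spec.map_inv,
      Scheme.PartialMap.restrict_hom, Category.assoc, IsIso.eq_inv_comp,
      IsIso.hom_inv_id_assoc] using H

end Groth.Agent.Lib.helper7
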