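import Mathlib
import Groth.Agent.Lib.helper7.TensorDim3

/-!
# Dimension of the components of a product of integral schemes of finite type over a field
-/

universe u

open TensorProduct AlgebraicGeometry CategoryTheory Limits

namespace Groth.Agent.Lib.helper7.TensorDim

open Groth.Agent.Lib.helper7.DimSch

/-- For an integral scheme locally of finite type over `k`, nonempty affine opens have the
dimension of `X`. -/
theorem ringKrullDim_of_isAffineOpen_of_isIntegral {k : Type u} [Field k] {X : Scheme.{u}}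
    (f : X ⟶ Spec (CommRingCat.of k)) [IsIntegral X] [LocallyOfFiniteType f]
    (U : X.Opens) (hU : IsAffineOpen U) (hne : (U : Set X).Nonempty) :
    ringKrullDim Γ(X, U) = topologicalKrullDim X := by
  letI : X.Over (Spec (CommRingCat.of k)) := ⟨f⟩
  haveI : LocallyOfFiniteType (X ↘ Spec (CommRingCat.of k)) := ‹LocallyOfFiniteType f›
  obtain ⟨n, hn⟩ := exists_trdeg_genericPoint k X
  rw [topologicalKrullDim_of_irreducible k X n hn,
    ← topologicalKrullDim_opens_of_irreducible k X n hn U hne,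
    ← DimBC.topologicalKrullDim_Spec]
  exact (IsHomeomorph.topologicalKrullDim_eq _ hU.isoSpec.hom.homeomorph.isHomeomorph).symm

set_option backward.isDefEq.respectTransparency false in
/-- Every irreducible component of `X ×_k Y` has dimension `dim X + dim Y`, for integral schemes
locally of finite type over a field. -/
theorem topologicalKrullDim_irreducibleComponent_prod {k : Type u} [Field k] {X Y : Scheme.{u}}
    (f : X ⟶ Spec (CommRingCat.of k)) (g : Y ⟶ Spec (CommRingCat.of k)) [IsIntegral X]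
    [IsIntegral Y] [LocallyOfFiniteType f] [LocallyOfFiniteType g] (Z : Set ↥(pullback f g))
    (hZ : Z ∈ irreducibleComponents ↥(pullback f g)) :
    topologicalKrullDim ↥Z = topologicalKrullDim ↥X + topologicalKrullDim ↥Y := by
  letI : (pullback f g).Over (Spec (CommRingCat.of k)) := ⟨pullback.fst f g ≫ f⟩
  haveI : LocallyOfFiniteType ((pullback f g) ↘ Spec (CommRingCat.of k)) :=
    (inferInstance : LocallyOfFiniteType (pullback.fst f g ≫ f))
  have hZc : IsClosed Z := isClosed_of_mem_irreducibleComponents Z hZ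
  obtain ⟨z, hz⟩ := QuasiSober.sober hZ.1 hZc
  have hmaxz := (Groth.Agent.Lib.helper7.DimSch.closure_mem_irreducibleComponents_iff z).mp
    (by rw [hz.def]; exact hZ)
  have hZeq : topologicalKrullDim ↥Z = topologicalKrullDim ↥(closure ({z} : Set _)) := by
    rw [hz.def]
  rw [hZeq, topologicalKrullDim_closure_singleton k (pullback f g) z]
  obtain ⟨_, ⟨U, hU, rfl⟩, hxU, -⟩ := X.isBasis_affineOpens.exists_subset_of_mem_open
      (Set.mem_univ (pullback.fst f g z)) isOpen_univ
  obtain ⟨_, ⟨V, hV, rfl⟩, hyV, -⟩ := Y.isBasis_affineOpens.exists_subset_of_mem_open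
      (Set.mem_univ (pullback.snd f g z)) isOpen_univ
  rw [← ringKrullDim_of_isAffineOpen_of_isIntegral f U hU ⟨_, hxU⟩,
    ← ringKrullDim_of_isAffineOpen_of_isIntegral g V hV ⟨_, hyV⟩]
  haveI : Nonempty U := ⟨⟨_, hxU⟩⟩
  haveI : Nonempty V := ⟨⟨_, hyV⟩⟩
  haveI : IsDomain Γ(X, U) := inferInstance
  haveI : IsDomain Γ(Y, V) := inferInstance
  obtain ⟨ψA, hψA⟩ := Spec.map_surjective (hU.fromSpec ≫ f)
  obtain ⟨ψB, hψB⟩ := Spec.map_surjective (hV.fromSpec ≫ g)
  algebraize [ψA.hom, ψB.hom]
  haveI : Algebra.FiniteType k Γ(X, U) := by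
    have h1 : LocallyOfFiniteType (Spec.map ψA) := by rw [hψA]; infer_instance
    rw [HasRingHomProperty.Spec_iff (P := @LocallyOfFiniteType)] at h1
    exact h1
  haveI : Algebra.FiniteType k Γ(Y, V) := by
    have h1 : LocallyOfFiniteType (Spec.map ψB) := by rw [hψB]; infer_instance
    rw [HasRingHomProperty.Spec_iff (P := @LocallyOfFiniteType)] at h1
    exact h1
  let φ : pullback (hU.fromSpec ≫ f) (hV.fromSpec ≫ g) ⟶ pullback f g :=
    pullback.map (hU.fromSpec ≫ f) (hV.fromSpec ≫ g) f g hU.fromSpec hV.fromSpec (𝟙 _)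
      (by simp) (by simp)
  have hφr : Set.range φ = pullback.fst f g ⁻¹' (U : Set X) ∩ pullback.snd f g ⁻¹' (V : Set Y) := by
    rw [Scheme.Pullback.range_map, hU.range_fromSpec, hV.range_fromSpec]
  have hw : z ∈ Set.range φ := by rw [hφr]; exact ⟨hxU, hyV⟩
  obtain ⟨t, rfl⟩ := hw
  letI : (pullback (hU.fromSpec ≫ f) (hV.fromSpec ≫ g)).Over (Spec (CommRingCat.of k)) :=
    ⟨φ ≫ pullback.fst f g ≫ f⟩
  haveI : LocallyOfFiniteType
      ((pullback (hU.fromSpec ≫ f) (hV.fromSpec ≫ g)) ↘ Spec (CommRingCat.of k)) :=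
    (inferInstance : LocallyOfFiniteType (φ ≫ pullback.fst f g ≫ f))
  have hφK : φ ≫ ((pullback f g) ↘ Spec (CommRingCat.of k)) =
      (pullback (hU.fromSpec ≫ f) (hV.fromSpec ≫ g)) ↘ Spec (CommRingCat.of k) := rfl
  rw [← trdegNat_of_isOpenImmersion k φ hφK t, ← topologicalKrullDim_closure_singleton k _ t]
  let e : pullback (hU.fromSpec ≫ f) (hV.fromSpec ≫ g) ≅
      Spec (CommRingCat.of (TensorProduct k Γ(X, U) Γ(Y, V))) :=
    pullback.congrHom hψA.symm hψB.symm ≪≫ pullbackSpecIso k Γ(X, U) Γ(Y, V)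
  have h1 : topologicalKrullDim (closure ({t} : Set _)) =
      topologicalKrullDim (closure ({e.hom t} : Set _)) := by
    let hh := e.hom.homeomorph
    rw [IsHomeomorph.topologicalKrullDim_eq _ (hh.image (closure {t})).isHomeomorph]
    have : hh '' closure {t} = closure {e.hom t} := by
      rw [hh.image_closure, Set.image_singleton]; rfl
    rw [this]
  rw [h1, topologicalKrullDim_closure_singleton_primeSpectrum]
  have hmin : (e.hom t).asIdeal ∈ minimalPrimes (Γ(X, U) ⊗[k] Γ(Y, V)) := by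
    refine ⟨⟨(e.hom t).isPrime, bot_le⟩, ?_⟩
    rintro q' ⟨hq'prime, -⟩ hq'q
    let Q' : PrimeSpectrum (Γ(X, U) ⊗[k] Γ(Y, V)) := ⟨q', hq'prime⟩
    let t' := e.inv Q'
    have ht' : e.hom t' = Q' := by
      show e.hom (e.inv Q') = Q'
      rw [← Scheme.Hom.comp_apply, Iso.inv_hom_id]
      rfl
    have hsp : t' ⤳ t := by
      rw [← e.hom.homeomorph.isInducing.specializes_iff]
      show e.hom t' ⤳ e.hom t
      rw [ht', ← PrimeSpectrum.le_iff_specializes]
      exact hq'q
    have h3 := hmaxz (φ t') (hsp.map φ.continuous)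
    have h4 : t' = t := φ.isOpenEmbedding.injective h3
    rw [← h4, ht']
  obtain ⟨n, hn, hP⟩ := exists_ringKrullDim_quotient_minimalPrimes k Γ(X, U) Γ(Y, V)
  haveI : IsNoetherianRing Γ(Y, V) := Algebra.FiniteType.isNoetherianRing k Γ(Y, V)
  rw [hP _ hmin, MvPolynomial.ringKrullDim_of_isNoetherianRing, hn, add_comm]
  simp

end Groth.Agent.Lib.helper7.TensorDim
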