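import Mathlib

/-! Veronese subrings: the projection onto degrees divisible by `d` (helper7). -/

namespace Groth.Agent.Lib.helper7

universe u

open DirectSum

section

variable {R A : Type u} [CommRing R] [CommRing A] [Algebra R A] (𝒜 : ℕ → Submodule R A)
  [GradedAlgebra 𝒜]

/-- projection onto the sum of the components of degree divisible by `d`. -/
noncomputable def vproj (d : ℕ) : A →ₗ[R] A :=
  (DirectSum.toModule R ℕ A (fun i => if d ∣ i then (𝒜 i).subtype else 0)) ∘ₗ
    (DirectSum.decomposeLinearEquiv 𝒜).toLinearMap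

lemma vproj_of_mem (d : ℕ) {i : ℕ} {x : A} (hx : x ∈ 𝒜 i) :
    vproj 𝒜 d x = if d ∣ i then x else 0 := by
  classical
  simp only [vproj, LinearMap.comp_apply, LinearEquiv.coe_coe, decomposeLinearEquiv_apply]
  rw [DirectSum.decompose_of_mem 𝒜 hx]
  erw [DirectSum.toModule_lof]
  split_ifs <;> simp

lemma vproj_mul_of_mem (d n : ℕ) (a : A) {y : A} (hy : y ∈ 𝒜 (n * d)) :
    vproj 𝒜 d (a * y) = vproj 𝒜 d a * y := by
  classical
  induction a using DirectSum.Decomposition.inductionOn 𝒜 with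
  | zero => simp
  | homogeneous x =>
    rename_i i
    have hmem : (x : A) * y ∈ 𝒜 (i + n * d) := SetLike.GradedMul.mul_mem x.2 hy
    rw [vproj_of_mem 𝒜 d hmem, vproj_of_mem 𝒜 d x.2]
    have hiff : d ∣ i + n * d ↔ d ∣ i := by
      rw [Nat.dvd_add_left (Dvd.intro_left n rfl)]
    by_cases h : d ∣ i
    · rw [if_pos h, if_pos (hiff.mpr h)]
    · rw [if_neg h, if_neg (fun h' => h (hiff.mp h')), zero_mul]
  | add a a' ha ha' => rw [add_mul, map_add, ha, ha', map_add, add_mul]

end

section Veronese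

variable {R A : Type u} [CommRing R] [CommRing A] [Algebra R A] (𝒜 : ℕ → Submodule R A)
  [GradedAlgebra 𝒜] {B : Type u} [CommRing B] [Algebra R B] (ℬ : ℕ → Submodule R B)
  [GradedAlgebra ℬ] (d : ℕ) (φ : B →ₐ[R] A)
  (hdeg : ∀ n : ℕ, Submodule.map φ.toLinearMap (ℬ n) = 𝒜 (n * d))

include hdeg in
lemma phi_mem_of_mem {n : ℕ} {b : B} (hb : b ∈ ℬ n) : φ b ∈ 𝒜 (n * d) := by
  rw [← hdeg n]
  exact ⟨b, hb, rfl⟩

include hdeg in
lemma vproj_phi (b : B) : vproj 𝒜 d (φ b) = φ b := by
  classical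
  induction b using DirectSum.Decomposition.inductionOn ℬ with
  | zero => simp
  | homogeneous x =>
    rename_i n
    rw [vproj_of_mem 𝒜 d (phi_mem_of_mem 𝒜 ℬ d φ hdeg x.2), if_pos (Dvd.intro_left n rfl)]
  | add b b' hb hb' => rw [map_add, map_add, hb, hb']

include hdeg in
lemma vproj_mul_phi (a : A) (b : B) : vproj 𝒜 d (a * φ b) = vproj 𝒜 d a * φ b := by
  classical
  induction b using DirectSum.Decomposition.inductionOn ℬ with
  | zero => simp
  | homogeneous x =>
    rename_i n
    exact vproj_mul_of_mem 𝒜 d n a (phi_mem_of_mem 𝒜 ℬ d φ hdeg x.2)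
  | add b b' hb hb' => rw [map_add, mul_add, map_add, hb, hb', mul_add]

include hdeg in
lemma vproj_mem_range (a : A) : ∃ c : B, vproj 𝒜 d a = φ c := by
  classical
  induction a using DirectSum.Decomposition.inductionOn 𝒜 with
  | zero => exact ⟨0, by simp⟩
  | homogeneous x =>
    rename_i i
    rw [vproj_of_mem 𝒜 d x.2]
    by_cases h : d ∣ i
    · rw [if_pos h]
      obtain ⟨n, rfl⟩ := h
      have hx : (x : A) ∈ 𝒜 (n * d) := by rw [mul_comm]; exact x.2
      rw [← hdeg n] at hx
      obtain ⟨c, _, hc⟩ := hx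
      exact ⟨c, hc.symm⟩
    · rw [if_neg h]; exact ⟨0, by simp⟩
  | add a a' ha ha' =>
    obtain ⟨c, hc⟩ := ha
    obtain ⟨c', hc'⟩ := ha'
    exact ⟨c + c', by rw [map_add, map_add, hc, hc']⟩

include hdeg in
theorem comap_map_eq (hφ : Function.Injective φ) (I : Ideal B) :
    Ideal.comap φ (Ideal.map φ I) = I := by
  apply le_antisymm _ Ideal.le_comap_map
  intro b hb
  rw [Ideal.mem_comap] at hb
  have key : ∀ z ∈ Ideal.map φ I, ∀ a : A, ∃ c ∈ I, vproj 𝒜 d (a * z) = φ c := by
    intro z hz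
    refine Submodule.span_induction ?_ ?_ ?_ ?_ hz
    · rintro _ ⟨x, hx, rfl⟩ a
      obtain ⟨c', hc'⟩ := vproj_mem_range 𝒜 ℬ d φ hdeg a
      refine ⟨c' * x, I.mul_mem_left _ hx, ?_⟩
      change vproj 𝒜 d (a * φ x) = _
      rw [vproj_mul_phi 𝒜 ℬ d φ hdeg, hc', map_mul]
    · intro a; exact ⟨0, I.zero_mem, by simp⟩
    · intro z z' _ _ hz hz' a
      obtain ⟨c, hc, h1⟩ := hz a
      obtain ⟨c', hc', h2⟩ := hz' a
      exact ⟨c + c', I.add_mem hc hc', by rw [mul_add, map_add, h1, h2, map_add]⟩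
    · intro a' z _ hz a
      obtain ⟨c, hc, h1⟩ := hz (a * a')
      exact ⟨c, hc, by rw [smul_eq_mul, ← mul_assoc]; exact h1⟩
  obtain ⟨c, hc, h1⟩ := key _ hb 1
  rw [one_mul, vproj_phi 𝒜 ℬ d φ hdeg] at h1
  rw [hφ h1]; exact hc

include hdeg in
theorem veronese_isNoetherianRing [IsNoetherianRing A] (hφ : Function.Injective φ) :
    IsNoetherianRing B := by
  let f : Ideal B ↪o Ideal A :=
    { toFun := fun I => Ideal.map φ I
      inj' := fun I J h => by
        have h1 := comap_map_eq 𝒜 ℬ d φ hdeg hφ I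
        have h2 := comap_map_eq 𝒜 ℬ d φ hdeg hφ J
        simp only at h
        rw [← h1, h, h2]
      map_rel_iff' := by
        intro I J
        constructor
        · intro h
          have h1 := comap_map_eq 𝒜 ℬ d φ hdeg hφ I
          have h2 := comap_map_eq 𝒜 ℬ d φ hdeg hφ J
          rw [← h1, ← h2]
          exact Ideal.comap_mono h
        · intro h; exact Ideal.map_mono h }
  have : WellFoundedGT (Ideal A) := isNoetherian_iff'.mp inferInstance
  exact isNoetherian_iff'.mpr f.wellFoundedGT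

include hdeg in
theorem veronese_finiteType [Algebra.FiniteType (𝒜 0) A] (hd : 0 < d)
    (hφ : Function.Injective φ) : Algebra.FiniteType (ℬ 0) B := by
  classical
  obtain ⟨s, hs, hhom⟩ := GradedAlgebra.exists_finset_adjoin_eq_top_and_homogeneous_ne_zero 𝒜
  letI algBA : Algebra B A := φ.toRingHom.toAlgebra
  have halg : ∀ b : B, algebraMap B A b = φ b := fun _ => rfl
  have hzero : ∀ r : 𝒜 0, ∃ b : ℬ 0, φ (b : B) = (r : A) := by
    intro r
    have hr : (r : A) ∈ 𝒜 (0 * d) := by rw [zero_mul]; exact r.2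
    rw [← hdeg 0] at hr
    obtain ⟨b, hb, hbr⟩ := hr
    exact ⟨⟨b, hb⟩, hbr⟩
  letI algZA : Algebra (ℬ 0) A := ((algebraMap B A).comp (algebraMap (ℬ 0) B)).toAlgebra
  haveI : @IsScalarTower (ℬ 0) B A Algebra.toSMul Algebra.toSMul Algebra.toSMul :=
    IsScalarTower.of_algebraMap_eq (fun _ => rfl)
  -- A is of finite type over ℬ 0
  have hAC : (⊤ : Subalgebra (ℬ 0) A).FG := by
    refine ⟨s, ?_⟩
    rw [eq_top_iff]
    intro x _
    have hx : x ∈ Algebra.adjoin (𝒜 0) (s : Set A) := by rw [hs]; trivial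
    induction hx using Algebra.adjoin_induction with
    | mem x hx => exact Algebra.subset_adjoin hx
    | algebraMap r =>
      obtain ⟨b, hb⟩ := hzero r
      have : algebraMap (𝒜 0) A r = algebraMap (ℬ 0) A b := hb.symm
      rw [this]
      exact Subalgebra.algebraMap_mem _ b
    | add x y _ _ hx hy => exact add_mem (hx trivial) (hy trivial)
    | mul x y _ _ hx hy => exact mul_mem (hx trivial) (hy trivial)
  -- A is a finite B-module
  have hBC : (⊤ : Submodule B A).FG := by
    have hint : ∀ x ∈ (s : Set A), IsIntegral B x := by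
      intro x hx
      obtain ⟨i, _, hxi⟩ := hhom x hx
      have hxd : x ^ d ∈ 𝒜 (i * d) := by
        have := SetLike.pow_mem_graded d hxi
        rwa [smul_eq_mul, mul_comm] at this
      rw [← hdeg i] at hxd
      obtain ⟨b, _, hb⟩ := hxd
      refine ⟨Polynomial.X ^ d - Polynomial.C b, Polynomial.monic_X_pow_sub_C b hd.ne', ?_⟩
      simp only [Polynomial.eval₂_sub, Polynomial.eval₂_pow, Polynomial.eval₂_X,
        Polynomial.eval₂_C, halg]
      rw [sub_eq_zero]; exact hb.symm
    have hfg := fg_adjoin_of_finite s.finite_toSet hint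
    have htop : Algebra.adjoin B (s : Set A) = ⊤ := by
      rw [eq_top_iff]
      intro x _
      have hx : x ∈ Algebra.adjoin (𝒜 0) (s : Set A) := by rw [hs]; trivial
      induction hx using Algebra.adjoin_induction with
      | mem x hx => exact Algebra.subset_adjoin hx
      | algebraMap r =>
        obtain ⟨b, hb⟩ := hzero r
        have : algebraMap (𝒜 0) A r = algebraMap B A (b : B) := hb.symm
        rw [this]
        exact Subalgebra.algebraMap_mem _ _
      | add x y _ _ hx hy => exact add_mem (hx trivial) (hy trivial)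
      | mul x y _ _ hx hy => exact mul_mem (hx trivial) (hy trivial)
    rw [htop] at hfg
    simpa using hfg
  obtain ⟨B₀, hB₀fg, hB₀C⟩ := exists_subalgebra_of_fg (ℬ 0) B A hAC hBC
  -- the retraction A → B, B-linear
  let vprojB : A →ₗ[B] A :=
    { toFun := vproj 𝒜 d
      map_add' := map_add _
      map_smul' := fun b a => by
        simp only [RingHom.id_apply, Algebra.smul_def, halg]
        rw [mul_comm, vproj_mul_phi 𝒜 ℬ d φ hdeg, mul_comm] }
  let φl : B →ₗ[B] A := (Algebra.linearMap B A)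
  have hφl : Function.Injective φl := hφ
  have hrange : ∀ a : A, vprojB a ∈ LinearMap.range φl := by
    intro a
    obtain ⟨c, hc⟩ := vproj_mem_range 𝒜 ℬ d φ hdeg a
    exact ⟨c, hc.symm⟩
  let ψ : A →ₗ[B] B :=
    (LinearEquiv.ofInjective φl hφl).symm.toLinearMap ∘ₗ
      (vprojB.codRestrict (LinearMap.range φl) hrange)
  have hψ : ∀ b : B, ψ (φ b) = b := by
    intro b
    simp only [ψ, LinearMap.comp_apply, LinearEquiv.coe_coe]
    rw [LinearEquiv.symm_apply_eq]
    apply Subtype.ext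
    change vproj 𝒜 d (φ b) = φ b
    exact vproj_phi 𝒜 ℬ d φ hdeg b
  have hψsurj : Function.Surjective (ψ.restrictScalars B₀) := fun b => ⟨φ b, hψ b⟩
  have hB₀B : (⊤ : Submodule B₀ B).FG := by
    have := hB₀C.map (ψ.restrictScalars B₀)
    rwa [Submodule.map_top, LinearMap.range_eq_top.mpr hψsurj] at this
  exact ⟨Algebra.fg_trans' (B₀.fg_top.2 hB₀fg) (Subalgebra.fg_of_submodule_fg hB₀B)⟩

end Veronese

end Groth.Agent.Lib.helper7
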